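import Cfsg.Agent.MinSimple.Geo
import Cfsg.Agent.MinSimple.Basic
import Cfsg.Agent.Lib.NormalAbelian

section


/-!
# The point-line geometry of a flag `(z, V)`, `|V| = 4`, without solvability

`Ln T V z`: `z` is an involution of the four-group `V`, `T` is a common Sylow 2-subgroup of `C_G(z)` and `N_G(V)`,
`Ω₁Z(T) = ⟨z⟩`, `N_G(V)` is transitive on `V#`, and `G` has characteristic 2 type.  This is
`MinSimple.Geo.Geo` without the solvability of the 2-local subgroups and without the condition that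
`⟨N_G(V), C_G(z)⟩` is not local.
-/

set_option autoImplicit false
set_option linter.style.haveILetI false

namespace Cfsg.Agent.Omega.CaseL

open Subgroup Cfsg Cfsg.Agent.ZN Cfsg.Agent.MinSimple.Geo
open Cfsg.Agent.ZN.Block (conj_mem_of_normalizer conj_mem_of_normalizer' le_normalizer_of_forall
  mem_normalizer_of)

universe u

variable {G : Type u} [Group G]

/-- A flag `(z, V)` with a common Sylow 2-subgroup `T`. -/
structure Ln (T V : Subgroup G) (z : G) : Prop where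
  charTwo : IsCharacteristicTwoType G
  two : IsPGroup 2 T
  T_le : T ≤ centralizer ({z} : Set G)
  T_syl : ¬ 2 ∣ T.relIndex (centralizer ({z} : Set G))
  V_le : V ≤ T
  T_norm : T ≤ normalizer (V : Set G)
  T_syl' : ¬ 2 ∣ T.relIndex (normalizer (V : Set G))
  card_V : Nat.card V = 4
  sq : ∀ v ∈ V, v * v = 1
  z_mem : z ∈ V
  z_ne : z ≠ 1
  trans : ∀ v ∈ V, v ≠ 1 → ∃ g ∈ normalizer (V : Set G), g * z * g⁻¹ = v
  soc : ∀ t ∈ T, t * t = 1 → (∀ s ∈ T, s * t = t * s) → t = 1 ∨ t = z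

theorem Ln.of_geo {T V : Subgroup G} {z : G} (h : MinSimple.Geo.Geo T V z) : Ln T V z where
  charTwo := h.charTwo
  two := h.two
  T_le := h.T_le
  T_syl := h.T_syl
  V_le := h.V_le
  T_norm := h.T_norm
  T_syl' := h.T_syl'
  card_V := h.card_V
  sq := h.sq
  z_mem := h.z_mem
  z_ne := h.z_ne
  trans := h.trans
  soc := h.soc

theorem lines_cj (V : Subgroup G) (g x : G) : lines (cj g V) x = lines V x := by
  ext L
  constructor
  · rintro ⟨⟨k, rfl⟩, hx⟩
    exact ⟨⟨k * g, cj_cj _ _ _⟩, hx⟩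
  · rintro ⟨⟨k, rfl⟩, hx⟩
    refine ⟨⟨k * g⁻¹, ?_⟩, hx⟩
    rw [cj_cj, inv_mul_cancel_right]

/-- `ws V x` depends only on the class of `V` -/
theorem ws_cj (V : Subgroup G) (g x : G) : ws (cj g V) x = ws V x := by
  unfold ws
  rw [lines_cj]

/-- a conjugate in a Sylow 2-subgroup -/
theorem exists_cj_le_of_sylow [Finite G] {C T A : Subgroup G} (_ : T ≤ C) (hT : IsPGroup 2 T)
    (hs : ¬ 2 ∣ T.relIndex C) (hAC : A ≤ C) (hA : IsPGroup 2 A) : ∃ c ∈ C, cj c A ≤ T := by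
  haveI : Fact (Nat.Prime 2) := ⟨Nat.prime_two⟩
  have hT' : IsPGroup 2 (T.subgroupOf C) := hT.comap_of_injective _ C.subtype_injective
  have hA' : IsPGroup 2 (A.subgroupOf C) := hA.comap_of_injective _ C.subtype_injective
  obtain ⟨Q, hQ⟩ := hA'.exists_le_sylow
  obtain ⟨g, hg⟩ := MulAction.exists_smul_eq C Q (hT'.toSylow hs)
  refine ⟨g, g.2, ?_⟩
  rintro _ ⟨x, hx, rfl⟩
  have h1 : (⟨x, hAC hx⟩ : C) ∈ (Q : Subgroup C) := hQ (mem_subgroupOf.mpr hx)
  have h2 : (MulAut.conj g) ⟨x, hAC hx⟩ ∈ ((g • Q : Sylow 2 C) : Subgroup C) := by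
    rw [Sylow.smul_def]
    exact Subgroup.smul_mem_pointwise_smul _ (MulAut.conj g) _ h1
  rw [hg] at h2
  exact mem_subgroupOf.mp h2

namespace Ln

variable {T V : Subgroup G} {z : G}

theorem zz (h : Ln T V z) : z * z = 1 := h.sq z h.z_mem

theorem comm (h : Ln T V z) {a b : G} (ha : a ∈ V) (hb : b ∈ V) : a * b = b * a := by
  have h1 := h.sq _ (mul_mem ha hb)
  have h2 := h.sq a ha
  have h3 := h.sq b hb
  calc a * b = (a * b)⁻¹ := (inv_eq_self h1).symm
    _ = b⁻¹ * a⁻¹ := by group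
    _ = b * a := by rw [inv_eq_self h2, inv_eq_self h3]

theorem inv_eq (h : Ln T V z) {a : G} (ha : a ∈ V) : a⁻¹ = a := inv_eq_self (h.sq a ha)

theorem exists_y (h : Ln T V z) : ∃ y ∈ V, y ≠ 1 ∧ y ≠ z := by
  by_contra hcon
  push Not at hcon
  have : (V : Set G) ⊆ {1, z} := by
    intro v hv
    by_cases h1 : v = 1
    · exact Or.inl h1
    · exact Or.inr (hcon v hv h1)
  have h2 := Set.ncard_le_ncard this (Set.toFinite _)
  have h3 : (V : Set G).ncard = 4 := by rw [← h.card_V]; rfl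
  have h4 : ({1, z} : Set G).ncard = 2 := Set.ncard_pair (Ne.symm h.z_ne)
  omega

/-- the four elements of `V` -/
theorem four (h : Ln T V z) {p q : G} (hp : p ∈ V) (hq : q ∈ V) (hp1 : p ≠ 1) (hq1 : q ≠ 1)
    (hpq : p ≠ q) {v : G} (hv : v ∈ V) : v = 1 ∨ v = p ∨ v = q ∨ v = p * q := by
  have hfin : Finite V := Nat.finite_of_card_ne_zero (by rw [h.card_V]; norm_num)
  have hpq1 : p * q ≠ 1 := fun e => hpq (by
    rw [mul_eq_one_iff_eq_inv.mp e, h.inv_eq hq])
  have hpqp : p * q ≠ p := fun e => hq1 (by simpa using e)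
  have hpqq : p * q ≠ q := fun e => hp1 (by simpa using e)
  have h1 : ({1, p, q, p * q} : Set G) ⊆ (V : Set G) := by
    rintro x (rfl | rfl | rfl | rfl)
    · exact V.one_mem
    · exact hp
    · exact hq
    · exact V.mul_mem hp hq
  have h2 : ({1, p, q, p * q} : Set G).ncard = 4 := by
    rw [Set.ncard_insert_of_notMem, Set.ncard_insert_of_notMem, Set.ncard_pair (Ne.symm hpqq)]
    · rintro (e | e)
      · exact hpq e
      · exact hpqp e.symm
    · rintro (e | e | e)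
      · exact hp1 e.symm
      · exact hq1 e.symm
      · exact hpq1 e.symm
  have h3 : (V : Set G).ncard = 4 := by rw [← h.card_V]; rfl
  have h4 : ({1, p, q, p * q} : Set G) = V := Set.eq_of_subset_of_ncard_le h1 (by rw [h2, h3])
    (Set.toFinite _)
  have : v ∈ ({1, p, q, p * q} : Set G) := by rw [h4]; exact hv
  simpa using this

/-- conjugation by a centralizing-normalizing element -/
theorem conj_cases (h : Ln T V z) {p q g : G} (hp : p ∈ V) (hq : q ∈ V) (hp1 : p ≠ 1) (hgp : g * p = p * g)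
    (hg : g ∈ normalizer (V : Set G)) : g * q * g⁻¹ = q ∨ g * q * g⁻¹ = p * q := by
  have hq' : g * q * g⁻¹ ∈ V := (mem_normalizer_iff.mp hg q).mp hq
  by_cases hq1 : q = 1
  · left; rw [hq1]; group
  by_cases hpq : q = p
  · left; rw [hpq, hgp]; group
  have hn1 : g * q * g⁻¹ ≠ 1 := fun e => hq1 (by
    have : q = g⁻¹ * (g * q * g⁻¹) * g := by group
    rw [this, e]; group)
  have hnp : g * q * g⁻¹ ≠ p := fun e => hpq (by
    have : q = g⁻¹ * (g * q * g⁻¹) * g := by group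
    rw [this, e, mul_assoc, ← hgp]; group)
  rcases h.four hp hq hp1 hq1 (Ne.symm hpq) hq' with e | e | e | e
  · exact absurd e hn1
  · exact absurd e hnp
  · exact Or.inl e
  · exact Or.inr e

theorem z_comm (_ : Ln T V z) {c : G} (hc : c ∈ centralizer ({z} : Set G)) : c * z = z * c :=
  mem_centralizer_singleton_iff.mp hc

/-- conjugate situation -/
theorem conj (h : Ln T V z) (g : G) : Ln (cj g T) (cj g V) (g * z * g⁻¹) where
  charTwo := h.charTwo
  two := h.two.map _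
  T_le := by rw [← cj_centralizer_singleton]; exact cj_mono h.T_le
  T_syl := by rw [← cj_centralizer_singleton, relIndex_cj]; exact h.T_syl
  V_le := cj_mono h.V_le
  T_norm := by rw [← cj_normalizer]; exact cj_mono h.T_norm
  T_syl' := by rw [← cj_normalizer, relIndex_cj]; exact h.T_syl'
  card_V := by rw [card_cj]; exact h.card_V
  sq := by
    intro v hv
    rw [mem_cj] at hv
    have := h.sq _ hv
    have e : v * v = g * (g⁻¹ * v * g * (g⁻¹ * v * g)) * g⁻¹ := by group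
    rw [e, this]; group
  z_mem := conj_mem_cj h.z_mem
  z_ne := fun e => h.z_ne (by
    have : z = g⁻¹ * (g * z * g⁻¹) * g := by group
    rw [this, e]; group)
  trans := by
    intro v hv hv1
    rw [mem_cj] at hv
    obtain ⟨k, hk, hk2⟩ := h.trans _ hv (fun e => hv1 (by
      have : v = g * (g⁻¹ * v * g) * g⁻¹ := by group
      rw [this, e]; group))
    refine ⟨g * k * g⁻¹, ?_, ?_⟩
    · rw [← cj_normalizer]; exact conj_mem_cj hk
    · calc g * k * g⁻¹ * (g * z * g⁻¹) * (g * k * g⁻¹)⁻¹ = g * (k * z * k⁻¹) * g⁻¹ := by group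
        _ = v := by rw [hk2]; group
  soc := by
    intro t ht ht2 htc
    rw [mem_cj] at ht
    have h1 : g⁻¹ * t * g * (g⁻¹ * t * g) = 1 := by
      calc g⁻¹ * t * g * (g⁻¹ * t * g) = g⁻¹ * (t * t) * g := by group
        _ = 1 := by rw [ht2]; group
    rcases h.soc _ ht h1 (fun s hs => by
      have := htc (g * s * g⁻¹) (conj_mem_cj hs)
      calc s * (g⁻¹ * t * g) = g⁻¹ * (g * s * g⁻¹ * t) * g := by group
        _ = g⁻¹ * (t * (g * s * g⁻¹)) * g := by rw [this]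
        _ = g⁻¹ * t * g * s := by group) with e | e
    · left
      have : t = g * (g⁻¹ * t * g) * g⁻¹ := by group
      rw [this, e]; group
    · right
      have : t = g * (g⁻¹ * t * g) * g⁻¹ := by group
      rw [this, e]

/-- each point of `V` is as good as `z` -/
theorem point (h : Ln T V z) {p : G} (hp : p ∈ V) (hp1 : p ≠ 1) :
    ∃ g ∈ normalizer (V : Set G), g * z * g⁻¹ = p ∧ Ln (cj g T) V p := by
  obtain ⟨g, hg, rfl⟩ := h.trans p hp hp1
  refine ⟨g, hg, rfl, ?_⟩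
  have := h.conj g
  rwa [cj_eq_of_mem_normalizer hg] at this

theorem V_mem_lines (h : Ln T V z) : V ∈ lines V z := ⟨⟨1, (cj_one V).symm⟩, h.z_mem⟩

theorem V_le_ws (h : Ln T V z) : V ≤ ws V z := le_ws h.V_mem_lines

/-- the lines through `z` are the `C_G(z)`-conjugates of `V` -/
theorem exists_of_mem_lines (h : Ln T V z) {L : Subgroup G} (hL : L ∈ lines V z) :
    ∃ c ∈ centralizer ({z} : Set G), L = cj c V := by
  obtain ⟨⟨g, rfl⟩, hz⟩ := hL
  rw [mem_cj] at hz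
  obtain ⟨k, hk, hk2⟩ := h.trans _ hz (fun e => h.z_ne (by
    have : z = g * (g⁻¹ * z * g) * g⁻¹ := by group
    rw [this, e]; group))
  refine ⟨g * k, ?_, ?_⟩
  · rw [mem_centralizer_singleton_iff]
    calc g * k * z = g * (k * z * k⁻¹) * k := by group
      _ = z * (g * k) := by rw [hk2]; group
  · rw [← cj_cj, cj_eq_of_mem_normalizer hk]

theorem cj_mem_lines (h : Ln T V z) {c : G} (hc : c ∈ centralizer ({z} : Set G)) : cj c V ∈ lines V z := by
  refine ⟨⟨c, rfl⟩, ?_⟩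
  rw [mem_cj, mul_assoc, ← h.z_comm hc, inv_mul_cancel_left]
  exact h.z_mem

theorem V_le_o2 [Finite G] (h : Ln T V z) : V ≤ o2 (centralizer ({z} : Set G)) := by
  have hQT : o2 (centralizer ({z} : Set G)) ≤ T := o2_le_of_sylow h.T_le h.two h.T_syl
  intro v hv
  refine mem_o2_of_stab h.charTwo h.zz h.z_ne (h.T_le (h.V_le hv)) fun q hq => ?_
  have hqT := hQT hq
  rcases h.conj_cases h.z_mem (inv_mem hv) h.z_ne (h.z_comm (h.T_le hqT)) (h.T_norm hqT) with e | e
  · have : v * q * v⁻¹ * q⁻¹ = v * (q * v⁻¹ * q⁻¹) := by group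
    rw [this, e, mul_inv_cancel]; exact one_mem _
  · have : v * q * v⁻¹ * q⁻¹ = v * (q * v⁻¹ * q⁻¹) := by group
    rw [this, e, ← mul_assoc, h.comm hv h.z_mem, mul_assoc, mul_inv_cancel, mul_one]
    exact mem_zpowers z

theorem ws_le_o2 [Finite G] (h : Ln T V z) : ws V z ≤ o2 (centralizer ({z} : Set G)) := by
  refine ws_le fun L hL => ?_
  obtain ⟨c, hc, rfl⟩ := h.exists_of_mem_lines hL
  have := cj_mono (g := c) h.V_le_o2
  rwa [cj_eq_of_mem_normalizer (le_normalizer_o2 _ hc)] at this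

theorem o2_le_T [Finite G] (h : Ln T V z) : o2 (centralizer ({z} : Set G)) ≤ T :=
  o2_le_of_sylow h.T_le h.two h.T_syl

theorem ws_le_T [Finite G] (h : Ln T V z) : ws V z ≤ T := h.ws_le_o2.trans h.o2_le_T

theorem ws_le_centralizer [Finite G] (h : Ln T V z) : ws V z ≤ centralizer ({z} : Set G) :=
  h.ws_le_T.trans h.T_le

theorem ws_le_normalizer [Finite G] (h : Ln T V z) : ws V z ≤ normalizer (V : Set G) :=
  h.ws_le_T.trans h.T_norm

/-- `[V, O₂(C_G(z))] ≤ ⟨z⟩` and the same for `ws V z`. -/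
theorem comm_mem [Finite G] (h : Ln T V z) {w q : G} (hw : w ∈ ws V z)
    (hq : q ∈ o2 (centralizer ({z} : Set G))) : w * q * w⁻¹ * q⁻¹ ∈ zpowers z := by
  set C := centralizer ({z} : Set G) with hC
  have hzc : ∀ c ∈ C, ∀ y ∈ zpowers z, c * y * c⁻¹ = y := by
    intro c hc y hy
    obtain ⟨n, rfl⟩ := mem_zpowers_iff.mp hy
    have h : Commute c z := mem_centralizer_singleton_iff.mp hc
    rw [(h.zpow_right n).eq, mul_inv_cancel_right]
  let A : Subgroup G :=
    { carrier := {g | g ∈ C ∧ ∀ q ∈ o2 C, g * q * g⁻¹ * q⁻¹ ∈ zpowers z}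
      mul_mem' := by
        rintro a b ⟨ha, ha1⟩ ⟨hb, hb1⟩
        refine ⟨mul_mem ha hb, fun q hq => ?_⟩
        have e : a * b * q * (a * b)⁻¹ * q⁻¹ =
            a * (b * q * b⁻¹ * q⁻¹) * a⁻¹ * (a * q * a⁻¹ * q⁻¹) := by group
        rw [e, hzc a ha _ (hb1 q hq)]
        exact mul_mem (hb1 q hq) (ha1 q hq)
      one_mem' := ⟨one_mem _, fun q _ => by simp⟩
      inv_mem' := by
        rintro a ⟨ha, ha1⟩
        refine ⟨inv_mem ha, fun q hq => ?_⟩
        have h1 := ha1 (a⁻¹ * q * a) (conj_mem_of_normalizer' (le_normalizer_o2 C) ha hq)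
        have e : a * (a⁻¹ * q * a) * a⁻¹ * (a⁻¹ * q * a)⁻¹ = (a⁻¹ * q * a⁻¹⁻¹ * q⁻¹)⁻¹ := by group
        rw [e] at h1
        exact (inv_mem_iff).mp h1 }
  have hVA : ∀ L ∈ lines V z, L ≤ A := by
    intro L hL
    obtain ⟨c, hc, rfl⟩ := h.exists_of_mem_lines hL
    intro x hx
    rw [mem_cj] at hx
    set v := c⁻¹ * x * c with hv
    have hxv : x = c * v * c⁻¹ := by rw [hv]; group
    have hxC : x ∈ C := by
      rw [hxv]; exact mul_mem (mul_mem hc (h.T_le (h.V_le hx))) (inv_mem hc)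
    refine ⟨hxC, fun q hq => ?_⟩
    have hq' := conj_mem_of_normalizer' (le_normalizer_o2 C) hc hq
    have hqT := h.o2_le_T hq'
    have e1 : x * q * x⁻¹ * q⁻¹ = c * (v * (c⁻¹ * q * c) * v⁻¹ * (c⁻¹ * q * c)⁻¹) * c⁻¹ := by
      rw [hxv]; group
    have h2 : v * (c⁻¹ * q * c) * v⁻¹ * (c⁻¹ * q * c)⁻¹ ∈ zpowers z := by
      set r := c⁻¹ * q * c with hr
      have : v * r * v⁻¹ * r⁻¹ = v * (r * v⁻¹ * r⁻¹) := by group
      rw [this]
      rcases h.conj_cases h.z_mem (inv_mem hx) h.z_ne (h.z_comm (h.T_le hqT)) (h.T_norm hqT) with e | e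
      · rw [e, mul_inv_cancel]; exact one_mem _
      · rw [e, ← mul_assoc, h.comm hx h.z_mem, mul_assoc, mul_inv_cancel, mul_one]
        exact mem_zpowers z
    rw [e1, hzc c hc _ h2]
    exact h2
  exact (ws_le hVA hw).2 q hq

theorem comm_cases [Finite G] (h : Ln T V z) {w q : G} (hw : w ∈ ws V z)
    (hq : q ∈ o2 (centralizer ({z} : Set G))) : w * q = q * w ∨ w * q = z * (q * w) := by
  rcases (mem_zpowers_iff_of_mul_self h.zz).mp (h.comm_mem hw hq) with e | e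
  · left
    calc w * q = (w * q * w⁻¹ * q⁻¹) * (q * w) := by group
      _ = q * w := by rw [e, one_mul]
  · right
    calc w * q = (w * q * w⁻¹ * q⁻¹) * (q * w) := by group
      _ = z * (q * w) := by rw [e]

theorem mem_centralizer_V (h : Ln T V z) {g y : G} (hy : y ∈ V) (hy1 : y ≠ 1) (hyz : y ≠ z)
    (h1 : g * z = z * g) (h2 : g * y = y * g) : g ∈ centralizer (V : Set G) := by
  rw [mem_centralizer_iff]
  intro v hv
  rcases h.four h.z_mem hy h.z_ne hy1 (Ne.symm hyz) hv with rfl | rfl | rfl | rfl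
  · simp
  · exact h1.symm
  · exact h2.symm
  · rw [mul_assoc, ← h2, ← mul_assoc, ← h1, mul_assoc]

/-- a nontrivial subgroup of `T` normalized by `T` contains `z` -/
theorem z_mem_of_le [Finite G] (h : Ln T V z) {U : Subgroup G} (hU : U ≤ T)
    (hn : T ≤ normalizer (U : Set G)) (hU1 : U ≠ ⊥) : z ∈ U := by
  haveI : Fact (Nat.Prime 2) := ⟨Nat.prime_two⟩
  have hT := h.two
  haveI hUn : (U.subgroupOf T).Normal := normal_subgroupOf_of_le_normalizer hn
  haveI : Group.IsNilpotent T := hT.isNilpotent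
  have hne : (U.subgroupOf T) ≠ ⊥ := by
    intro e
    apply hU1
    rw [subgroupOf_eq_bot, disjoint_iff, inf_eq_left.mpr hU] at e
    exact e
  have h1 := Lib.NormalAbelian.normal_inf_center_ne_bot (U.subgroupOf T) hne
  obtain ⟨x, hx1⟩ := (Subgroup.ne_bot_iff_exists_ne_one).mp h1
  have hx := x.2
  obtain ⟨k, hk⟩ := hT (x : T)
  have hx1' : (x : T) ≠ 1 := fun e => hx1 (Subtype.ext e)
  have hex : ∃ n : ℕ, (x : T) ^ 2 ^ n = 1 := ⟨k, hk⟩
  classical
  set n := Nat.find hex with hn'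
  have hn1 : (x : T) ^ 2 ^ n = 1 := Nat.find_spec hex
  have hn0 : n ≠ 0 := by
    intro e
    rw [e] at hn1
    apply hx1'
    simpa using hn1
  obtain ⟨m, hm⟩ := Nat.exists_eq_succ_of_ne_zero hn0
  set y := (x : T) ^ 2 ^ m with hy
  have hy1 : y ≠ 1 := Nat.find_min hex (by omega)
  have hy2 : y * y = 1 := by
    rw [hy, ← pow_two, ← pow_mul, ← pow_succ]
    rw [hm] at hn1
    exact hn1
  have hyU : y ∈ U.subgroupOf T := pow_mem hx.1 _
  have hyc : y ∈ center T := pow_mem hx.2 _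
  rcases h.soc y y.2 (by simpa using congrArg Subtype.val hy2)
    (fun s hs => by
      have := mem_center_iff.mp hyc ⟨s, hs⟩
      exact congrArg Subtype.val this) with e | e
  · exact absurd (Subtype.ext e) hy1
  · rw [← e]; exact mem_subgroupOf.mp hyU

/-- Lemma N: a nontrivial normal subgroup of `N_G(V)` contains `z`. -/
theorem z_mem_of_normal [Finite G] (h : Ln T V z) {D : Subgroup G} (hD : D ≤ normalizer (V : Set G))
    (hN : normalizer (V : Set G) ≤ normalizer (D : Set G)) (h1 : D ≠ ⊥) : z ∈ D := by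
  by_contra hz
  have hfact : Fact (Nat.Prime 2) := ⟨Nat.prime_two⟩
  -- `D ∩ T = 1`
  have hDT : D ⊓ T = ⊥ := by
    by_contra hne
    have hnorm : T ≤ normalizer ((D ⊓ T : Subgroup G) : Set G) := by
      refine le_normalizer_of_forall fun t ht d hd => ?_
      exact ⟨conj_mem_of_normalizer hN (h.T_norm ht) hd.1, T.mul_mem (T.mul_mem ht hd.2) (T.inv_mem ht)⟩
    exact hz (h.z_mem_of_le inf_le_right hnorm hne).1
  have hodd : Odd (Nat.card D) := by
    rw [← Nat.not_even_iff_odd, even_iff_two_dvd]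
    intro hd
    obtain ⟨d, hd2⟩ := exists_prime_orderOf_dvd_card' 2 hd
    have hdd : (d : G) * d = 1 := by
      have h6 : d ^ 2 = 1 := by rw [← hd2]; exact pow_orderOf_eq_one d
      have h7 := congrArg (Subtype.val) h6
      simpa [pow_two] using h7
    have hd1 : (d : G) ≠ 1 := by
      intro e
      have : d = 1 := Subtype.ext e
      rw [this, orderOf_one] at hd2
      omega
    obtain ⟨c, hc, hcT⟩ := exists_cj_le_of_sylow h.T_norm h.two h.T_syl'
      (A := zpowers (d : G)) (by simpa using hD d.2) (isPGroup_zpowers hdd)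
    have h3 : c * d * c⁻¹ ∈ D ⊓ T :=
      ⟨conj_mem_of_normalizer hN hc d.2, hcT (conj_mem_cj (mem_zpowers _))⟩
    rw [hDT, mem_bot] at h3
    apply hd1
    have : (d : G) = c⁻¹ * (c * d * c⁻¹) * c := by group
    rw [this, h3]; group
  refine h1 (Cfsg.Agent.MinSimple.Basic.eq_bot_of_odd (X := normalizer (V : Set G)) ?_ hD hN hodd)
  refine inf_centralizer_o2_le h.charTwo ⟨V, ?_, ?_, rfl⟩
  · exact h.two.to_le h.V_le
  · intro e
    have := h.z_mem
    rw [e, mem_bot] at this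
    exact h.z_ne this

end Ln

end Cfsg.Agent.Omega.CaseL

end

section


/-!
# Two types of lines with `W₁`, `W₂` abelian and `[W₁, W₂] ≠ 1`

`Pair T V W z`: two flags `(z, V)`, `(z, W)` with the same Sylow 2-subgroup `T`; the subgroups `ws V z`, `ws W z`
generated by the lines of the two types through `z` are abelian and do not commute.
This file: steps (1)-(5) of the proof that `O₂(C_G(z)) = ws V z ws W z` is extraspecial.
-/

set_option autoImplicit false
set_option linter.style.haveILetI false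
set_option linter.unusedSectionVars false

namespace Cfsg.Agent.Omega.CaseL

open Subgroup Cfsg Cfsg.Agent.ZN Cfsg.Agent.MinSimple.Geo
open Cfsg.Agent.ZN.Block (conj_mem_of_normalizer conj_mem_of_normalizer' le_normalizer_of_forall
  mem_normalizer_of)

universe u

variable {G : Type u} [Group G]

/-- two flags at `z` with abelian `ws V z`, `ws W z` which do not commute -/
structure Pair (T V W : Subgroup G) (z : G) : Prop where
  v : Ln T V z
  w : Ln T W z
  abV : ∀ a ∈ ws V z, ∀ b ∈ ws V z, a * b = b * a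
  abW : ∀ a ∈ ws W z, ∀ b ∈ ws W z, a * b = b * a
  nc : ∃ a ∈ ws V z, ∃ b ∈ ws W z, a * b ≠ b * a

theorem mem_of_cj {g x : G} {H : Subgroup G} (h : x ∈ cj g H) : g⁻¹ * x * g ∈ H := mem_cj.mp h

theorem normalizer_le_normalizer_centralizer (V : Subgroup G) :
    normalizer (V : Set G) ≤ normalizer ((centralizer (V : Set G) : Subgroup G) : Set G) := by
  refine le_normalizer_of_forall fun g hg c hc => ?_
  rw [mem_centralizer_iff] at hc ⊢
  intro v hv
  have hv' : g⁻¹ * v * g ∈ V := (mem_normalizer_iff''.mp hg v).mp hv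
  have := hc _ hv'
  calc v * (g * c * g⁻¹) = g * ((g⁻¹ * v * g) * c) * g⁻¹ := by group
    _ = g * (c * (g⁻¹ * v * g)) * g⁻¹ := by rw [this]
    _ = g * c * g⁻¹ * v := by group

/-- elementwise: conjugation moves `ws V x` to `ws V (g x g⁻¹)` -/
theorem conj_mem_ws {V : Subgroup G} {x a : G} (g : G) (ha : a ∈ ws V x) :
    g * a * g⁻¹ ∈ ws V (g * x * g⁻¹) := by
  rw [← cj_ws]; exact conj_mem_cj ha

namespace Pair

variable {T V W : Subgroup G} {z : G}

theorem symm (h : Pair T V W z) : Pair T W V z where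
  v := h.w
  w := h.v
  abV := h.abW
  abW := h.abV
  nc := by
    obtain ⟨a, ha, b, hb, hab⟩ := h.nc
    exact ⟨b, hb, a, ha, fun e => hab e.symm⟩

theorem conj (h : Pair T V W z) (g : G) : Pair (cj g T) (cj g V) (cj g W) (g * z * g⁻¹) where
  v := h.v.conj g
  w := h.w.conj g
  abV := by
    rw [ws_cj, ← cj_ws]
    intro a ha b hb
    have := h.abV _ (mem_of_cj ha) _ (mem_of_cj hb)
    calc a * b = g * ((g⁻¹ * a * g) * (g⁻¹ * b * g)) * g⁻¹ := by group
      _ = g * ((g⁻¹ * b * g) * (g⁻¹ * a * g)) * g⁻¹ := by rw [this]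
      _ = b * a := by group
  abW := by
    rw [ws_cj, ← cj_ws]
    intro a ha b hb
    have := h.abW _ (mem_of_cj ha) _ (mem_of_cj hb)
    calc a * b = g * ((g⁻¹ * a * g) * (g⁻¹ * b * g)) * g⁻¹ := by group
      _ = g * ((g⁻¹ * b * g) * (g⁻¹ * a * g)) * g⁻¹ := by rw [this]
      _ = b * a := by group
  nc := by
    rw [ws_cj, ws_cj]
    obtain ⟨a, ha, b, hb, hab⟩ := h.nc
    refine ⟨_, conj_mem_ws g ha, _, conj_mem_ws g hb, fun e => hab ?_⟩
    calc a * b = g⁻¹ * ((g * a * g⁻¹) * (g * b * g⁻¹)) * g := by group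
      _ = g⁻¹ * ((g * b * g⁻¹) * (g * a * g⁻¹)) * g := by rw [e]
      _ = b * a := by group

theorem point (h : Pair T V W z) {p : G} (hp : p ∈ V) (hp1 : p ≠ 1) :
    ∃ g ∈ normalizer (V : Set G), g * z * g⁻¹ = p ∧ Pair (cj g T) V (cj g W) p := by
  obtain ⟨g, hg, rfl⟩ := h.v.trans p hp hp1
  refine ⟨g, hg, rfl, ?_⟩
  have := h.conj g
  rwa [cj_eq_of_mem_normalizer hg] at this

variable [Finite G]

/-! ### facts at `z` -/

theorem sqV (h : Pair T V W z) : ∀ a ∈ ws V z, a * a = 1 := by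
  let S : Subgroup G :=
    { carrier := {a | a ∈ ws V z ∧ a * a = 1}
      mul_mem' := by
        rintro a b ⟨ha, ha1⟩ ⟨hb, hb1⟩
        refine ⟨mul_mem ha hb, ?_⟩
        calc a * b * (a * b) = a * (b * a) * b := by group
          _ = a * (a * b) * b := by rw [h.abV b hb a ha]
          _ = (a * a) * (b * b) := by group
          _ = 1 := by rw [ha1, hb1, mul_one]
      one_mem' := ⟨one_mem _, one_mul 1⟩
      inv_mem' := by
        rintro a ⟨ha, ha1⟩
        refine ⟨inv_mem ha, ?_⟩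
        rw [inv_eq_self ha1]; exact ha1 }
  have hle : ws V z ≤ S := by
    refine ws_le fun L hL => ?_
    intro x hx
    refine ⟨le_ws hL hx, ?_⟩
    obtain ⟨c, hc, rfl⟩ := h.v.exists_of_mem_lines hL
    rw [mem_cj] at hx
    have := h.v.sq _ hx
    calc x * x = c * (c⁻¹ * x * c * (c⁻¹ * x * c)) * c⁻¹ := by group
      _ = 1 := by rw [this]; group
  intro a ha
  exact (hle ha).2

theorem sqW (h : Pair T V W z) : ∀ a ∈ ws W z, a * a = 1 := h.symm.sqV

theorem z_memV (h : Pair T V W z) : z ∈ ws V z := h.v.V_le_ws h.v.z_mem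

theorem z_memW (h : Pair T V W z) : z ∈ ws W z := h.symm.z_memV

/-- some element of `ws W z` moves `V` -/
theorem exists_move (h : Pair T V W z) : ∃ b ∈ ws W z, b ∉ centralizer (V : Set G) := by
  by_contra hcon
  push Not at hcon
  obtain ⟨a, ha, b, hb, hab⟩ := h.nc
  have hle : ws V z ≤ centralizer ((ws W z : Subgroup G) : Set G) := by
    refine ws_le fun L hL => ?_
    obtain ⟨c, hc, rfl⟩ := h.v.exists_of_mem_lines hL
    intro x hx
    rw [mem_cj] at hx
    rw [mem_centralizer_iff]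
    intro y hy
    have hy' : c⁻¹ * y * c ∈ ws W z :=
      conj_mem_of_normalizer' (centralizer_le_normalizer_ws W z) hc hy
    have := mem_centralizer_iff.mp (hcon _ hy') _ hx
    calc y * x = c * ((c⁻¹ * y * c) * (c⁻¹ * x * c)) * c⁻¹ := by group
      _ = c * ((c⁻¹ * x * c) * (c⁻¹ * y * c)) * c⁻¹ := by rw [this]
      _ = x * y := by group
  exact hab (mem_centralizer_iff.mp (hle ha) b hb).symm

/-! ### facts at all points of `V` -/

section points

variable {p q : G}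

theorem abV' (h : Pair T V W z) (hp : p ∈ V) (hp1 : p ≠ 1) :
    ∀ a ∈ ws V p, ∀ b ∈ ws V p, a * b = b * a := by
  obtain ⟨g, -, -, hg⟩ := h.point hp hp1
  exact hg.abV

theorem abW' (h : Pair T V W z) (hp : p ∈ V) (hp1 : p ≠ 1) :
    ∀ a ∈ ws W p, ∀ b ∈ ws W p, a * b = b * a := by
  obtain ⟨g, -, -, hg⟩ := h.point hp hp1
  have := hg.abW
  rwa [ws_cj] at this

theorem sqV' (h : Pair T V W z) (hp : p ∈ V) (hp1 : p ≠ 1) : ∀ a ∈ ws V p, a * a = 1 := by
  obtain ⟨g, -, -, hg⟩ := h.point hp hp1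
  exact hg.sqV

theorem sqW' (h : Pair T V W z) (hp : p ∈ V) (hp1 : p ≠ 1) : ∀ a ∈ ws W p, a * a = 1 := by
  obtain ⟨g, -, -, hg⟩ := h.point hp hp1
  have := hg.sqW
  rwa [ws_cj] at this

theorem V_le (h : Pair T V W z) (hp : p ∈ V) (hp1 : p ≠ 1) : V ≤ ws V p := by
  obtain ⟨g, -, -, hg⟩ := h.point hp hp1
  exact hg.v.V_le_ws

theorem p_memW (h : Pair T V W z) (hp : p ∈ V) (hp1 : p ≠ 1) : p ∈ ws W p := by
  obtain ⟨g, -, -, hg⟩ := h.point hp hp1
  have := hg.z_memW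
  rwa [ws_cj] at this

theorem wsV_le_centralizer_V (h : Pair T V W z) (hp : p ∈ V) (hp1 : p ≠ 1) :
    ws V p ≤ centralizer (V : Set G) := by
  intro a ha
  rw [mem_centralizer_iff]
  intro v hv
  exact h.abV' hp hp1 v (h.V_le hp hp1 hv) a ha

theorem wsW_le_normalizer_V (h : Pair T V W z) (hp : p ∈ V) (hp1 : p ≠ 1) :
    ws W p ≤ normalizer (V : Set G) := by
  obtain ⟨g, -, -, hg⟩ := h.point hp hp1
  have := hg.w.ws_le_T.trans hg.v.T_norm
  rwa [ws_cj] at this

theorem wsW_le_centralizer (h : Pair T V W z) (hp : p ∈ V) (hp1 : p ≠ 1) :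
    ws W p ≤ centralizer ({p} : Set G) := by
  obtain ⟨g, -, -, hg⟩ := h.point hp hp1
  have := hg.w.ws_le_centralizer
  rwa [ws_cj] at this

theorem wsV_le_centralizer (h : Pair T V W z) (hp : p ∈ V) (hp1 : p ≠ 1) :
    ws V p ≤ centralizer ({p} : Set G) := by
  obtain ⟨g, -, -, hg⟩ := h.point hp hp1
  exact hg.v.ws_le_centralizer

theorem wsV_le_o2 (h : Pair T V W z) (hp : p ∈ V) (hp1 : p ≠ 1) :
    ws V p ≤ o2 (centralizer ({p} : Set G)) := by
  obtain ⟨g, -, -, hg⟩ := h.point hp hp1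
  exact hg.v.ws_le_o2

theorem wsW_le_o2 (h : Pair T V W z) (hp : p ∈ V) (hp1 : p ≠ 1) :
    ws W p ≤ o2 (centralizer ({p} : Set G)) := by
  obtain ⟨g, -, -, hg⟩ := h.point hp hp1
  have := hg.w.ws_le_o2
  rwa [ws_cj] at this

/-- `[ws V p, O₂(C_G(p))] ≤ ⟨p⟩` -/
theorem commV (h : Pair T V W z) (hp : p ∈ V) (hp1 : p ≠ 1) {a r : G} (ha : a ∈ ws V p)
    (hr : r ∈ o2 (centralizer ({p} : Set G))) : a * r = r * a ∨ a * r = p * (r * a) := by
  obtain ⟨g, -, -, hg⟩ := h.point hp hp1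
  exact hg.v.comm_cases ha hr

/-- `[ws W p, O₂(C_G(p))] ≤ ⟨p⟩` -/
theorem commW (h : Pair T V W z) (hp : p ∈ V) (hp1 : p ≠ 1) {b r : G} (hb : b ∈ ws W p)
    (hr : r ∈ o2 (centralizer ({p} : Set G))) : b * r = r * b ∨ b * r = p * (r * b) := by
  obtain ⟨g, -, -, hg⟩ := h.point hp hp1
  exact hg.w.comm_cases (by rwa [ws_cj]) hr

theorem exists_move' (h : Pair T V W z) (hp : p ∈ V) (hp1 : p ≠ 1) :
    ∃ b ∈ ws W p, b ∉ centralizer (V : Set G) := by
  obtain ⟨g, -, -, hg⟩ := h.point hp hp1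
  have := hg.exists_move
  rwa [ws_cj] at this

theorem p_comm (h : Pair T V W z) (hp : p ∈ V) (hp1 : p ≠ 1) {b : G} (hb : b ∈ ws W p) :
    b * p = p * b := mem_centralizer_singleton_iff.mp (h.wsW_le_centralizer hp hp1 hb)

theorem mem_centralizer_of (h : Pair T V W z) (hp : p ∈ V) (hp1 : p ≠ 1) (hq : q ∈ V) (hq1 : q ≠ 1)
    (hqp : q ≠ p) {g : G} (h1 : g * p = p * g) (h2 : g * q = q * g) :
    g ∈ centralizer (V : Set G) := by
  obtain ⟨g, -, -, hg⟩ := h.point hp hp1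
  exact hg.v.mem_centralizer_V hq hq1 hqp h1 h2

/-- a mover in `ws W p` moves the points `q ≠ p` of `V` to `p q` -/
theorem move (h : Pair T V W z) (hp : p ∈ V) (hp1 : p ≠ 1) (hq : q ∈ V) (hq1 : q ≠ 1)
    (hqp : q ≠ p) {b : G} (hb : b ∈ ws W p) (hb1 : b ∉ centralizer (V : Set G)) :
    b * q * b⁻¹ = p * q := by
  have hbp := h.p_comm hp hp1 hb
  rcases h.v.conj_cases hp hq hp1 hbp (h.wsW_le_normalizer_V hp hp1 hb) with e | e
  · exfalso
    refine hb1 (h.mem_centralizer_of hp hp1 hq hq1 hqp hbp ?_)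
    calc b * q = (b * q * b⁻¹) * b := by group
      _ = q * b := by rw [e]
  · exact e

theorem mul_ne_one (h : Pair T V W z) (hq : q ∈ V) (hpq : p ≠ q) : p * q ≠ 1 := fun e =>
  hpq (by rw [mul_eq_one_iff_eq_inv.mp e, h.v.inv_eq hq])

/-- `C_G(⟨ws W p, ws W q⟩) = 1` -/
theorem cent_triv (h : Pair T V W z) (hp : p ∈ V) (hp1 : p ≠ 1) (hq : q ∈ V) (hq1 : q ≠ 1)
    (hqp : q ≠ p) {c : G} (h1 : ∀ b ∈ ws W p, c * b = b * c) (h2 : ∀ b ∈ ws W q, c * b = b * c) :
    c = 1 := by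
  let D : Subgroup G :=
    { carrier := {c | ∀ r ∈ V, r ≠ 1 → ∀ b ∈ ws W r, c * b = b * c}
      mul_mem' := by
        intro c d hc hd r hr hr1 b hb
        rw [mul_assoc, hd r hr hr1 b hb, ← mul_assoc, hc r hr hr1 b hb, mul_assoc]
      one_mem' := by
        intro r hr hr1 b hb
        simp
      inv_mem' := by
        intro c hc r hr hr1 b hb
        have := hc r hr hr1 b hb
        calc c⁻¹ * b = c⁻¹ * (b * c) * c⁻¹ := by group
          _ = c⁻¹ * (c * b) * c⁻¹ := by rw [this]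
          _ = b * c⁻¹ := by group }
  have hDc : D ≤ centralizer (V : Set G) := by
    intro d hd
    exact h.mem_centralizer_of hp hp1 hq hq1 hqp (hd p hp hp1 p (h.p_memW hp hp1))
      (hd q hq hq1 q (h.p_memW hq hq1))
  have hDn : D ≤ normalizer (V : Set G) := hDc.trans (centralizer_le_normalizer _)
  have hN : normalizer (V : Set G) ≤ normalizer (D : Set G) := by
    refine le_normalizer_of_forall fun g hg d hd => ?_
    intro r hr hr1 b hb
    have hr' : g⁻¹ * r * g ∈ V := (mem_normalizer_iff''.mp hg r).mp hr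
    have hr1' : g⁻¹ * r * g ≠ 1 := fun e => hr1 (by
      have : r = g * (g⁻¹ * r * g) * g⁻¹ := by group
      rw [this, e]; group)
    have hb' : g⁻¹ * b * g ∈ ws W (g⁻¹ * r * g) := by
      have := conj_mem_ws g⁻¹ hb
      simpa using this
    have := hd _ hr' hr1' _ hb'
    calc g * d * g⁻¹ * b = g * (d * (g⁻¹ * b * g)) * g⁻¹ := by group
      _ = g * ((g⁻¹ * b * g) * d) * g⁻¹ := by rw [this]
      _ = b * (g * d * g⁻¹) := by group
  have hD : D = ⊥ := by
    by_contra hne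
    have hz := h.v.z_mem_of_normal hDn hN hne
    obtain ⟨y, hy, hy1, hyz⟩ := h.v.exists_y
    obtain ⟨b, hb, hb1⟩ := h.exists_move' hy hy1
    have e1 := h.move hy hy1 h.v.z_mem h.v.z_ne (Ne.symm hyz) hb hb1
    have e2 := hz y hy hy1 b hb
    have e3 : b * z * b⁻¹ = z := by rw [← e2]; group
    rw [e3] at e1
    exact hy1 (by simpa using e1.symm)
  have hc : c ∈ D := by
    intro r hr hr1 b hb
    obtain ⟨t, ht, ht1⟩ := h.exists_move' hp hp1
    obtain ⟨g', -, -, hg'⟩ := h.point hp hp1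
    rcases hg'.v.four hp hq hp1 hq1 (Ne.symm hqp) hr with e | e | e | e
    · exact absurd e hr1
    · rw [e] at hb; exact h1 b hb
    · rw [e] at hb; exact h2 b hb
    · -- `ws W (p q) = (ws W q)^t`
      have e1 := h.move hp hp1 hq hq1 hqp ht ht1
      rw [e, ← e1, ← cj_ws] at hb
      have hb' := mem_of_cj hb
      have hct := h1 t ht
      have := h2 _ hb'
      have hct' : c * t⁻¹ = t⁻¹ * c := by
        calc c * t⁻¹ = t⁻¹ * (t * c) * t⁻¹ := by group
          _ = t⁻¹ * (c * t) * t⁻¹ := by rw [hct]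
          _ = t⁻¹ * c := by group
      calc c * b = c * t * (t⁻¹ * b * t) * t⁻¹ := by group
        _ = t * (c * (t⁻¹ * b * t)) * t⁻¹ := by rw [hct]; group
        _ = t * ((t⁻¹ * b * t) * c) * t⁻¹ := by rw [this]
        _ = b * t * (c * t⁻¹) := by group
        _ = b * t * (t⁻¹ * c) := by rw [hct']
        _ = b * c := by group
  rw [hD] at hc
  exact mem_bot.mp hc

/-- `ws W p ∩ ws W q = 1` for distinct points of `V` -/
theorem inf_triv (h : Pair T V W z) (hp : p ∈ V) (hp1 : p ≠ 1) (hq : q ∈ V) (hq1 : q ≠ 1)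
    (hqp : q ≠ p) {c : G} (h1 : c ∈ ws W p) (h2 : c ∈ ws W q) : c = 1 :=
  h.cent_triv hp hp1 hq hq1 hqp (fun b hb => h.abW' hp hp1 c h1 b hb)
    (fun b hb => h.abW' hq hq1 c h2 b hb)

/-- elements centralizing `V` normalize `ws W p` -/
theorem cent_norm (_ : Pair T V W z) (hp : p ∈ V) {c b : G} (hc : c ∈ centralizer (V : Set G))
    (hb : b ∈ ws W p) : c * b * c⁻¹ ∈ ws W p := by
  refine conj_mem_of_normalizer (centralizer_le_normalizer_ws W p) ?_ hb
  rw [mem_centralizer_singleton_iff]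
  exact (mem_centralizer_iff.mp hc p hp).symm

theorem cent_norm' (_ : Pair T V W z) (hp : p ∈ V) {c b : G} (hc : c ∈ centralizer (V : Set G))
    (hb : b ∈ ws V p) : c * b * c⁻¹ ∈ ws V p := by
  refine conj_mem_of_normalizer (centralizer_le_normalizer_ws V p) ?_ hb
  rw [mem_centralizer_singleton_iff]
  exact (mem_centralizer_iff.mp hc p hp).symm

theorem cent_conj (h : Pair T V W z) (hp : p ∈ V) (hp1 : p ≠ 1) {c b : G}
    (hc : c ∈ centralizer (V : Set G)) (hb : b ∈ ws W p) : b * c * b⁻¹ ∈ centralizer (V : Set G) :=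
  conj_mem_of_normalizer (normalizer_le_normalizer_centralizer V)
    (h.wsW_le_normalizer_V hp hp1 hb) hc

end points

end Pair

end Cfsg.Agent.Omega.CaseL

end

section


/-!
# Two types of lines with `W₁`, `W₂` abelian: steps (2)-(7)

`b0 V W p = C_{ws W p}(V)`.
* `phi_inj`, `phi_surj`: for a mover `b ∈ ws W p`, `c ↦ [b, c]` is a bijection `b0 q → b0 p`;
* `inter`: `ws V q ∩ ws W p = ⟨p⟩` for distinct points of `V`;
* `comm_cent`: `[ws V u, ws W v]` centralizes `U = b0 p × b0 q`;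
* `cent_u`: `C_G(U) = U`;
* `cent_ab`: `C_G(ws V z ws W z) = ws V z ∩ ws W z`;
* `f_eq`: `ws V z ∩ ws W z = ⟨z⟩`.
-/

set_option autoImplicit false
set_option linter.style.haveILetI false
set_option linter.unusedSectionVars false

namespace Cfsg.Agent.Omega.CaseL

open Subgroup Cfsg Cfsg.Agent.ZN Cfsg.Agent.MinSimple.Geo
open Cfsg.Agent.ZN.Block (conj_mem_of_normalizer conj_mem_of_normalizer' le_normalizer_of_forall
  mem_normalizer_of)

universe u

variable {G : Type u} [Group G]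

/-- `C_{ws W p}(V)` -/
def b0 (V W : Subgroup G) (p : G) : Subgroup G := ws W p ⊓ centralizer (V : Set G)

theorem mem_b0 {V W : Subgroup G} {p x : G} : x ∈ b0 V W p ↔ x ∈ ws W p ∧ x ∈ centralizer (V : Set G) :=
  mem_inf

theorem comm_inv_of {a b : G} (h : a * b = b * a) : a * b⁻¹ = b⁻¹ * a := by
  calc a * b⁻¹ = b⁻¹ * (b * a) * b⁻¹ := by group
    _ = b⁻¹ * (a * b) * b⁻¹ := by rw [h]
    _ = b⁻¹ * a := by group

theorem inv_comm_of {a b : G} (h : a * b = b * a) : a⁻¹ * b = b * a⁻¹ := (comm_inv_of h.symm).symm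

theorem mul_comm_of {a b c : G} (h1 : a * c = c * a) (h2 : b * c = c * b) : a * b * c = c * (a * b) := by
  rw [mul_assoc, h2, ← mul_assoc, h1, mul_assoc]

theorem comm_mul_of {a b c : G} (h1 : c * a = a * c) (h2 : c * b = b * c) : c * (a * b) = a * b * c :=
  (mul_comm_of h1.symm h2.symm).symm

theorem conj_eq_of_comm {a b : G} (h : a * b = b * a) : a * b * a⁻¹ = b := by rw [h]; group

theorem comm_of_conj_eq {a b : G} (h : a * b * a⁻¹ = b) : a * b = b * a := by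
  calc a * b = (a * b * a⁻¹) * a := by group
    _ = b * a := by rw [h]

namespace Pair

variable {T V W : Subgroup G} {z : G} [Finite G]

section points

variable {p q : G}

theorem V_comm (_ : Pair T V W z) {v c : G} (hv : v ∈ V) (hc : c ∈ centralizer (V : Set G)) :
    v * c = c * v := mem_centralizer_iff.mp hc v hv

theorem V_le_centralizer (h : Pair T V W z) : V ≤ centralizer (V : Set G) := by
  intro v hv
  rw [mem_centralizer_iff]
  intro w hw
  exact h.v.comm hw hv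

theorem p_mem_b0 (h : Pair T V W z) (hp : p ∈ V) (hp1 : p ≠ 1) : p ∈ b0 V W p :=
  mem_b0.mpr ⟨h.p_memW hp hp1, h.V_le_centralizer hp⟩

theorem b0_comm (h : Pair T V W z) (hp : p ∈ V) (hp1 : p ≠ 1) (hq : q ∈ V) (hq1 : q ≠ 1) {a c : G}
    (ha : a ∈ b0 V W p) (hc : c ∈ b0 V W q) : a * c = c * a := by
  rw [mem_b0] at ha hc
  by_cases hqp : q = p
  · subst hqp
    exact h.abW' hq hq1 a ha.1 c hc.1
  · have h1 : a * c * a⁻¹ * c⁻¹ = 1 := by
      refine h.inf_triv hp hp1 hq hq1 hqp ?_ ?_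
      · have : a * c * a⁻¹ * c⁻¹ = a * (c * a⁻¹ * c⁻¹) := by group
        rw [this]
        exact mul_mem ha.1 (h.cent_norm hp hc.2 (inv_mem ha.1))
      · exact mul_mem (h.cent_norm hq ha.2 hc.1) (inv_mem hc.1)
    calc a * c = (a * c * a⁻¹ * c⁻¹) * (c * a) := by group
      _ = c * a := by rw [h1, one_mul]

theorem phi_mem (h : Pair T V W z) (hp : p ∈ V) (hp1 : p ≠ 1) {b c : G}
    (hb : b ∈ ws W p) (hc : c ∈ centralizer (V : Set G)) : b * c * b⁻¹ * c⁻¹ ∈ b0 V W p := by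
  rw [mem_b0]
  constructor
  · have : b * c * b⁻¹ * c⁻¹ = b * (c * b⁻¹ * c⁻¹) := by group
    rw [this]
    exact mul_mem hb (h.cent_norm hp hc (inv_mem hb))
  · exact mul_mem (h.cent_conj hp hp1 hc hb) (inv_mem hc)

theorem phi_inj (h : Pair T V W z) (hp : p ∈ V) (hp1 : p ≠ 1) (hq : q ∈ V) (hq1 : q ≠ 1)
    (hqp : q ≠ p) {b c : G} (hb : b ∈ ws W p) (hb1 : b ∉ centralizer (V : Set G)) (hc : c ∈ ws W q)
    (e : b * c = c * b) : c = 1 := by
  have h1 := conj_mem_ws b hc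
  rw [h.move hp hp1 hq hq1 hqp hb hb1, conj_eq_of_comm e] at h1
  refine h.inf_triv hq hq1 (mul_mem hp hq) (h.mul_ne_one hq (Ne.symm hqp)) ?_ hc h1
  intro e'
  exact hp1 (by simpa using e')

theorem phi_eq (h : Pair T V W z) (hp : p ∈ V) (hp1 : p ≠ 1) (hq : q ∈ V) (hq1 : q ≠ 1)
    (hqp : q ≠ p) {b c d : G} (hb : b ∈ ws W p) (hb1 : b ∉ centralizer (V : Set G)) (hc : c ∈ ws W q)
    (hd : d ∈ ws W q) (e : b * c * b⁻¹ * c⁻¹ = b * d * b⁻¹ * d⁻¹) : c = d := by
  have h1 : d⁻¹ * c = 1 := by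
    refine h.phi_inj hp hp1 hq hq1 hqp hb hb1 (mul_mem (inv_mem hd) hc) ?_
    refine comm_of_conj_eq ?_
    calc b * (d⁻¹ * c) * b⁻¹ = (b * d * b⁻¹)⁻¹ * (b * c * b⁻¹ * c⁻¹) * c := by group
      _ = (b * d * b⁻¹)⁻¹ * (b * d * b⁻¹ * d⁻¹) * c := by rw [e]
      _ = d⁻¹ * c := by group
  calc c = d * (d⁻¹ * c) := by group
    _ = d := by rw [h1, mul_one]

theorem cj_b0 (_ : Pair T V W z) {g : G} (hg : g ∈ normalizer (V : Set G)) (p : G) :
    cj g (b0 V W p) = b0 V W (g * p * g⁻¹) := by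
  unfold b0
  rw [cj_inf, cj_ws, cj_eq_of_mem_normalizer (normalizer_le_normalizer_centralizer V hg)]

theorem card_b0 (h : Pair T V W z) (hp : p ∈ V) (hp1 : p ≠ 1) (hq : q ∈ V) (hq1 : q ≠ 1) :
    Nat.card (b0 V W p) = Nat.card (b0 V W q) := by
  obtain ⟨g, hg, hgp, -⟩ := h.point hp hp1
  obtain ⟨k, hk, hkp, -⟩ := h.point hq hq1
  rw [← hgp, ← hkp, ← h.cj_b0 hg, ← h.cj_b0 hk, card_cj, card_cj]

theorem phi_surj (h : Pair T V W z) (hp : p ∈ V) (hp1 : p ≠ 1) (hq : q ∈ V) (hq1 : q ≠ 1)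
    (hqp : q ≠ p) {b a : G} (hb : b ∈ ws W p) (hb1 : b ∉ centralizer (V : Set G)) (ha : a ∈ b0 V W p) :
    ∃ c ∈ b0 V W q, b * c * b⁻¹ * c⁻¹ = a := by
  let f : b0 V W q → b0 V W p := fun c =>
    ⟨b * c * b⁻¹ * (c : G)⁻¹, h.phi_mem hp hp1 hb (mem_b0.mp c.2).2⟩
  have hf : Function.Injective f := by
    intro c d hcd
    exact Subtype.ext (h.phi_eq hp hp1 hq hq1 hqp hb hb1 (mem_b0.mp c.2).1 (mem_b0.mp d.2).1
      (congrArg Subtype.val hcd))
  have hb := hf.bijective_of_nat_card_le (h.card_b0 hp hp1 hq hq1).le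
  obtain ⟨c, hc⟩ := hb.2 ⟨a, ha⟩
  exact ⟨c, c.2, congrArg Subtype.val hc⟩

theorem exists_q (h : Pair T V W z) (hp : p ∈ V) (hp1 : p ≠ 1) : ∃ q ∈ V, q ≠ 1 ∧ q ≠ p := by
  obtain ⟨g, -, -, hg⟩ := h.point hp hp1
  exact hg.v.exists_y

/-- the movers of `ws W p` form one coset of `b0 p` -/
theorem mover_coset (h : Pair T V W z) (hp : p ∈ V) (hp1 : p ≠ 1) {b b' : G} (hb : b ∈ ws W p)
    (hb1 : b ∉ centralizer (V : Set G)) (hb' : b' ∈ ws W p) (hb1' : b' ∉ centralizer (V : Set G)) :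
    b' * b⁻¹ ∈ b0 V W p := by
  rw [mem_b0]
  refine ⟨mul_mem hb' (inv_mem hb), ?_⟩
  obtain ⟨q, hq, hq1, hqp⟩ := h.exists_q hp hp1
  refine h.mem_centralizer_of hp hp1 (mul_mem hp hq) (h.mul_ne_one hq (Ne.symm hqp)) ?_ ?_ ?_
  · intro e'
    exact hq1 (by simpa using e')
  · exact mul_comm_of (h.p_comm hp hp1 hb') (inv_comm_of (h.p_comm hp hp1 hb))
  · refine comm_of_conj_eq ?_
    have e1 := h.move hp hp1 hq hq1 hqp hb hb1
    have e2 := h.move hp hp1 hq hq1 hqp hb' hb1'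
    calc b' * b⁻¹ * (p * q) * (b' * b⁻¹)⁻¹ = b' * (b⁻¹ * (p * q) * b) * b'⁻¹ := by group
      _ = b' * (b⁻¹ * (b * q * b⁻¹) * b) * b'⁻¹ := by rw [e1]
      _ = b' * q * b'⁻¹ := by group
      _ = p * q := e2

/-- commuting with a mover and with `b0 p` means commuting with `ws W p` -/
theorem comm_ws_of (h : Pair T V W z) (hp : p ∈ V) (hp1 : p ≠ 1) {b g : G} (hb : b ∈ ws W p)
    (hb1 : b ∉ centralizer (V : Set G)) (h1 : g * b = b * g) (h2 : ∀ c ∈ b0 V W p, g * c = c * g) :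
    ∀ c ∈ ws W p, g * c = c * g := by
  intro c hc
  by_cases hc1 : c ∈ centralizer (V : Set G)
  · exact h2 c (mem_b0.mpr ⟨hc, hc1⟩)
  · have := h2 _ (h.mover_coset hp hp1 hb hb1 hc hc1)
    have e := comm_mul_of this h1
    simpa using e

/-- step (3): `ws V q ∩ ws W p = ⟨p⟩` -/
theorem inter (h : Pair T V W z) (hp : p ∈ V) (hp1 : p ≠ 1) (hq : q ∈ V) (hq1 : q ≠ 1)
    (hqp : q ≠ p) {t : G} (h1 : t ∈ ws V q) (h2 : t ∈ ws W p) : t = 1 ∨ t = p := by
  have ht : t ∈ centralizer (V : Set G) := h.wsV_le_centralizer_V hq hq1 h1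
  obtain ⟨b, hb, hb1⟩ := h.exists_move' hq hq1
  rcases h.commV hq hq1 h1 (h.wsW_le_o2 hq hq1 hb) with e | e
  · left
    exact h.phi_inj hq hq1 hp hp1 (Ne.symm hqp) hb hb1 h2 e.symm
  · right
    have e2 : b * t * b⁻¹ = q * t := by
      calc b * t * b⁻¹ = q * (q * (b * t)) * b⁻¹ := by
            rw [← mul_assoc q q, h.v.sq q hq, one_mul]
        _ = q * (t * b) * b⁻¹ := by rw [e]
        _ = q * t := by group
    have e3 := h.move hq hq1 hp hp1 (Ne.symm hqp) hb hb1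
    have h3 : t * p = 1 := by
      refine h.phi_inj hq hq1 hp hp1 (Ne.symm hqp) hb hb1 (mul_mem h2 (h.p_memW hp hp1)) ?_
      refine comm_of_conj_eq ?_
      calc b * (t * p) * b⁻¹ = (b * t * b⁻¹) * (b * p * b⁻¹) := by group
        _ = (q * t) * (q * p) := by rw [e2, e3]
        _ = (t * q) * (q * p) := by rw [h.V_comm hq ht]
        _ = t * (q * q) * p := by group
        _ = t * p := by rw [h.v.sq q hq, mul_one]
    rw [mul_eq_one_iff_eq_inv.mp h3, h.v.inv_eq hp]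

/-- step (4): `[ws V p, b0 q] ≤ ⟨q⟩` -/
theorem comm_b0 (h : Pair T V W z) (hp : p ∈ V) (hp1 : p ≠ 1) (hq : q ∈ V) (hq1 : q ≠ 1)
    {a c : G} (ha : a ∈ ws V p) (hc : c ∈ b0 V W q) : a * c * a⁻¹ = c ∨ a * c * a⁻¹ = q * c := by
  have hc' := mem_b0.mp hc
  by_cases hqp : p = q
  · subst hqp
    rcases h.commV hp hp1 ha (h.wsW_le_o2 hp hp1 hc'.1) with e | e
    · left; exact conj_eq_of_comm e
    · right
      rw [e]; group
  · have ha' := h.wsV_le_centralizer_V hp hp1 ha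
    rcases h.inter hq hq1 hp hp1 hqp (t := a * c * a⁻¹ * c⁻¹) (by
      have : a * c * a⁻¹ * c⁻¹ = a * (c * a⁻¹ * c⁻¹) := by group
      rw [this]
      exact mul_mem ha (h.cent_norm' hp hc'.2 (inv_mem ha)))
      (mul_mem (h.cent_norm hq ha' hc'.1) (inv_mem hc'.1)) with e | e
    · left
      calc a * c * a⁻¹ = (a * c * a⁻¹ * c⁻¹) * c := by group
        _ = c := by rw [e, one_mul]
    · right
      calc a * c * a⁻¹ = (a * c * a⁻¹ * c⁻¹) * c := by group
        _ = q * c := by rw [e]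

/-- the actions of `ws V p` and `ws W q` on `b0 r` commute -/
theorem act_comm (h : Pair T V W z) (hp : p ∈ V) (hp1 : p ≠ 1) (hq : q ∈ V) (hq1 : q ≠ 1)
    {r : G} (hr : r ∈ V) (hr1 : r ≠ 1) {a b x : G} (ha : a ∈ ws V p) (hb : b ∈ ws W q)
    (hx : x ∈ b0 V W r) : a * (b * x * b⁻¹) * a⁻¹ = b * (a * x * a⁻¹) * b⁻¹ := by
  have hx' := mem_b0.mp hx
  by_cases hb1 : b ∈ centralizer (V : Set G)
  · -- `b` centralizes `x` and `r`
    have hb0 : b ∈ b0 V W q := mem_b0.mpr ⟨hb, hb1⟩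
    have e1 : b * x * b⁻¹ = x := conj_eq_of_comm (h.b0_comm hq hq1 hr hr1 hb0 hx)
    have e2 : b * r * b⁻¹ = r := conj_eq_of_comm (h.V_comm hr hb1).symm
    rw [e1]
    rcases h.comm_b0 hp hp1 hr hr1 ha hx with e | e
    · rw [e, e1]
    · rw [e]
      calc r * x = (b * r * b⁻¹) * (b * x * b⁻¹) := by rw [e1, e2]
        _ = b * (r * x) * b⁻¹ := by group
  · by_cases hrq : r = q
    · subst hrq
      have e1 : b * x * b⁻¹ = x := conj_eq_of_comm (h.abW' hr hr1 b hb x hx'.1)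
      have e2 : b * r * b⁻¹ = r := conj_eq_of_comm (h.p_comm hr hr1 hb)
      rw [e1]
      rcases h.comm_b0 hp hp1 hr hr1 ha hx with e | e
      · rw [e, e1]
      · rw [e]
        calc r * x = (b * r * b⁻¹) * (b * x * b⁻¹) := by rw [e1, e2]
          _ = b * (r * x) * b⁻¹ := by group
    · have em := h.move hq hq1 hr hr1 hrq hb hb1
      obtain ⟨d, hd⟩ : ∃ d, d = b * x * b⁻¹ * x⁻¹ := ⟨_, rfl⟩
      have hd0 : d ∈ b0 V W q := by rw [hd]; exact h.phi_mem hq hq1 hb hx'.2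
      have hx2 : b * x * b⁻¹ = d * x := by rw [hd]; group
      have hx3 : b * x * b⁻¹ ∈ b0 V W (q * r) := by
        rw [mem_b0]
        refine ⟨?_, h.cent_conj hq hq1 hx'.2 hb⟩
        have := conj_mem_ws b hx'.1
        rwa [em] at this
      have hqr1 : q * r ≠ 1 := h.mul_ne_one hr (Ne.symm hrq)
      have k1 := h.comm_b0 hp hp1 hr hr1 ha hx
      have k2 := h.comm_b0 hp hp1 hq hq1 ha hd0
      have k3 := h.comm_b0 hp hp1 (mul_mem hq hr) hqr1 ha hx3
      have k4 : a * (b * x * b⁻¹) * a⁻¹ = (a * d * a⁻¹) * (a * x * a⁻¹) := by rw [hx2]; group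
      have hrd : r * d = d * r := h.V_comm hr (mem_b0.mp hd0).2
      have key : ∀ s, s * (d * x) = d * x → s = 1 := fun s hs => by simpa using hs
      rcases k1 with k1 | k1 <;> rcases k3 with k3 | k3
      · rw [k1, k3]
      · exfalso
        rw [k1, k3, hx2] at k4
        rcases k2 with k2 | k2
        · rw [k2] at k4
          exact hqr1 (key _ k4)
        · rw [k2] at k4
          refine hr1 (key r ?_)
          calc r * (d * x) = q⁻¹ * (q * r * (d * x)) := by group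
            _ = q⁻¹ * (q * d * x) := by rw [k4]
            _ = d * x := by group
      · exfalso
        rw [k1, k3, hx2] at k4
        rcases k2 with k2 | k2
        · rw [k2] at k4
          refine hr1 (key r ?_)
          calc r * (d * x) = (r * d) * x := by group
            _ = d * (r * x) := by rw [hrd]; group
            _ = d * x := k4.symm
        · rw [k2] at k4
          refine hqr1 (key _ ?_)
          calc q * r * (d * x) = q * (r * d) * x := by group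
            _ = q * d * (r * x) := by rw [hrd]; group
            _ = d * x := k4.symm
      · rw [k1, k3]
        calc q * r * (b * x * b⁻¹) = (b * r * b⁻¹) * (b * x * b⁻¹) := by rw [em]
          _ = b * (r * x) * b⁻¹ := by group

/-- step (4'): `[ws V p, ws W q]` centralizes `b0 r` -/
theorem comm_cent (h : Pair T V W z) (hp : p ∈ V) (hp1 : p ≠ 1) (hq : q ∈ V) (hq1 : q ≠ 1)
    {r : G} (hr : r ∈ V) (hr1 : r ≠ 1) {a b x : G} (ha : a ∈ ws V p) (hb : b ∈ ws W q)
    (hx : x ∈ b0 V W r) : a * b * a⁻¹ * b⁻¹ * x = x * (a * b * a⁻¹ * b⁻¹) := by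
  have := h.act_comm hp hp1 hq hq1 hr hr1 (inv_mem ha) (inv_mem hb) hx
  refine comm_of_conj_eq ?_
  calc a * b * a⁻¹ * b⁻¹ * x * (a * b * a⁻¹ * b⁻¹)⁻¹
      = a * b * (a⁻¹ * (b⁻¹ * x * b⁻¹⁻¹) * a⁻¹⁻¹) * b⁻¹ * a⁻¹ := by group
    _ = a * b * (b⁻¹ * (a⁻¹ * x * a⁻¹⁻¹) * b⁻¹⁻¹) * b⁻¹ * a⁻¹ := by rw [this]
    _ = x := by group

/-- step (5): `C_G(U) = U` for `U = b0 p × b0 q` -/
theorem cent_u (h : Pair T V W z) (hp : p ∈ V) (hp1 : p ≠ 1) (hq : q ∈ V) (hq1 : q ≠ 1)
    (hqp : q ≠ p) {k : G} (h1 : ∀ x ∈ b0 V W p, k * x = x * k) (h2 : ∀ x ∈ b0 V W q, k * x = x * k) :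
    ∃ a ∈ b0 V W p, ∃ c ∈ b0 V W q, k = a * c := by
  have hk : k ∈ centralizer (V : Set G) := h.mem_centralizer_of hp hp1 hq hq1 hqp
    (h1 p (h.p_mem_b0 hp hp1)) (h2 q (h.p_mem_b0 hq hq1))
  obtain ⟨b, hb, hb1⟩ := h.exists_move' hp hp1
  obtain ⟨t, ht, ht1⟩ := h.exists_move' hq hq1
  have hf := h.phi_mem hp hp1 hb hk
  have hg := h.phi_mem hq hq1 ht hk
  obtain ⟨c, hc, hcf⟩ := h.phi_surj hp hp1 hq hq1 hqp hb hb1 hf
  obtain ⟨a, ha, hag⟩ := h.phi_surj hq hq1 hp hp1 (Ne.symm hqp) ht ht1 hg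
  set f := b * k * b⁻¹ * k⁻¹ with hfd
  set g := t * k * t⁻¹ * k⁻¹ with hgd
  refine ⟨a, ha, c, hc, ?_⟩
  set m := k * c⁻¹ * a⁻¹ with hm
  have hac : a * c = c * a := h.b0_comm hp hp1 hq hq1 ha hc
  have hm1 : m = 1 := by
    refine h.cent_triv hp hp1 hq hq1 hqp ?_ ?_
    · refine h.comm_ws_of hp hp1 hb hb1 ?_ ?_
      · refine (comm_of_conj_eq ?_).symm
        have e1 : b * k * b⁻¹ = f * k := by rw [hfd]; group
        have e2 : b * c * b⁻¹ = f * c := by rw [← hcf]; group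
        have e3 : b * a * b⁻¹ = a := conj_eq_of_comm (h.abW' hp hp1 b hb a (mem_b0.mp ha).1)
        have e4 : f * (k * c⁻¹) = (k * c⁻¹) * f :=
          comm_mul_of (h1 f hf).symm (comm_inv_of (h.b0_comm hp hp1 hq hq1 hf hc))
        calc b * m * b⁻¹ = (b * k * b⁻¹) * (b * c * b⁻¹)⁻¹ * (b * a * b⁻¹)⁻¹ := by rw [hm]; group
          _ = (f * k) * (f * c)⁻¹ * a⁻¹ := by rw [e1, e2, e3]
          _ = f * (k * c⁻¹) * f⁻¹ * a⁻¹ := by group
          _ = (k * c⁻¹) * f * f⁻¹ * a⁻¹ := by rw [e4]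
          _ = m := by rw [hm]; group
      · intro x hx
        rw [hm]
        exact mul_comm_of (mul_comm_of (h1 x hx) (inv_comm_of (h.b0_comm hq hq1 hp hp1 hc hx)))
          (inv_comm_of (h.b0_comm hp hp1 hp hp1 ha hx))
    · refine h.comm_ws_of hq hq1 ht ht1 ?_ ?_
      · refine (comm_of_conj_eq ?_).symm
        have e1 : t * k * t⁻¹ = g * k := by rw [hgd]; group
        have e2 : t * a * t⁻¹ = g * a := by rw [← hag]; group
        have e3 : t * c * t⁻¹ = c := conj_eq_of_comm (h.abW' hq hq1 t ht c (mem_b0.mp hc).1)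
        have e4 : g * (k * c⁻¹ * a⁻¹) = (k * c⁻¹ * a⁻¹) * g :=
          comm_mul_of (comm_mul_of (h2 g hg).symm (comm_inv_of (h.b0_comm hq hq1 hq hq1 hg hc)))
            (comm_inv_of (h.b0_comm hq hq1 hp hp1 hg ha))
        calc t * m * t⁻¹ = (t * k * t⁻¹) * (t * c * t⁻¹)⁻¹ * (t * a * t⁻¹)⁻¹ := by rw [hm]; group
          _ = (g * k) * c⁻¹ * (g * a)⁻¹ := by rw [e1, e2, e3]
          _ = g * (k * c⁻¹ * a⁻¹) * g⁻¹ := by group
          _ = (k * c⁻¹ * a⁻¹) * g * g⁻¹ := by rw [e4]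
          _ = m := by rw [hm]; group
      · intro x hx
        rw [hm]
        exact mul_comm_of (mul_comm_of (h2 x hx) (inv_comm_of (h.b0_comm hq hq1 hq hq1 hc hx)))
          (inv_comm_of (h.b0_comm hp hp1 hq hq1 ha hx))
  calc k = m * (a * c) := by rw [hm]; group
    _ = a * c := by rw [hm1, one_mul]

/-- `ws V q ∩ ws W q` centralizes `ws V p` -/
theorem f_comm (h : Pair T V W z) (hp : p ∈ V) (hp1 : p ≠ 1) (hq : q ∈ V) (hq1 : q ≠ 1)
    {f a : G} (hf : f ∈ ws V q) (hf' : f ∈ ws W q) (ha : a ∈ ws V p) : f * a = a * f := by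
  by_cases hqp : q = p
  · subst hqp
    exact h.abV' hq hq1 f hf a ha
  have hf0 : f ∈ b0 V W q := mem_b0.mpr ⟨hf', h.wsV_le_centralizer_V hq hq1 hf⟩
  have hw1 : p * q ≠ 1 := h.mul_ne_one hq (Ne.symm hqp)
  have hwp : p ≠ p * q := fun e => hq1 (by simpa using e)
  have hw : p * q ∈ V := mul_mem hp hq
  obtain ⟨b, hb, hb1⟩ := h.exists_move' hw hw1
  have e1 := h.move hw hw1 hp hp1 hwp hb hb1
  have e2 : p * q * p = q := by
    rw [h.v.comm hp hq, mul_assoc, h.v.sq p hp, mul_one]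
  rw [e2] at e1
  have h1 := conj_mem_ws b ha
  rw [e1] at h1
  have h2 : f * (b * a * b⁻¹) = (b * a * b⁻¹) * f := h.abV' hq hq1 f hf _ h1
  obtain ⟨x, hx, y, hy, hxy⟩ := h.cent_u hp hp1 hq hq1 hqp
    (fun x hx => h.comm_cent hp hp1 hw hw1 hp hp1 ha hb hx)
    (fun x hx => h.comm_cent hp hp1 hw hw1 hq hq1 ha hb hx)
  have h3 : f * (a * b * a⁻¹ * b⁻¹) = (a * b * a⁻¹ * b⁻¹) * f := by
    rw [hxy]
    exact comm_mul_of (h.b0_comm hq hq1 hp hp1 hf0 hx) (h.b0_comm hq hq1 hq hq1 hf0 hy)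
  have h4 := comm_mul_of h3 h2
  have e : a * b * a⁻¹ * b⁻¹ * (b * a * b⁻¹) = a := by group
  rwa [e] at h4

end points

/-- step (6), one half -/
theorem cent_ab_aux (h : Pair T V W z) {c : G} (h1 : ∀ a ∈ ws V z, c * a = a * c)
    (h2 : ∀ b ∈ ws W z, c * b = b * c) : c ∈ ws W z := by
  have hz := h.v.z_mem
  have hz1 := h.v.z_ne
  have hc : c ∈ centralizer (V : Set G) := by
    rw [mem_centralizer_iff]
    intro v hv
    exact (h1 v (h.v.V_le_ws hv)).symm
  obtain ⟨q, hq, hq1, hqp⟩ := h.v.exists_y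
  obtain ⟨b, hb, hb1⟩ := h.exists_move
  have hcb := h2 b hb
  have hce : ∀ e ∈ b0 V W q, c * e = e * c := by
    intro e he
    have he' := mem_b0.mp he
    refine comm_of_conj_eq ?_
    refine h.phi_eq hz hz1 hq hq1 hqp hb hb1 (h.cent_norm hq hc he'.1) he'.1 ?_
    have hd := h.phi_mem hz hz1 hb he'.2
    have hcd := h2 _ (mem_b0.mp hd).1
    calc b * (c * e * c⁻¹) * b⁻¹ * (c * e * c⁻¹)⁻¹
        = (b * c) * e * (c⁻¹ * b⁻¹) * c * e⁻¹ * c⁻¹ := by group
      _ = (c * b) * e * (b⁻¹ * c⁻¹) * c * e⁻¹ * c⁻¹ := by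
          rw [hcb, show c⁻¹ * b⁻¹ = b⁻¹ * c⁻¹ from by rw [← mul_inv_rev, ← mul_inv_rev, hcb]]
      _ = c * (b * e * b⁻¹ * e⁻¹) * c⁻¹ := by group
      _ = b * e * b⁻¹ * e⁻¹ := conj_eq_of_comm hcd
  obtain ⟨x, hx, y, hy, hxy⟩ := h.cent_u hz hz1 hq hq1 hqp
    (fun x hx => h2 x (mem_b0.mp hx).1) hce
  have hxb := h.abW b hb x (mem_b0.mp hx).1
  have hyb : b * y = y * b := by
    have e1 : b * (x⁻¹ * c) = (x⁻¹ * c) * b := comm_mul_of (comm_inv_of hxb) hcb.symm
    have e2 : x⁻¹ * c = y := by rw [hxy]; group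
    rwa [e2] at e1
  have hy1 := h.phi_inj hz hz1 hq hq1 hqp hb hb1 (mem_b0.mp hy).1 hyb
  rw [hxy, hy1, mul_one]
  exact (mem_b0.mp hx).1

/-- step (6): `C_G(ws V z ws W z) ≤ ws V z ∩ ws W z` -/
theorem cent_ab (h : Pair T V W z) {c : G} (h1 : ∀ a ∈ ws V z, c * a = a * c)
    (h2 : ∀ b ∈ ws W z, c * b = b * c) : c ∈ ws V z ∧ c ∈ ws W z :=
  ⟨h.symm.cent_ab_aux h2 h1, h.cent_ab_aux h1 h2⟩

theorem cent_ab' (h : Pair T V W z) {p : G} (hp : p ∈ V) (hp1 : p ≠ 1) {c : G}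
    (h1 : ∀ a ∈ ws V p, c * a = a * c) (h2 : ∀ b ∈ ws W p, c * b = b * c) : c ∈ ws V p ∧ c ∈ ws W p := by
  obtain ⟨g, -, -, hg⟩ := h.point hp hp1
  have := hg.cent_ab h1 (by rwa [ws_cj])
  rwa [ws_cj] at this

/-- step (7): `ws V z ∩ ws W z = ⟨z⟩` -/
theorem f_eq (h : Pair T V W z) {f : G} (hf : f ∈ ws V z) (hf' : f ∈ ws W z) : f = 1 ∨ f = z := by
  have hz := h.v.z_mem
  have hz1 := h.v.z_ne
  obtain ⟨p, hp, hp1, hpz⟩ := h.v.exists_y
  have hf0 : f ∈ b0 V W z := mem_b0.mpr ⟨hf', h.wsV_le_centralizer_V hz hz1 hf⟩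
  set C := centralizer ({p} : Set G) with hC
  have hCV : C ≤ normalizer ((ws V p : Subgroup G) : Set G) := centralizer_le_normalizer_ws V p
  have hCW : C ≤ normalizer ((ws W p : Subgroup G) : Set G) := centralizer_le_normalizer_ws W p
  let N : Subgroup G :=
    { carrier := {g | g ∈ C ∧ (∀ a ∈ ws V p, g * a * g⁻¹ * a⁻¹ ∈ ws V p ⊓ ws W p) ∧
        (∀ b ∈ ws W p, g * b * g⁻¹ * b⁻¹ ∈ ws V p ⊓ ws W p) ∧ ∀ e ∈ ws V p ⊓ ws W p, g * e = e * g}
      mul_mem' := by
        rintro g k ⟨hg, hg1, hg2, hg3⟩ ⟨hk, hk1, hk2, hk3⟩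
        have key : ∀ a, k * a * k⁻¹ * a⁻¹ ∈ ws V p ⊓ ws W p → g * a * g⁻¹ * a⁻¹ ∈ ws V p ⊓ ws W p →
            g * k * a * (g * k)⁻¹ * a⁻¹ ∈ ws V p ⊓ ws W p := by
          intro a h1 h2
          have e : g * k * a * (g * k)⁻¹ * a⁻¹ = g * (k * a * k⁻¹ * a⁻¹) * g⁻¹ * (g * a * g⁻¹ * a⁻¹) := by
            group
          rw [e, conj_eq_of_comm (hg3 _ h1)]
          exact mul_mem h1 h2
        exact ⟨mul_mem hg hk, fun a ha => key a (hk1 a ha) (hg1 a ha),
          fun a ha => key a (hk2 a ha) (hg2 a ha), fun e he => mul_comm_of (hg3 e he) (hk3 e he)⟩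
      one_mem' := ⟨one_mem _, fun a _ => by simp, fun a _ => by simp, fun a _ => by simp⟩
      inv_mem' := by
        rintro g ⟨hg, hg1, hg2, hg3⟩
        have key : ∀ a, g * a * g⁻¹ * a⁻¹ ∈ ws V p ⊓ ws W p → g⁻¹ * a * g⁻¹⁻¹ * a⁻¹ ∈ ws V p ⊓ ws W p := by
          intro a h1
          have h3 := hg3 _ h1
          have e : g⁻¹ * a * g⁻¹⁻¹ * a⁻¹ = g⁻¹ * (g * a * g⁻¹ * a⁻¹)⁻¹ * g := by group
          rw [e]
          have e2 : g⁻¹ * (g * a * g⁻¹ * a⁻¹)⁻¹ * g = (g * a * g⁻¹ * a⁻¹)⁻¹ := by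
            have := comm_inv_of h3
            calc g⁻¹ * (g * a * g⁻¹ * a⁻¹)⁻¹ * g = g⁻¹ * ((g * a * g⁻¹ * a⁻¹)⁻¹ * g) := by group
              _ = g⁻¹ * (g * (g * a * g⁻¹ * a⁻¹)⁻¹) := by rw [this]
              _ = (g * a * g⁻¹ * a⁻¹)⁻¹ := by group
          rw [e2]
          exact inv_mem h1
        exact ⟨inv_mem hg, fun a ha => key a (hg1 a ha), fun a ha => key a (hg2 a ha),
          fun e he => inv_comm_of (hg3 e he)⟩ }
  have hNC : N ≤ C := fun g hg => hg.1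
  have hNn : C ≤ normalizer (N : Set G) := by
    refine le_normalizer_of_forall fun c hc g hg => ?_
    obtain ⟨hg, hg1, hg2, hg3⟩ := hg
    have hFc : ∀ e ∈ ws V p ⊓ ws W p, c * e * c⁻¹ ∈ ws V p ⊓ ws W p := fun e he =>
      ⟨conj_mem_of_normalizer hCV hc he.1, conj_mem_of_normalizer hCW hc he.2⟩
    refine ⟨mul_mem (mul_mem hc hg) (inv_mem hc), fun a ha => ?_, fun a ha => ?_, fun e he => ?_⟩
    · have h1 := hFc _ (hg1 _ (conj_mem_of_normalizer' hCV hc ha))
      have e : c * (g * (c⁻¹ * a * c) * g⁻¹ * (c⁻¹ * a * c)⁻¹) * c⁻¹ =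
        c * g * c⁻¹ * a * (c * g * c⁻¹)⁻¹ * a⁻¹ := by group
      rwa [e] at h1
    · have h1 := hFc _ (hg2 _ (conj_mem_of_normalizer' hCW hc ha))
      have e : c * (g * (c⁻¹ * a * c) * g⁻¹ * (c⁻¹ * a * c)⁻¹) * c⁻¹ =
        c * g * c⁻¹ * a * (c * g * c⁻¹)⁻¹ * a⁻¹ := by group
      rwa [e] at h1
    · have h1 : c⁻¹ * e * c ∈ ws V p ⊓ ws W p :=
        ⟨conj_mem_of_normalizer' hCV hc he.1, conj_mem_of_normalizer' hCW hc he.2⟩
      have h2 := hg3 _ h1
      calc c * g * c⁻¹ * e = c * (g * (c⁻¹ * e * c)) * c⁻¹ := by group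
        _ = c * ((c⁻¹ * e * c) * g) * c⁻¹ := by rw [h2]
        _ = e * (c * g * c⁻¹) := by group
  have hFsq : ∀ e ∈ ws V p ⊓ ws W p, e * e = 1 := fun e he => h.sqV' hp hp1 e he.1
  have hN2 : IsPGroup 2 N := by
    intro g
    obtain ⟨hg, hg1, hg2, hg3⟩ := g.2
    have key : ∀ a, (g : G) * a * (g : G)⁻¹ * a⁻¹ ∈ ws V p ⊓ ws W p →
        ((g : G) * g) * a = a * (g * g) := by
      intro a ha
      set e := (g : G) * a * (g : G)⁻¹ * a⁻¹ with he
      have h3 := hg3 e ha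
      have h4 := hFsq e ha
      have h5 : (g : G) * a = e * a * g := by rw [he]; group
      calc ((g : G) * g) * a = g * (g * a) := by group
        _ = (g * e) * a * g := by rw [h5]; group
        _ = e * (g * a) * g := by rw [h3]; group
        _ = (e * e) * a * (g * g) := by rw [h5]; group
        _ = a * (g * g) := by rw [h4, one_mul]
    have h6 := h.cent_ab' hp hp1 (c := (g : G) * g) (fun a ha => key a (hg1 a ha))
      (fun a ha => key a (hg2 a ha))
    have h7 := hFsq _ h6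
    refine ⟨2, ?_⟩
    ext
    have e : ((g ^ 2 ^ 2 : N) : G) = (g : G) * g * (g * g) := by
      push_cast
      norm_num [pow_succ, mul_assoc]
    rw [e, h7]; rfl
  have hfN : f ∈ N := by
    have hfV : ∀ a ∈ ws V p, f * a = a * f := fun a ha => h.f_comm hp hp1 hz hz1 hf hf' ha
    have hfc : f ∈ C := by
      rw [hC, mem_centralizer_singleton_iff]
      exact (h.V_comm hp (mem_b0.mp hf0).2).symm
    refine ⟨hfc, fun a ha => ?_, fun b hb => ?_, fun e he => hfV e he.1⟩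
    · rw [hfV a ha]
      have : a * f * f⁻¹ * a⁻¹ = 1 := by group
      rw [this]; exact one_mem _
    · have h1 : f * b * f⁻¹ * b⁻¹ ∈ ws W p :=
        mul_mem (h.cent_norm hp (mem_b0.mp hf0).2 hb) (inv_mem hb)
      refine ⟨?_, h1⟩
      refine (h.cent_ab' hp hp1 (fun a ha => ?_) (fun a ha => h.abW' hp hp1 _ h1 a ha)).1
      have hbC := h.wsW_le_centralizer hp hp1 hb
      have h2 := hfV _ (conj_mem_of_normalizer' hCV hbC ha)
      have h3 : (b * f⁻¹ * b⁻¹) * a = a * (b * f⁻¹ * b⁻¹) := by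
        calc (b * f⁻¹ * b⁻¹) * a = b * (f⁻¹ * (b⁻¹ * a * b)) * b⁻¹ := by group
          _ = b * ((b⁻¹ * a * b) * f⁻¹) * b⁻¹ := by rw [inv_comm_of h2]
          _ = a * (b * f⁻¹ * b⁻¹) := by group
      have h4 := mul_comm_of (hfV a ha) h3
      have e : f * (b * f⁻¹ * b⁻¹) = f * b * f⁻¹ * b⁻¹ := by group
      rwa [e] at h4
  have hfo : f ∈ o2 C := Block.le_o2 hN2 hNC hNn hfN
  obtain ⟨b, hb, hb1⟩ := h.exists_move' hp hp1
  rcases h.commW hp hp1 hb hfo with e | e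
  · left
    exact h.phi_inj hp hp1 hz hz1 (Ne.symm hpz) hb hb1 hf' e
  · right
    have e1 := h.move hp hp1 hz hz1 (Ne.symm hpz) hb hb1
    have e2 : b * f * b⁻¹ = p * f := by rw [e]; group
    have h3 : f * z = 1 := by
      refine h.phi_inj hp hp1 hz hz1 (Ne.symm hpz) hb hb1 (mul_mem hf' h.z_memW) ?_
      refine comm_of_conj_eq ?_
      calc b * (f * z) * b⁻¹ = (b * f * b⁻¹) * (b * z * b⁻¹) := by group
        _ = (p * f) * (p * z) := by rw [e1, e2]
        _ = (f * p) * (p * z) := by rw [h.V_comm hp (mem_b0.mp hf0).2]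
        _ = f * (p * p) * z := by group
        _ = f * z := by rw [h.v.sq p hp, mul_one]
    rw [mul_eq_one_iff_eq_inv.mp h3, h.v.inv_eq hz]

end Pair

end Cfsg.Agent.Omega.CaseL

end

section


/-!
# NO-3S, `q = 2`, `n = 1` (helper881's text #13700): the base

`One T V z` : a flag `(z, V)`, `|V| = 4`, as in `CaseL.Ln` (K-free), `W_z = ws V z` abelian, `[W_z, W_y] ≠ 1` for a
`y ∈ V`, and (F1): `K_z = kq V z` moves the points of `V`.  Points of `V`: all `p ∈ V`, `p ≠ 1`.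

* `One.point` : every point of `V` is as good as `z`;
* `ii V` : the intersection of the `W_p`, `p ∈ V#`; `One.mem_ii` : it is the intersection of any two of them;
* `One.fu` (FU) : for `u ∈ ii V`, `u ∉ V` and every point `p` of `V` some `k ∈ K_p ∩ C_G(V)` has `k u k⁻¹ = p u`;
* `One.ftwo` (F2) : `N_G(V) ∩ C_G(u)` is transitive on the points of `V`.
-/

set_option autoImplicit false
set_option linter.unusedSectionVars false

namespace Cfsg.Agent.Omega.NO3S.TwoOne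

open Subgroup Cfsg Cfsg.Agent.ZN Cfsg.Agent.MinSimple.Geo Cfsg.Agent.Omega.CaseL
open Cfsg.Agent.ZN.Block (conj_mem_of_normalizer conj_mem_of_normalizer' le_normalizer_of_forall
  mem_normalizer_of)

universe u

variable {G : Type u} [Group G]

/-- a flag at distance 1 from the critical point, with (F1) -/
structure One (T V : Subgroup G) (z : G) : Prop where
  ln : Ln T V z
  ab : ∀ a ∈ ws V z, ∀ b ∈ ws V z, a * b = b * a
  nc : ∃ y ∈ V, y ≠ 1 ∧ y ≠ z ∧ ∃ a ∈ ws V z, ∃ b ∈ ws V y, a * b ≠ b * a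
  f1 : ∃ k ∈ kq V z, k ∉ centralizer (V : Set G)

/-! ### the kernel `kq V x` -/

theorem kq_le_centralizer (V : Subgroup G) (x : G) : kq V x ≤ centralizer ({x} : Set G) :=
  fun _ h => h.1

theorem kq_comm {V : Subgroup G} {x k w : G} (hk : k ∈ kq V x) (hw : w ∈ ws V x) :
    k * w * k⁻¹ * w⁻¹ ∈ zpowers x := hk.2.1 w hw

theorem cj_kq (V : Subgroup G) (g x : G) : cj g (kq V x) = kq V (g * x * g⁻¹) := by
  have key : ∀ (g x : G), ∀ k ∈ kq V x, g * k * g⁻¹ ∈ kq V (g * x * g⁻¹) := by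
    intro g x k hk
    have hz : ∀ y ∈ zpowers x, g * y * g⁻¹ ∈ zpowers (g * x * g⁻¹) := by
      intro y hy
      obtain ⟨n, rfl⟩ := mem_zpowers_iff.mp hy
      rw [← conj_zpow]
      exact zpow_mem (mem_zpowers _) n
    have hw : ∀ w ∈ ws V (g * x * g⁻¹), g⁻¹ * w * g ∈ ws V x := by
      intro w hw
      have := conj_mem_ws g⁻¹ hw
      have e : g⁻¹ * (g * x * g⁻¹) * g⁻¹⁻¹ = x := by group
      rw [e, inv_inv] at this
      exact this
    refine ⟨?_, fun w hw' => ?_, fun w hw' => ?_⟩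
    · rw [mem_centralizer_singleton_iff]
      have := mem_centralizer_singleton_iff.mp hk.1
      calc g * k * g⁻¹ * (g * x * g⁻¹) = g * (k * x) * g⁻¹ := by group
        _ = g * (x * k) * g⁻¹ := by rw [this]
        _ = g * x * g⁻¹ * (g * k * g⁻¹) := by group
    · have h1 := hz _ (hk.2.1 _ (hw w hw'))
      have e : g * (k * (g⁻¹ * w * g) * k⁻¹ * (g⁻¹ * w * g)⁻¹) * g⁻¹ =
          g * k * g⁻¹ * w * (g * k * g⁻¹)⁻¹ * w⁻¹ := by group
      rwa [e] at h1
    · have h1 := hz _ (hk.2.2 _ (hw w hw'))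
      have e : g * (k⁻¹ * (g⁻¹ * w * g) * k * (g⁻¹ * w * g)⁻¹) * g⁻¹ =
          (g * k * g⁻¹)⁻¹ * w * (g * k * g⁻¹) * w⁻¹ := by group
      rwa [e] at h1
  apply le_antisymm
  · intro k hk
    rw [mem_cj] at hk
    have := key g x _ hk
    have e : g * (g⁻¹ * k * g) * g⁻¹ = k := by group
    rwa [e] at this
  · intro k hk
    rw [mem_cj]
    have := key g⁻¹ _ k hk
    have e : g⁻¹ * (g * x * g⁻¹) * g⁻¹⁻¹ = x := by group
    rw [e, inv_inv] at this
    exact this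

theorem conj_mem_kq {V : Subgroup G} {x k : G} (g : G) (hk : k ∈ kq V x) :
    g * k * g⁻¹ ∈ kq V (g * x * g⁻¹) := by
  rw [← cj_kq]; exact conj_mem_cj hk

theorem centralizer_le_normalizer_kq (V : Subgroup G) (x : G) :
    centralizer ({x} : Set G) ≤ normalizer ((kq V x : Subgroup G) : Set G) := by
  intro g hg
  rw [mem_normalizer_iff_cj, cj_kq]
  have : g * x * g⁻¹ = x := by
    rw [mem_centralizer_singleton_iff.mp hg]; group
  rw [this]

theorem kq_cj (V : Subgroup G) (g x : G) : kq (cj g V) x = kq V x := by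
  ext k
  change (k ∈ _ ∧ (∀ w ∈ ws (cj g V) x, _) ∧ ∀ w ∈ ws (cj g V) x, _) ↔ _
  rw [ws_cj]
  rfl

/-- `ws V z` is elementary abelian if it is abelian -/
theorem ws_sq {T V : Subgroup G} {z : G} (h : Ln T V z) (ab : ∀ a ∈ ws V z, ∀ b ∈ ws V z, a * b = b * a) :
    ∀ a ∈ ws V z, a * a = 1 := by
  let S : Subgroup G :=
    { carrier := {a | a ∈ ws V z ∧ a * a = 1}
      mul_mem' := by
        rintro a b ⟨ha, ha1⟩ ⟨hb, hb1⟩
        refine ⟨mul_mem ha hb, ?_⟩
        calc a * b * (a * b) = a * (b * a) * b := by group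
          _ = a * (a * b) * b := by rw [ab b hb a ha]
          _ = (a * a) * (b * b) := by group
          _ = 1 := by rw [ha1, hb1, mul_one]
      one_mem' := ⟨one_mem _, one_mul 1⟩
      inv_mem' := by
        rintro a ⟨ha, ha1⟩
        refine ⟨inv_mem ha, ?_⟩
        rw [inv_eq_self ha1]; exact ha1 }
  have hle : ws V z ≤ S := by
    refine ws_le fun L hL => ?_
    intro x hx
    refine ⟨le_ws hL hx, ?_⟩
    obtain ⟨c, hc, rfl⟩ := h.exists_of_mem_lines hL
    rw [mem_cj] at hx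
    have := h.sq _ hx
    calc x * x = c * (c⁻¹ * x * c * (c⁻¹ * x * c)) * c⁻¹ := by group
      _ = 1 := by rw [this]; group
  intro a ha
  exact (hle ha).2

namespace One

variable {T V : Subgroup G} {z : G}

theorem conj (h : One T V z) (g : G) : One (cj g T) (cj g V) (g * z * g⁻¹) where
  ln := h.ln.conj g
  ab := by
    rw [ws_cj, ← cj_ws]
    intro a ha b hb
    have := h.ab _ (mem_of_cj ha) _ (mem_of_cj hb)
    calc a * b = g * ((g⁻¹ * a * g) * (g⁻¹ * b * g)) * g⁻¹ := by group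
      _ = g * ((g⁻¹ * b * g) * (g⁻¹ * a * g)) * g⁻¹ := by rw [this]
      _ = b * a := by group
  nc := by
    obtain ⟨y, hy, hy1, hyz, a, ha, b, hb, hab⟩ := h.nc
    refine ⟨g * y * g⁻¹, conj_mem_cj hy, ?_, ?_, g * a * g⁻¹, ?_, g * b * g⁻¹, ?_, ?_⟩
    · intro e
      exact hy1 (conj_eq_one_iff.mp e)
    · intro e
      exact hyz (by simpa using e)
    · rw [ws_cj]; exact conj_mem_ws g ha
    · rw [ws_cj]; exact conj_mem_ws g hb
    · intro e
      apply hab
      calc a * b = g⁻¹ * ((g * a * g⁻¹) * (g * b * g⁻¹)) * g := by group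
        _ = g⁻¹ * ((g * b * g⁻¹) * (g * a * g⁻¹)) * g := by rw [e]
        _ = b * a := by group
  f1 := by
    obtain ⟨k, hk, hk1⟩ := h.f1
    refine ⟨g * k * g⁻¹, ?_, ?_⟩
    · rw [kq_cj]; exact conj_mem_kq g hk
    · intro e
      apply hk1
      rw [mem_centralizer_iff] at e ⊢
      intro v hv
      have := e _ (conj_mem_cj hv)
      calc v * k = g⁻¹ * ((g * v * g⁻¹) * (g * k * g⁻¹)) * g := by group
        _ = g⁻¹ * ((g * k * g⁻¹) * (g * v * g⁻¹)) * g := by rw [this]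
        _ = k * v := by group

theorem point (h : One T V z) {p : G} (hp : p ∈ V) (hp1 : p ≠ 1) :
    ∃ g ∈ normalizer (V : Set G), g * z * g⁻¹ = p ∧ One (cj g T) V p := by
  obtain ⟨g, hg, rfl⟩ := h.ln.trans p hp hp1
  refine ⟨g, hg, rfl, ?_⟩
  have := h.conj g
  rwa [cj_eq_of_mem_normalizer hg] at this

theorem sqz (h : One T V z) : ∀ a ∈ ws V z, a * a = 1 := ws_sq h.ln h.ab

/-! ### all points of `V` -/

section points

variable {p q : G}

theorem sq (h : One T V z) (hp : p ∈ V) (hp1 : p ≠ 1) : ∀ a ∈ ws V p, a * a = 1 := by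
  obtain ⟨g, -, -, hg⟩ := h.point hp hp1
  exact hg.sqz

theorem comm (h : One T V z) (hp : p ∈ V) (hp1 : p ≠ 1) : ∀ a ∈ ws V p, ∀ b ∈ ws V p, a * b = b * a := by
  obtain ⟨g, -, -, hg⟩ := h.point hp hp1
  exact hg.ab

theorem V_le (h : One T V z) (hp : p ∈ V) (hp1 : p ≠ 1) : V ≤ ws V p := by
  obtain ⟨g, -, -, hg⟩ := h.point hp hp1
  exact hg.ln.V_le_ws

theorem ws_le_centralizer_V (h : One T V z) (hp : p ∈ V) (hp1 : p ≠ 1) :
    ws V p ≤ centralizer (V : Set G) := by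
  intro a ha
  rw [mem_centralizer_iff]
  intro v hv
  exact h.comm hp hp1 v (h.V_le hp hp1 hv) a ha

theorem V_comm (_ : One T V z) {v c : G} (hv : v ∈ V) (hc : c ∈ centralizer (V : Set G)) :
    v * c = c * v := mem_centralizer_iff.mp hc v hv

theorem V_le_centralizer (h : One T V z) : V ≤ centralizer (V : Set G) := by
  intro v hv
  rw [mem_centralizer_iff]
  intro w hw
  exact h.ln.comm hw hv

theorem cent_le_centralizer (_ : One T V z) (hp : p ∈ V) :
    centralizer (V : Set G) ≤ centralizer ({p} : Set G) := by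
  intro c hc
  rw [mem_centralizer_singleton_iff]
  exact (mem_centralizer_iff.mp hc p hp).symm

/-- `C_G(V)` normalizes `W_p` -/
theorem cent_norm (h : One T V z) (hp : p ∈ V) :
    centralizer (V : Set G) ≤ normalizer ((ws V p : Subgroup G) : Set G) :=
  (h.cent_le_centralizer hp).trans (centralizer_le_normalizer_ws V p)

theorem mul_ne_one (h : One T V z) (hq : q ∈ V) (hpq : p ≠ q) : p * q ≠ 1 := fun e =>
  hpq (by rw [mul_eq_one_iff_eq_inv.mp e, h.ln.inv_eq hq])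

theorem mem_centralizer_of (h : One T V z) (hp : p ∈ V) (hp1 : p ≠ 1) (hq : q ∈ V) (hq1 : q ≠ 1)
    (hqp : q ≠ p) {g : G} (h1 : g * p = p * g) (h2 : g * q = q * g) :
    g ∈ centralizer (V : Set G) := by
  obtain ⟨g, -, -, hg⟩ := h.point hp hp1
  exact hg.ln.mem_centralizer_V hq hq1 hqp h1 h2

theorem exists_q (h : One T V z) (hp : p ∈ V) (hp1 : p ≠ 1) : ∃ q ∈ V, q ≠ 1 ∧ q ≠ p := by
  obtain ⟨g, -, -, hg⟩ := h.point hp hp1
  exact hg.ln.exists_y

/-- elements of `K_p` act on `W_p` by multiplication with `1` or `p` -/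
theorem kq_cases (h : One T V z) (hp : p ∈ V) {k w : G} (hk : k ∈ kq V p) (hw : w ∈ ws V p) :
    k * w * k⁻¹ = w ∨ k * w * k⁻¹ = p * w := by
  rcases (mem_zpowers_iff_of_mul_self (h.ln.sq p hp)).mp (kq_comm hk hw) with e | e
  · left
    calc k * w * k⁻¹ = (k * w * k⁻¹ * w⁻¹) * w := by group
      _ = w := by rw [e, one_mul]
  · right
    calc k * w * k⁻¹ = (k * w * k⁻¹ * w⁻¹) * w := by group
      _ = p * w := by rw [e]

theorem kq_p (_ : One T V z) {k : G} (hk : k ∈ kq V p) : k * p = p * k :=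
  mem_centralizer_singleton_iff.mp (kq_le_centralizer V p hk)

/-- `K_p` normalizes `V` -/
theorem kq_le_normalizer (h : One T V z) (hp : p ∈ V) (hp1 : p ≠ 1) :
    kq V p ≤ normalizer (V : Set G) := by
  refine le_normalizer_of_forall fun k hk v hv => ?_
  rcases h.kq_cases hp hk (h.V_le hp hp1 hv) with e | e
  · rw [e]; exact hv
  · rw [e]; exact mul_mem hp hv

/-- (F1) at every point -/
theorem exists_mover (h : One T V z) (hp : p ∈ V) (hp1 : p ≠ 1) :
    ∃ k ∈ kq V p, k ∉ centralizer (V : Set G) := by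
  obtain ⟨g, -, -, hg⟩ := h.point hp hp1
  exact hg.f1

/-- a mover of `K_p` moves the points `q ≠ p` to `p q` -/
theorem move (h : One T V z) (hp : p ∈ V) (hp1 : p ≠ 1) (hq : q ∈ V) (hq1 : q ≠ 1) (hqp : q ≠ p)
    {k : G} (hk : k ∈ kq V p) (hk1 : k ∉ centralizer (V : Set G)) : k * q * k⁻¹ = p * q := by
  rcases h.kq_cases hp hk (h.V_le hp hp1 hq) with e | e
  · exfalso
    exact hk1 (h.mem_centralizer_of hp hp1 hq hq1 hqp (h.kq_p hk) (comm_of_conj_eq e))
  · exact e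

/-- the movers of `K_p` form one coset of `K_p ∩ C_G(V)` -/
theorem mover_coset (h : One T V z) (hp : p ∈ V) (hp1 : p ≠ 1) {k k' : G} (hk : k ∈ kq V p)
    (hk1 : k ∉ centralizer (V : Set G)) (hk' : k' ∈ kq V p) (hk1' : k' ∉ centralizer (V : Set G)) :
    k' * k⁻¹ ∈ centralizer (V : Set G) := by
  obtain ⟨q, hq, hq1, hqp⟩ := h.exists_q hp hp1
  refine h.mem_centralizer_of hp hp1 (mul_mem hp hq) (h.mul_ne_one hq (Ne.symm hqp)) ?_ ?_ ?_
  · intro e'
    exact hq1 (by simpa using e')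
  · exact mul_comm_of (h.kq_p hk') (inv_comm_of (h.kq_p hk))
  · refine comm_of_conj_eq ?_
    have e1 := h.move hp hp1 hq hq1 hqp hk hk1
    have e2 := h.move hp hp1 hq hq1 hqp hk' hk1'
    calc k' * k⁻¹ * (p * q) * (k' * k⁻¹)⁻¹ = k' * (k⁻¹ * (p * q) * k) * k'⁻¹ := by group
      _ = k' * (k⁻¹ * (k * q * k⁻¹) * k) * k'⁻¹ := by rw [e1]
      _ = k' * q * k'⁻¹ := by group
      _ = p * q := e2

end points

end One

/-- the intersection of the `W_p`, `p ∈ V#` -/
def ii (V : Subgroup G) : Subgroup G where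
  carrier := {u | ∀ p ∈ V, p ≠ 1 → u ∈ ws V p}
  mul_mem' := fun ha hb p hp hp1 => mul_mem (ha p hp hp1) (hb p hp hp1)
  one_mem' := fun _ _ _ => one_mem _
  inv_mem' := fun ha p hp hp1 => inv_mem (ha p hp hp1)

theorem ii_le {V : Subgroup G} {p : G} (hp : p ∈ V) (hp1 : p ≠ 1) : ii V ≤ ws V p := fun _ hu => hu p hp hp1

theorem normalizer_le_normalizer_ii (V : Subgroup G) :
    normalizer (V : Set G) ≤ normalizer ((ii V : Subgroup G) : Set G) := by
  refine le_normalizer_of_forall fun g hg u hu => ?_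
  intro p hp hp1
  have hp' : g⁻¹ * p * g ∈ V := (mem_normalizer_iff''.mp hg p).mp hp
  have hp1' : g⁻¹ * p * g ≠ 1 := fun e => hp1 (by
    have : p = g * (g⁻¹ * p * g) * g⁻¹ := by group
    rw [this, e]; group)
  have := conj_mem_ws g (hu _ hp' hp1')
  have e : g * (g⁻¹ * p * g) * g⁻¹ = p := by group
  rwa [e] at this

namespace One

variable {T V : Subgroup G} {z : G}

theorem V_le_ii (h : One T V z) : V ≤ ii V := fun _ hv _ hp hp1 => h.V_le hp hp1 hv

theorem ii_le_centralizer (h : One T V z) : ii V ≤ centralizer (V : Set G) :=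
  (ii_le h.ln.z_mem h.ln.z_ne).trans (h.ws_le_centralizer_V h.ln.z_mem h.ln.z_ne)

/-- `ii V` is the intersection of any two of the `W_p`. -/
theorem mem_ii (h : One T V z) {p q u : G} (hp : p ∈ V) (hp1 : p ≠ 1) (hq : q ∈ V) (hq1 : q ≠ 1)
    (hqp : q ≠ p) (h1 : u ∈ ws V p) (h2 : u ∈ ws V q) : u ∈ ii V := by
  intro r hr hr1
  obtain ⟨g, -, -, hg⟩ := h.point hp hp1
  rcases hg.ln.four hp hq hp1 hq1 (Ne.symm hqp) hr with e | e | e | e
  · exact absurd e hr1
  · rw [e]; exact h1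
  · rw [e]; exact h2
  · obtain ⟨k, hk, hk1⟩ := h.exists_mover hp hp1
    have e1 := h.move hp hp1 hq hq1 hqp hk hk1
    have h3 := conj_mem_ws k h2
    rw [e1, ← e] at h3
    rcases h.kq_cases hp hk h1 with e2 | e2
    · rwa [e2] at h3
    · rw [e2] at h3
      have h4 := mul_mem (h.V_le hr hr1 hp) h3
      rwa [← mul_assoc, h.ln.sq p hp, one_mul] at h4

/-- the fixed points of all `K_p` on `ii V` are trivial -/
theorem fix_triv [Finite G] (h : One T V z) {u : G} (hu : u ∈ ii V)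
    (hf : ∀ p ∈ V, p ≠ 1 → ∀ k ∈ kq V p, k * u = u * k) : u = 1 := by
  let D : Subgroup G :=
    { carrier := {d | d ∈ ii V ∧ ∀ p ∈ V, p ≠ 1 → ∀ k ∈ kq V p, k * d = d * k}
      mul_mem' := by
        rintro a b ⟨ha, ha1⟩ ⟨hb, hb1⟩
        exact ⟨mul_mem ha hb, fun p hp hp1 k hk => comm_mul_of (ha1 p hp hp1 k hk) (hb1 p hp hp1 k hk)⟩
      one_mem' := ⟨one_mem _, fun p hp hp1 k hk => by simp⟩
      inv_mem' := by
        rintro a ⟨ha, ha1⟩
        exact ⟨inv_mem ha, fun p hp hp1 k hk => comm_inv_of (ha1 p hp hp1 k hk)⟩ }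
  have hDn : D ≤ normalizer (V : Set G) := fun d hd =>
    centralizer_le_normalizer _ (h.ii_le_centralizer hd.1)
  have hN : normalizer (V : Set G) ≤ normalizer (D : Set G) := by
    refine le_normalizer_of_forall fun g hg d hd => ?_
    refine ⟨conj_mem_of_normalizer (normalizer_le_normalizer_ii V) hg hd.1, fun p hp hp1 k hk => ?_⟩
    have hp' : g⁻¹ * p * g ∈ V := (mem_normalizer_iff''.mp hg p).mp hp
    have hp1' : g⁻¹ * p * g ≠ 1 := fun e => hp1 (by
      have : p = g * (g⁻¹ * p * g) * g⁻¹ := by group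
      rw [this, e]; group)
    have hk' : g⁻¹ * k * g ∈ kq V (g⁻¹ * p * g) := by
      have := conj_mem_kq g⁻¹ hk
      rwa [inv_inv] at this
    have := hd.2 _ hp' hp1' _ hk'
    calc k * (g * d * g⁻¹) = g * ((g⁻¹ * k * g) * d) * g⁻¹ := by group
      _ = g * (d * (g⁻¹ * k * g)) * g⁻¹ := by rw [this]
      _ = g * d * g⁻¹ * k := by group
  have hD : D = ⊥ := by
    by_contra hne
    have hz := h.ln.z_mem_of_normal hDn hN hne
    obtain ⟨y, hy, hy1, hyz⟩ := h.ln.exists_y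
    obtain ⟨k, hk, hk1⟩ := h.exists_mover hy hy1
    have e1 := h.move hy hy1 h.ln.z_mem h.ln.z_ne (Ne.symm hyz) hk hk1
    have e2 := hz.2 y hy hy1 k hk
    rw [conj_eq_of_comm e2] at e1
    exact hy1 (by simpa using e1.symm)
  have : u ∈ D := ⟨hu, hf⟩
  rw [hD] at this
  exact mem_bot.mp this

/-- (FU), for some point -/
theorem fu_aux [Finite G] (h : One T V z) {u : G} (hu : u ∈ ii V) (huV : u ∉ V) :
    ∃ p ∈ V, p ≠ 1 ∧ ∃ k ∈ kq V p, k ∈ centralizer (V : Set G) ∧ k * u * k⁻¹ = p * u := by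
  by_contra hcon
  push Not at hcon
  have hcent : ∀ p ∈ V, p ≠ 1 → ∀ k ∈ kq V p, k ∈ centralizer (V : Set G) → k * u = u * k := by
    intro p hp hp1 k hk hkV
    rcases h.kq_cases hp hk (hu p hp hp1) with e | e
    · exact comm_of_conj_eq e
    · exact absurd e (hcon p hp hp1 k hk hkV)
  have hz := h.ln.z_mem
  have hz1 := h.ln.z_ne
  have hzz := h.ln.zz
  obtain ⟨y, hy, hy1, hyz⟩ := h.ln.exists_y
  have hyy := h.ln.sq y hy
  obtain ⟨s, hs, hs1⟩ := h.exists_mover hz hz1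
  obtain ⟨t, ht, ht1⟩ := h.exists_mover hy hy1
  have hzy := h.ln.comm hz hy
  have hsy := h.move hz hz1 hy hy1 hyz hs hs1
  have htz := h.move hy hy1 hz hz1 (Ne.symm hyz) ht ht1
  have hsz : s * z * s⁻¹ = z := conj_eq_of_comm (h.kq_p hs)
  have hty : t * y * t⁻¹ = y := conj_eq_of_comm (h.kq_p ht)
  have huc := h.ii_le_centralizer hu
  have huz := h.V_comm hz huc
  have huy := h.V_comm hy huc
  -- a point of `u V` fixed by `s` and `t`
  obtain ⟨v, hv, hsv, htv⟩ : ∃ v ∈ V, s * (v * u) * s⁻¹ = v * u ∧ t * (v * u) * t⁻¹ = v * u := by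
    have es : ∀ v, s * (v * u) * s⁻¹ = (s * v * s⁻¹) * (s * u * s⁻¹) := fun v => by group
    have et : ∀ v, t * (v * u) * t⁻¹ = (t * v * t⁻¹) * (t * u * t⁻¹) := fun v => by group
    rcases h.kq_cases hz hs (hu z hz hz1) with e1 | e1 <;>
      rcases h.kq_cases hy ht (hu y hy hy1) with e2 | e2
    · exact ⟨1, one_mem _, by simpa using e1, by simpa using e2⟩
    · -- `v = z`
      refine ⟨z, hz, ?_, ?_⟩
      · rw [es, hsz, e1]
      · rw [et, htz, e2]
        calc y * z * (y * u) = y * (z * y) * u := by group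
          _ = (y * y) * (z * u) := by rw [hzy]; group
          _ = z * u := by rw [hyy, one_mul]
    · refine ⟨y, hy, ?_, ?_⟩
      · rw [es, hsy, e1]
        calc z * y * (z * u) = z * (y * z) * u := by group
          _ = (z * z) * (y * u) := by rw [← hzy]; group
          _ = y * u := by rw [hzz, one_mul]
      · rw [et, hty, e2]
    · refine ⟨y * z, mul_mem hy hz, ?_, ?_⟩
      · have : s * (y * z) * s⁻¹ = (s * y * s⁻¹) * (s * z * s⁻¹) := by group
        rw [es, this, hsy, hsz, e1]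
        calc z * y * z * (z * u) = z * y * (z * z) * u := by group
          _ = z * y * u := by rw [hzz, mul_one]
          _ = y * z * u := by rw [hzy]
      · have : t * (y * z) * t⁻¹ = (t * y * t⁻¹) * (t * z * t⁻¹) := by group
        rw [et, this, hty, htz, e2]
        calc y * (y * z) * (y * u) = (y * y) * (z * y) * u := by group
          _ = (z * y) * u := by rw [hyy, one_mul]
          _ = y * z * u := by rw [hzy]
  set a := v * u with ha
  have hai : a ∈ ii V := mul_mem (h.V_le_ii hv) hu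
  have hacent : ∀ p ∈ V, p ≠ 1 → ∀ k ∈ kq V p, k ∈ centralizer (V : Set G) → k * a = a * k :=
    fun p hp hp1 k hk hkV => comm_mul_of (h.V_comm hv hkV).symm (hcent p hp hp1 k hk hkV)
  -- one mover which fixes `a` is enough
  have hone : ∀ p ∈ V, p ≠ 1 → ∀ m ∈ kq V p, m ∉ centralizer (V : Set G) → m * a = a * m →
      ∀ k ∈ kq V p, k * a = a * k := by
    intro p hp hp1 m hm hm1 hma k hk
    by_cases hk1 : k ∈ centralizer (V : Set G)
    · exact hacent p hp hp1 k hk hk1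
    · have h1 := hacent p hp hp1 _ (mul_mem hk (inv_mem hm)) (h.mover_coset hp hp1 hm hm1 hk hk1)
      have h2 := mul_comm_of h1 hma
      simpa using h2
  have ha1 : a = 1 := by
    refine h.fix_triv hai fun p hp hp1 => ?_
    rcases h.ln.four hz hy hz1 hy1 (Ne.symm hyz) hp with e | e | e | e
    · exact absurd e hp1
    · subst e; exact hone _ hz hz1 s hs hs1 (comm_of_conj_eq hsv)
    · subst e; exact hone _ hy hy1 t ht ht1 (comm_of_conj_eq htv)
    · have hm := conj_mem_kq s ht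
      rw [hsy, ← e] at hm
      refine hone p hp hp1 (s * t * s⁻¹) hm ?_ ?_
      · intro hc
        apply ht1
        have := conj_mem_of_normalizer' (normalizer_le_normalizer_centralizer V)
          (h.kq_le_normalizer hz hz1 hs) hc
        have e' : s⁻¹ * (s * t * s⁻¹) * s = t := by group
        rwa [e'] at this
      · have h1 := comm_of_conj_eq hsv
        have h2 := comm_of_conj_eq htv
        exact mul_comm_of (mul_comm_of h1 h2) (inv_comm_of h1)
  apply huV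
  have : u = v⁻¹ * a := by rw [ha]; group
  rw [this, ha1, mul_one]
  exact inv_mem hv

/-- (FU): for `u ∈ I - V` and every point `p` some element of `K_p ∩ C_G(V)` moves `u` to `p u`. -/
theorem fu [Finite G] (h : One T V z) {u : G} (hu : u ∈ ii V) (huV : u ∉ V) {p : G} (hp : p ∈ V)
    (hp1 : p ≠ 1) : ∃ k ∈ kq V p, k ∈ centralizer (V : Set G) ∧ k * u * k⁻¹ = p * u := by
  obtain ⟨q, hq, hq1, k, hk, hkV, hku⟩ := h.fu_aux hu huV
  by_cases hpq : p = q
  · subst hpq; exact ⟨k, hk, hkV, hku⟩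
  have hw : p * q ∈ V := mul_mem hp hq
  have hw1 : p * q ≠ 1 := h.mul_ne_one hq hpq
  have hqw : q ≠ p * q := fun e => hp1 (by simpa using e.symm)
  obtain ⟨t, ht, ht1⟩ := h.exists_mover hw hw1
  have e1 := h.move hw hw1 hq hq1 hqw ht ht1
  have e2 : p * q * q = p := by rw [mul_assoc, h.ln.sq q hq, mul_one]
  rw [e2] at e1
  have htn := h.kq_le_normalizer hw hw1 ht
  refine ⟨t * k * t⁻¹, ?_, conj_mem_of_normalizer (normalizer_le_normalizer_centralizer V) htn hkV, ?_⟩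
  · have := conj_mem_kq t hk
    rwa [e1] at this
  · have htw : t * (p * q) * t⁻¹ = p * q := conj_eq_of_comm (h.kq_p ht)
    have huc := h.ii_le_centralizer hu
    have hkw : k * (p * q) * k⁻¹ = p * q := conj_eq_of_comm (h.V_comm hw hkV).symm
    rcases h.kq_cases hw ht (hu _ hw hw1) with e3 | e3
    · have e4 : t⁻¹ * u * t = u := by
        calc t⁻¹ * u * t = t⁻¹ * (t * u * t⁻¹) * t := by rw [e3]
          _ = u := by group
      calc t * k * t⁻¹ * u * (t * k * t⁻¹)⁻¹ = t * (k * (t⁻¹ * u * t) * k⁻¹) * t⁻¹ := by group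
        _ = t * (q * u) * t⁻¹ := by rw [e4, hku]
        _ = (t * q * t⁻¹) * (t * u * t⁻¹) := by group
        _ = p * u := by rw [e1, e3]
    · have e4 : t⁻¹ * u * t = p * q * u := by
        have h5 : t * (p * q * u) * t⁻¹ = u := by
          calc t * (p * q * u) * t⁻¹ = (t * (p * q) * t⁻¹) * (t * u * t⁻¹) := by group
            _ = (p * q) * (p * q) * u := by rw [htw, e3]; group
            _ = u := by rw [h.ln.sq _ hw, one_mul]
        calc t⁻¹ * u * t = t⁻¹ * (t * (p * q * u) * t⁻¹) * t := by rw [h5]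
          _ = p * q * u := by group
      calc t * k * t⁻¹ * u * (t * k * t⁻¹)⁻¹ = t * (k * (t⁻¹ * u * t) * k⁻¹) * t⁻¹ := by group
        _ = t * ((k * (p * q) * k⁻¹) * (k * u * k⁻¹)) * t⁻¹ := by rw [e4]; group
        _ = t * (p * q * (q * u)) * t⁻¹ := by rw [hkw, hku]
        _ = (t * (p * q) * t⁻¹) * (t * q * t⁻¹) * (t * u * t⁻¹) := by group
        _ = (p * q) * p * (p * q * u) := by rw [htw, e1, e3]
        _ = (p * q) * (p * p) * (q * u) := by group
        _ = p * (q * q) * u := by rw [h.ln.sq p hp, mul_one]; group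
        _ = p * u := by rw [h.ln.sq q hq, mul_one]

/-- (F2): for `u ∈ I - V` the group `N_G(V) ∩ C_G(u)` is transitive on the points of `V`. -/
theorem ftwo [Finite G] (h : One T V z) {u : G} (hu : u ∈ ii V) (huV : u ∉ V) {p q : G} (hp : p ∈ V)
    (hp1 : p ≠ 1) (hq : q ∈ V) (hq1 : q ≠ 1) :
    ∃ g ∈ normalizer (V : Set G), g * u = u * g ∧ g * p * g⁻¹ = q := by
  by_cases hpq : p = q
  · subst hpq
    exact ⟨1, one_mem _, by simp, by simp⟩
  have hw : q * p ∈ V := mul_mem hq hp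
  have hw1 : q * p ≠ 1 := h.mul_ne_one hp (Ne.symm hpq)
  have hpw : p ≠ q * p := fun e => hq1 (by simpa using e.symm)
  obtain ⟨t, ht, ht1⟩ := h.exists_mover hw hw1
  have e1 := h.move hw hw1 hp hp1 hpw ht ht1
  have e2 : q * p * p = q := by rw [mul_assoc, h.ln.sq p hp, mul_one]
  rw [e2] at e1
  have htn := h.kq_le_normalizer hw hw1 ht
  rcases h.kq_cases hw ht (hu _ hw hw1) with e3 | e3
  · exact ⟨t, htn, comm_of_conj_eq e3, e1⟩
  · obtain ⟨k, hk, hkV, hku⟩ := h.fu hu huV hw hw1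
    refine ⟨k * t, mul_mem (h.kq_le_normalizer hw hw1 hk) htn, comm_of_conj_eq ?_, ?_⟩
    · have hkw : k * (q * p) * k⁻¹ = q * p := conj_eq_of_comm (h.V_comm hw hkV).symm
      calc k * t * u * (k * t)⁻¹ = k * (t * u * t⁻¹) * k⁻¹ := by group
        _ = (k * (q * p) * k⁻¹) * (k * u * k⁻¹) := by rw [e3]; group
        _ = (q * p) * (q * p) * u := by rw [hkw, hku]; group
        _ = u := by rw [h.ln.sq _ hw, one_mul]
    · calc k * t * p * (k * t)⁻¹ = k * (t * p * t⁻¹) * k⁻¹ := by group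
        _ = k * q * k⁻¹ := by rw [e1]
        _ = q := conj_eq_of_comm (h.V_comm hq hkV).symm

end One

end Cfsg.Agent.Omega.NO3S.TwoOne

end

section


/-!
# NO-3S, `q = 2`, `n = 1` (helper311's text #13963): families and the base facts (section 0)

`Fam T V z cf` : a flag `(z, V)` as in `CaseL.Ln` (K-free) and a FAMILY `cf` : for every point `p` of `V` a group
`cf p` with `N_G(V) ∩ C_G(p) ≤ cf p ≤ C_G(p)`, compatible with conjugation by `N_G(V)`; `ww V cf p = ⟨V^c : c ∈ cf p⟩` is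
elementary abelian, `[W_z, W_y] ≠ 1` for some `y ∈ V`, and (F1): some `q ∈ T ∩ Q_z` moves `V`.

* `wf V C = ⟨V^c : c ∈ C⟩`, `ww V cf p = wf V (cf p)`;
* `qf V C x` : the kernel of `C ∩ C_G(x)` on `wf V C / ⟨x⟩`, `qq V cf p = qf V (cf p) p`;
* `kk V cf p = C_G(W_p)`;
* `jj V cf` : the intersection of the `W_p`, `p ∈ V#`.
-/

set_option autoImplicit false
set_option linter.unusedSectionVars false

namespace Cfsg.Agent.Omega.NO3S.Fit

open Subgroup Cfsg Cfsg.Agent.ZN Cfsg.Agent.MinSimple.Geo Cfsg.Agent.Omega.CaseL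
open Cfsg.Agent.ZN.Block (conj_mem_of_normalizer conj_mem_of_normalizer' le_normalizer_of_forall
  mem_normalizer_of)

universe u

variable {G : Type u} [Group G]

/-! ### Definitions -/

/-- `⟨V^c : c ∈ C⟩` -/
def wf (V C : Subgroup G) : Subgroup G := ⨆ c : C, cj (c : G) V

/-- `W_p` -/
abbrev ww (V : Subgroup G) (cf : G → Subgroup G) (p : G) : Subgroup G := wf V (cf p)

theorem cj_le_wf {V C : Subgroup G} {c : G} (hc : c ∈ C) : cj c V ≤ wf V C :=
  le_iSup (fun c : C => cj (c : G) V) ⟨c, hc⟩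

theorem wf_le {V C A : Subgroup G} (h : ∀ c ∈ C, cj c V ≤ A) : wf V C ≤ A :=
  iSup_le fun c => h c c.2

theorem V_le_wf (V C : Subgroup G) : V ≤ wf V C := by
  have := cj_le_wf (V := V) (one_mem C)
  rwa [cj_one] at this

theorem wf_mono {V C D : Subgroup G} (h : C ≤ D) : wf V C ≤ wf V D :=
  wf_le fun _ hc => cj_le_wf (h hc)

theorem cj_wf (V C : Subgroup G) (g : G) : cj g (wf V C) = wf (cj g V) (cj g C) := by
  have key : ∀ (g : G) (V C : Subgroup G), cj g (wf V C) ≤ wf (cj g V) (cj g C) := by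
    intro g V C
    refine map_le_iff_le_comap.mpr (wf_le fun c hc => map_le_iff_le_comap.mp ?_)
    have h1 : g * c * g⁻¹ ∈ cj g C := conj_mem_cj hc
    have h2 := cj_le_wf (V := cj g V) h1
    rw [cj_cj, inv_mul_cancel_right, ← cj_cj] at h2
    exact h2
  refine le_antisymm (key g V C) ?_
  have := cj_mono (g := g) (key g⁻¹ (cj g V) (cj g C))
  have e1 : cj g (cj g⁻¹ (wf (cj g V) (cj g C))) = wf (cj g V) (cj g C) := by
    rw [cj_cj, mul_inv_cancel, cj_one]
  have e2 : ∀ A : Subgroup G, cj g⁻¹ (cj g A) = A := fun A => by rw [cj_cj, inv_mul_cancel, cj_one]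
  rwa [e1, e2, e2] at this

theorem le_normalizer_wf (V C : Subgroup G) : C ≤ normalizer ((wf V C : Subgroup G) : Set G) := by
  refine le_normalizer_of_forall fun c hc w hw => ?_
  have hle : wf V C ≤ cj c⁻¹ (wf V C) := by
    refine wf_le fun d hd => ?_
    have := cj_mono (g := c⁻¹) (cj_le_wf (V := V) (mul_mem hc hd))
    rwa [cj_cj, inv_mul_cancel_left] at this
  have := mem_cj.mp (hle hw)
  rwa [inv_inv] at this

theorem conj_mem_wf {V C : Subgroup G} {c w : G} (hc : c ∈ C) (hw : w ∈ wf V C) :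
    c * w * c⁻¹ ∈ wf V C := conj_mem_of_normalizer (le_normalizer_wf V C) hc hw

/-- the kernel of `C ∩ C_G(x)` on `wf V C / ⟨x⟩` -/
def qf (V C : Subgroup G) (x : G) : Subgroup G where
  carrier := {c | c ∈ C ∧ c * x = x * c ∧ ∀ w ∈ wf V C, c * w * c⁻¹ * w⁻¹ ∈ zpowers x}
  mul_mem' := by
    rintro a b ⟨ha, hax, ha1⟩ ⟨hb, hbx, hb1⟩
    refine ⟨mul_mem ha hb, mul_comm_of hax hbx, fun w hw => ?_⟩
    have e : a * b * w * (a * b)⁻¹ * w⁻¹ =
        (a * (b * w * b⁻¹) * a⁻¹ * (b * w * b⁻¹)⁻¹) * (b * w * b⁻¹ * w⁻¹) := by group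
    rw [e]
    exact mul_mem (ha1 _ (conj_mem_wf hb hw)) (hb1 w hw)
  one_mem' := ⟨one_mem _, by simp, fun w _ => by simp⟩
  inv_mem' := by
    rintro a ⟨ha, hax, ha1⟩
    refine ⟨inv_mem ha, inv_comm_of hax, fun w hw => ?_⟩
    have hw' : a⁻¹ * w * a ∈ wf V C := by
      have := conj_mem_wf (inv_mem ha) hw
      rwa [inv_inv] at this
    have e : a⁻¹ * w * a⁻¹⁻¹ * w⁻¹ = (a * (a⁻¹ * w * a) * a⁻¹ * (a⁻¹ * w * a)⁻¹)⁻¹ := by group
    rw [e]
    exact inv_mem (ha1 _ hw')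

theorem mem_qf {V C : Subgroup G} {x c : G} : c ∈ qf V C x ↔
    c ∈ C ∧ c * x = x * c ∧ ∀ w ∈ wf V C, c * w * c⁻¹ * w⁻¹ ∈ zpowers x := Iff.rfl

/-- `Q_p` -/
abbrev qq (V : Subgroup G) (cf : G → Subgroup G) (p : G) : Subgroup G := qf V (cf p) p

/-- `K_p = C_G(W_p)` -/
abbrev kk (V : Subgroup G) (cf : G → Subgroup G) (p : G) : Subgroup G :=
  centralizer ((ww V cf p : Subgroup G) : Set G)

/-- the intersection of the `W_p`, `p ∈ V#` -/
def jj (V : Subgroup G) (cf : G → Subgroup G) : Subgroup G where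
  carrier := {u | ∀ p ∈ V, p ≠ 1 → u ∈ ww V cf p}
  mul_mem' := fun ha hb p hp hp1 => mul_mem (ha p hp hp1) (hb p hp hp1)
  one_mem' := fun _ _ _ => one_mem _
  inv_mem' := fun ha p hp hp1 => inv_mem (ha p hp hp1)

/-- **A family over the flag `(z, V)`** at critical distance 1, with (F1). -/
structure Fam (T V : Subgroup G) (z : G) (cf : G → Subgroup G) : Prop where
  ln : Ln T V z
  le : ∀ p ∈ V, p ≠ 1 → cf p ≤ centralizer ({p} : Set G)
  ge : ∀ p ∈ V, p ≠ 1 → normalizer (V : Set G) ⊓ centralizer ({p} : Set G) ≤ cf p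
  cj_cf : ∀ g ∈ normalizer (V : Set G), ∀ p ∈ V, p ≠ 1 → cj g (cf p) = cf (g * p * g⁻¹)
  ab : ∀ a ∈ ww V cf z, ∀ b ∈ ww V cf z, a * b = b * a
  nc : ∃ y ∈ V, y ≠ 1 ∧ y ≠ z ∧ ∃ a ∈ ww V cf z, ∃ b ∈ ww V cf y, a * b ≠ b * a
  f1 : ∃ q ∈ T, q ∈ qq V cf z ∧ q ∉ centralizer (V : Set G)

end Cfsg.Agent.Omega.NO3S.Fit

end

section


/-!
# NO-3S, `q = 2`, `n = 1` (helper311's text #13963): base facts of a family (section 0)

* `Fam.point` : every point of `V` is as good as `z`;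
* `Fam.sq`, `Fam.comm`, `Fam.ww_le_cent`, `Fam.cent_norm`, `Fam.comm_mem`;
* `Fam.qq_cases`, `Fam.exists_mover`, `Fam.move` : (F1) at every point;
* `Fam.mem_jj` : `I` is the intersection of any two of the `W_p`;
* `Fam.w1_eq` : `W_x ∩ Q_y = W_x ∩ Q_{xy}`.
-/

set_option autoImplicit false
set_option linter.unusedSectionVars false

namespace Cfsg.Agent.Omega.NO3S.Fit

open Subgroup Cfsg Cfsg.Agent.ZN Cfsg.Agent.MinSimple.Geo Cfsg.Agent.Omega.CaseL
open Cfsg.Agent.ZN.Block (conj_mem_of_normalizer conj_mem_of_normalizer' le_normalizer_of_forall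
  mem_normalizer_of)

universe u

variable {G : Type u} [Group G]

/-- conjugation of `qf` -/
theorem conj_mem_qf {V C : Subgroup G} {x c : G} (g : G) (hc : c ∈ qf V C x) :
    g * c * g⁻¹ ∈ qf (cj g V) (cj g C) (g * x * g⁻¹) := by
  obtain ⟨h1, h2, h3⟩ := hc
  refine ⟨conj_mem_cj h1, ?_, fun w hw => ?_⟩
  · calc g * c * g⁻¹ * (g * x * g⁻¹) = g * (c * x) * g⁻¹ := by group
      _ = g * (x * c) * g⁻¹ := by rw [h2]
      _ = g * x * g⁻¹ * (g * c * g⁻¹) := by group
  · rw [← cj_wf, mem_cj] at hw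
    obtain ⟨n, hn⟩ := mem_zpowers_iff.mp (h3 _ hw)
    rw [mem_zpowers_iff]
    refine ⟨n, ?_⟩
    rw [conj_zpow, hn]
    group

theorem cj_qf (V C : Subgroup G) (g x : G) : cj g (qf V C x) = qf (cj g V) (cj g C) (g * x * g⁻¹) := by
  ext c
  rw [mem_cj]
  constructor
  · intro hc
    have := conj_mem_qf g hc
    have e : g * (g⁻¹ * c * g) * g⁻¹ = c := by group
    rwa [e] at this
  · intro hc
    have := conj_mem_qf g⁻¹ hc
    have e1 : g⁻¹ * (g * x * g⁻¹) * g⁻¹⁻¹ = x := by group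
    have e2 : ∀ A : Subgroup G, cj g⁻¹ (cj g A) = A := fun A => by rw [cj_cj, inv_mul_cancel, cj_one]
    rwa [e1, e2, e2, inv_inv] at this

namespace Fam

variable {T V : Subgroup G} {z : G} {cf : G → Subgroup G}

theorem conj_pt (_ : Fam T V z cf) {g p : G} (hg : g ∈ normalizer (V : Set G)) (hp : p ∈ V) :
    g * p * g⁻¹ ∈ V := (mem_normalizer_iff.mp hg p).mp hp

theorem conj_pt' (_ : Fam T V z cf) {g p : G} (hg : g ∈ normalizer (V : Set G)) (hp : p ∈ V) :
    g⁻¹ * p * g ∈ V := (mem_normalizer_iff''.mp hg p).mp hp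

theorem conj_ne {g p : G} (hp1 : p ≠ 1) : g * p * g⁻¹ ≠ 1 := fun e => hp1 (conj_eq_one_iff.mp e)

theorem conj_ne' {g p : G} (hp1 : p ≠ 1) : g⁻¹ * p * g ≠ 1 := fun e => hp1 (by
  have : p = g * (g⁻¹ * p * g) * g⁻¹ := by group
  rw [this, e]; group)

theorem cj_ww (h : Fam T V z cf) {g p : G} (hg : g ∈ normalizer (V : Set G)) (hp : p ∈ V) (hp1 : p ≠ 1) :
    cj g (ww V cf p) = ww V cf (g * p * g⁻¹) := by
  unfold ww
  rw [cj_wf, cj_eq_of_mem_normalizer hg, h.cj_cf g hg p hp hp1]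

theorem conj_ww (h : Fam T V z cf) {g p a : G} (hg : g ∈ normalizer (V : Set G)) (hp : p ∈ V) (hp1 : p ≠ 1)
    (ha : a ∈ ww V cf p) : g * a * g⁻¹ ∈ ww V cf (g * p * g⁻¹) := by
  rw [← h.cj_ww hg hp hp1]; exact conj_mem_cj ha

theorem cj_qq (h : Fam T V z cf) {g p : G} (hg : g ∈ normalizer (V : Set G)) (hp : p ∈ V) (hp1 : p ≠ 1) :
    cj g (qq V cf p) = qq V cf (g * p * g⁻¹) := by
  unfold qq
  rw [cj_qf, cj_eq_of_mem_normalizer hg, h.cj_cf g hg p hp hp1]

theorem conj_qq (h : Fam T V z cf) {g p a : G} (hg : g ∈ normalizer (V : Set G)) (hp : p ∈ V) (hp1 : p ≠ 1)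
    (ha : a ∈ qq V cf p) : g * a * g⁻¹ ∈ qq V cf (g * p * g⁻¹) := by
  rw [← h.cj_qq hg hp hp1]; exact conj_mem_cj ha

theorem conj_kk (h : Fam T V z cf) {g p a : G} (hg : g ∈ normalizer (V : Set G)) (hp : p ∈ V) (hp1 : p ≠ 1)
    (ha : a ∈ kk V cf p) : g * a * g⁻¹ ∈ kk V cf (g * p * g⁻¹) := by
  rw [kk, ← h.cj_ww hg hp hp1, mem_centralizer_iff]
  intro w hw
  have h1 := mem_centralizer_iff.mp ha _ (mem_cj.mp hw)
  calc w * (g * a * g⁻¹) = g * (g⁻¹ * w * g * a) * g⁻¹ := by group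
    _ = g * (a * (g⁻¹ * w * g)) * g⁻¹ := by rw [h1]
    _ = g * a * g⁻¹ * w := by group

theorem conj_cf (h : Fam T V z cf) {g p a : G} (hg : g ∈ normalizer (V : Set G)) (hp : p ∈ V) (hp1 : p ≠ 1)
    (ha : a ∈ cf p) : g * a * g⁻¹ ∈ cf (g * p * g⁻¹) := by
  rw [← h.cj_cf g hg p hp hp1]; exact conj_mem_cj ha

/-- conjugation by `N_G(V)` -/
theorem conj (h : Fam T V z cf) {g : G} (hg : g ∈ normalizer (V : Set G)) :
    Fam (cj g T) V (g * z * g⁻¹) cf where
  ln := by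
    have := h.ln.conj g
    rwa [cj_eq_of_mem_normalizer hg] at this
  le := h.le
  ge := h.ge
  cj_cf := h.cj_cf
  ab := by
    rw [← h.cj_ww hg h.ln.z_mem h.ln.z_ne]
    intro a ha b hb
    have := h.ab _ (mem_cj.mp ha) _ (mem_cj.mp hb)
    calc a * b = g * ((g⁻¹ * a * g) * (g⁻¹ * b * g)) * g⁻¹ := by group
      _ = g * ((g⁻¹ * b * g) * (g⁻¹ * a * g)) * g⁻¹ := by rw [this]
      _ = b * a := by group
  nc := by
    obtain ⟨y, hy, hy1, hyz, a, ha, b, hb, hab⟩ := h.nc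
    refine ⟨g * y * g⁻¹, h.conj_pt hg hy, conj_ne hy1, ?_, g * a * g⁻¹, ?_, g * b * g⁻¹, ?_, ?_⟩
    · intro e
      exact hyz (by simpa using e)
    · exact h.conj_ww hg h.ln.z_mem h.ln.z_ne ha
    · exact h.conj_ww hg hy hy1 hb
    · intro e
      apply hab
      calc a * b = g⁻¹ * ((g * a * g⁻¹) * (g * b * g⁻¹)) * g := by group
        _ = g⁻¹ * ((g * b * g⁻¹) * (g * a * g⁻¹)) * g := by rw [e]
        _ = b * a := by group
  f1 := by
    obtain ⟨q, hq, hq1, hq2⟩ := h.f1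
    refine ⟨g * q * g⁻¹, conj_mem_cj hq, h.conj_qq hg h.ln.z_mem h.ln.z_ne hq1, ?_⟩
    intro e
    apply hq2
    rw [mem_centralizer_iff] at e ⊢
    intro v hv
    have := e _ (h.conj_pt hg hv)
    calc v * q = g⁻¹ * ((g * v * g⁻¹) * (g * q * g⁻¹)) * g := by group
      _ = g⁻¹ * ((g * q * g⁻¹) * (g * v * g⁻¹)) * g := by rw [this]
      _ = q * v := by group

/-- every point of `V` is as good as `z` -/
theorem point (h : Fam T V z cf) {p : G} (hp : p ∈ V) (hp1 : p ≠ 1) :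
    ∃ g ∈ normalizer (V : Set G), g * z * g⁻¹ = p ∧ Fam (cj g T) V p cf := by
  obtain ⟨g, hg, rfl⟩ := h.ln.trans p hp hp1
  exact ⟨g, hg, rfl, h.conj hg⟩

theorem T_le_cf (h : Fam T V z cf) : T ≤ cf z :=
  fun _ ht => h.ge z h.ln.z_mem h.ln.z_ne ⟨h.ln.T_norm ht, h.ln.T_le ht⟩

/-! ### all points of `V` -/

section points

variable {p q : G}

theorem V_comm (_ : Fam T V z cf) {v c : G} (hv : v ∈ V) (hc : c ∈ centralizer (V : Set G)) :
    v * c = c * v := mem_centralizer_iff.mp hc v hv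

theorem V_le_centralizer (h : Fam T V z cf) : V ≤ centralizer (V : Set G) := by
  intro v hv
  rw [mem_centralizer_iff]
  intro w hw
  exact h.ln.comm hw hv

theorem cent_le_cs (_ : Fam T V z cf) (hp : p ∈ V) :
    centralizer (V : Set G) ≤ centralizer ({p} : Set G) := by
  intro c hc
  rw [mem_centralizer_singleton_iff]
  exact (mem_centralizer_iff.mp hc p hp).symm

theorem cent_le_cf (h : Fam T V z cf) (hp : p ∈ V) (hp1 : p ≠ 1) : centralizer (V : Set G) ≤ cf p :=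
  fun _ hc => h.ge p hp hp1 ⟨centralizer_le_normalizer _ hc, h.cent_le_cs hp hc⟩

theorem V_le_cf (h : Fam T V z cf) (hp : p ∈ V) (hp1 : p ≠ 1) : V ≤ cf p :=
  h.V_le_centralizer.trans (h.cent_le_cf hp hp1)

theorem V_le (_ : Fam T V z cf) : V ≤ ww V cf p := V_le_wf V _

theorem cf_norm (_ : Fam T V z cf) : cf p ≤ normalizer ((ww V cf p : Subgroup G) : Set G) :=
  le_normalizer_wf V _

theorem cf_comm (h : Fam T V z cf) (hp : p ∈ V) (hp1 : p ≠ 1) {c : G} (hc : c ∈ cf p) : c * p = p * c :=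
  mem_centralizer_singleton_iff.mp (h.le p hp hp1 hc)

theorem ww_le_cf (h : Fam T V z cf) (hp : p ∈ V) (hp1 : p ≠ 1) : ww V cf p ≤ cf p := by
  refine wf_le fun c hc x hx => ?_
  rw [mem_cj] at hx
  have := mul_mem (mul_mem hc (h.V_le_cf hp hp1 hx)) (inv_mem hc)
  have e : c * (c⁻¹ * x * c) * c⁻¹ = x := by group
  rwa [e] at this

theorem sqz (h : Fam T V z cf) : ∀ a ∈ ww V cf z, a * a = 1 := by
  let S : Subgroup G :=
    { carrier := {a | a ∈ ww V cf z ∧ a * a = 1}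
      mul_mem' := by
        rintro a b ⟨ha, ha1⟩ ⟨hb, hb1⟩
        refine ⟨mul_mem ha hb, ?_⟩
        calc a * b * (a * b) = a * (b * a) * b := by group
          _ = a * (a * b) * b := by rw [h.ab b hb a ha]
          _ = (a * a) * (b * b) := by group
          _ = 1 := by rw [ha1, hb1, mul_one]
      one_mem' := ⟨one_mem _, one_mul 1⟩
      inv_mem' := by
        rintro a ⟨ha, ha1⟩
        refine ⟨inv_mem ha, ?_⟩
        rw [inv_eq_self ha1]; exact ha1 }
  have hle : ww V cf z ≤ S := by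
    refine wf_le fun c hc => ?_
    intro x hx
    refine ⟨cj_le_wf hc hx, ?_⟩
    rw [mem_cj] at hx
    have := h.ln.sq _ hx
    calc x * x = c * (c⁻¹ * x * c * (c⁻¹ * x * c)) * c⁻¹ := by group
      _ = 1 := by rw [this]; group
  intro a ha
  exact (hle ha).2

theorem sq (h : Fam T V z cf) (hp : p ∈ V) (hp1 : p ≠ 1) : ∀ a ∈ ww V cf p, a * a = 1 := by
  obtain ⟨g, -, -, hg⟩ := h.point hp hp1
  exact hg.sqz

theorem comm (h : Fam T V z cf) (hp : p ∈ V) (hp1 : p ≠ 1) :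
    ∀ a ∈ ww V cf p, ∀ b ∈ ww V cf p, a * b = b * a := by
  obtain ⟨g, -, -, hg⟩ := h.point hp hp1
  exact hg.ab

theorem inv_ww (h : Fam T V z cf) (hp : p ∈ V) (hp1 : p ≠ 1) {a : G} (ha : a ∈ ww V cf p) : a⁻¹ = a :=
  inv_eq_self (h.sq hp hp1 a ha)

theorem ww_le_cent (h : Fam T V z cf) (hp : p ∈ V) (hp1 : p ≠ 1) :
    ww V cf p ≤ centralizer (V : Set G) := by
  intro a ha
  rw [mem_centralizer_iff]
  intro v hv
  exact h.comm hp hp1 v (h.V_le hv) a ha

/-- `W_p ≤ C_q` for all points -/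
theorem ww_le_cf' (h : Fam T V z cf) (hp : p ∈ V) (hp1 : p ≠ 1) (hq : q ∈ V) (hq1 : q ≠ 1) :
    ww V cf p ≤ cf q := (h.ww_le_cent hp hp1).trans (h.cent_le_cf hq hq1)

/-- `C_G(V)` normalizes `W_p` -/
theorem cent_norm (h : Fam T V z cf) (hp : p ∈ V) (hp1 : p ≠ 1) :
    centralizer (V : Set G) ≤ normalizer ((ww V cf p : Subgroup G) : Set G) :=
  (h.cent_le_cf hp hp1).trans h.cf_norm

/-- `[W_p, W_q] ≤ W_p ∩ W_q` -/
theorem comm_mem (h : Fam T V z cf) (hp : p ∈ V) (hp1 : p ≠ 1) (hq : q ∈ V) (hq1 : q ≠ 1) {a b : G}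
    (ha : a ∈ ww V cf p) (hb : b ∈ ww V cf q) :
    a * b * a⁻¹ * b⁻¹ ∈ ww V cf p ∧ a * b * a⁻¹ * b⁻¹ ∈ ww V cf q := by
  constructor
  · have e : a * b * a⁻¹ * b⁻¹ = a * (b * a⁻¹ * b⁻¹) := by group
    rw [e]
    exact mul_mem ha (conj_mem_of_normalizer (h.cent_norm hp hp1) (h.ww_le_cent hq hq1 hb) (inv_mem ha))
  · exact mul_mem (conj_mem_of_normalizer (h.cent_norm hq hq1) (h.ww_le_cent hp hp1 ha) hb) (inv_mem hb)

theorem mul_ne_one (h : Fam T V z cf) (hq : q ∈ V) (hpq : p ≠ q) : p * q ≠ 1 := fun e =>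
  hpq (by rw [mul_eq_one_iff_eq_inv.mp e, h.ln.inv_eq hq])

theorem exists_q (h : Fam T V z cf) (hp : p ∈ V) (hp1 : p ≠ 1) : ∃ q ∈ V, q ≠ 1 ∧ q ≠ p := by
  obtain ⟨g, -, -, hg⟩ := h.point hp hp1
  exact hg.ln.exists_y

theorem mem_centralizer_of (h : Fam T V z cf) (hp : p ∈ V) (hp1 : p ≠ 1) (hq : q ∈ V) (hq1 : q ≠ 1)
    (hqp : q ≠ p) {g : G} (h1 : g * p = p * g) (h2 : g * q = q * g) :
    g ∈ centralizer (V : Set G) := by
  obtain ⟨g, -, -, hg⟩ := h.point hp hp1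
  exact hg.ln.mem_centralizer_V hq hq1 hqp h1 h2

theorem kk_le_cent (h : Fam T V z cf) : kk V cf p ≤ centralizer (V : Set G) :=
  centralizer_le (h.V_le)

theorem kk_le_qq (h : Fam T V z cf) (hp : p ∈ V) (hp1 : p ≠ 1) : kk V cf p ≤ qq V cf p := by
  intro k hk
  refine ⟨h.cent_le_cf hp hp1 (h.kk_le_cent hk), (h.V_comm hp (h.kk_le_cent hk)).symm, fun w hw => ?_⟩
  have := mem_centralizer_iff.mp hk w hw
  have e : k * w * k⁻¹ * w⁻¹ = 1 := by rw [← this]; group
  rw [e]; exact one_mem _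

theorem qq_le_cf (_ : Fam T V z cf) : qq V cf p ≤ cf p := fun _ h => h.1

theorem V_le_kk (h : Fam T V z cf) (hp : p ∈ V) (hp1 : p ≠ 1) : V ≤ kk V cf p := by
  intro v hv
  rw [mem_centralizer_iff]
  intro w hw
  exact (h.V_comm hv (h.ww_le_cent hp hp1 hw)).symm

theorem ww_le_kk (h : Fam T V z cf) (hp : p ∈ V) (hp1 : p ≠ 1) : ww V cf p ≤ kk V cf p := by
  intro v hv
  rw [mem_centralizer_iff]
  intro w hw
  exact h.comm hp hp1 w hw v hv

/-- `C_p` normalizes `Q_p` -/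
theorem cf_norm_qq (h : Fam T V z cf) (hp : p ∈ V) (hp1 : p ≠ 1) :
    cf p ≤ normalizer ((qq V cf p : Subgroup G) : Set G) := by
  refine le_normalizer_of_forall fun c hc k hk => ?_
  obtain ⟨h1, h2, h3⟩ := hk
  have hcp := h.cf_comm hp hp1 hc
  refine ⟨mul_mem (mul_mem hc h1) (inv_mem hc), ?_, fun w hw => ?_⟩
  · exact mul_comm_of (mul_comm_of hcp h2) (inv_comm_of hcp)
  · have hw' : c⁻¹ * w * c ∈ ww V cf p := by
      have := conj_mem_wf (inv_mem hc) hw
      rwa [inv_inv] at this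
    obtain ⟨n, hn⟩ := mem_zpowers_iff.mp (h3 _ hw')
    rw [mem_zpowers_iff]
    refine ⟨n, ?_⟩
    have e : c * k * c⁻¹ * w * (c * k * c⁻¹)⁻¹ * w⁻¹ =
        c * (k * (c⁻¹ * w * c) * k⁻¹ * (c⁻¹ * w * c)⁻¹) * c⁻¹ := by group
    rw [e, ← hn]
    have hc2 : Commute c (p ^ n) := (show Commute c p from hcp).zpow_right n
    rw [hc2.eq]; group

/-- `C_p` normalizes `K_p` -/
theorem cf_norm_kk (h : Fam T V z cf) :
    cf p ≤ normalizer ((kk V cf p : Subgroup G) : Set G) :=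
  h.cf_norm.trans (normalizer_le_normalizer_centralizer _)

/-- elements of `Q_p` act on `W_p` by multiplication with `1` or `p` -/
theorem qq_cases (h : Fam T V z cf) (hp : p ∈ V) {k w : G} (hk : k ∈ qq V cf p) (hw : w ∈ ww V cf p) :
    k * w * k⁻¹ = w ∨ k * w * k⁻¹ = p * w := by
  rcases (mem_zpowers_iff_of_mul_self (h.ln.sq p hp)).mp (hk.2.2 w hw) with e | e
  · left
    calc k * w * k⁻¹ = (k * w * k⁻¹ * w⁻¹) * w := by group
      _ = w := by rw [e, one_mul]
  · right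
    calc k * w * k⁻¹ = (k * w * k⁻¹ * w⁻¹) * w := by group
      _ = p * w := by rw [e]

theorem qq_p (_ : Fam T V z cf) {k : G} (hk : k ∈ qq V cf p) : k * p = p * k := hk.2.1

/-- membership in `Q_p` -/
theorem mem_qq_of (h : Fam T V z cf) (hp : p ∈ V) (hp1 : p ≠ 1) {k : G} (hk : k ∈ cf p)
    (h1 : ∀ w ∈ ww V cf p, k * w * k⁻¹ = w ∨ k * w * k⁻¹ = p * w) : k ∈ qq V cf p := by
  refine ⟨hk, h.cf_comm hp hp1 hk, fun w hw => ?_⟩
  rcases h1 w hw with e | e
  · rw [e, mul_inv_cancel]; exact one_mem _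
  · rw [e, mul_assoc, mul_inv_cancel, mul_one]; exact mem_zpowers _

/-- `Q_p` normalizes `V` -/
theorem qq_le_normalizer (h : Fam T V z cf) (hp : p ∈ V) : qq V cf p ≤ normalizer (V : Set G) := by
  refine le_normalizer_of_forall fun k hk v hv => ?_
  rcases h.qq_cases hp hk (h.V_le hv) with e | e
  · rw [e]; exact hv
  · rw [e]; exact mul_mem hp hv

/-- (F1) at every point -/
theorem exists_mover (h : Fam T V z cf) (hp : p ∈ V) (hp1 : p ≠ 1) :
    ∃ k ∈ qq V cf p, k ∉ centralizer (V : Set G) := by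
  obtain ⟨g, -, -, hg⟩ := h.point hp hp1
  obtain ⟨q, -, hq, hq1⟩ := hg.f1
  exact ⟨q, hq, hq1⟩

/-- an element which moves `V` and centralizes `p` moves `q ≠ p` to `p q` -/
theorem move_of (h : Fam T V z cf) (hp : p ∈ V) (hp1 : p ≠ 1) (hq : q ∈ V) (hq1 : q ≠ 1) (hqp : q ≠ p)
    {k : G} (hkV : k ∈ normalizer (V : Set G)) (hkp : k * p = p * k)
    (hk1 : k ∉ centralizer (V : Set G)) : k * q * k⁻¹ = p * q := by
  obtain ⟨g, -, -, hg⟩ := h.point hp hp1
  rcases hg.ln.conj_cases hp hq hp1 hkp hkV with e | e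
  · exfalso
    exact hk1 (h.mem_centralizer_of hp hp1 hq hq1 hqp hkp (comm_of_conj_eq e))
  · exact e

/-- a mover of `Q_p` moves the points `q ≠ p` to `p q` -/
theorem move (h : Fam T V z cf) (hp : p ∈ V) (hp1 : p ≠ 1) (hq : q ∈ V) (hq1 : q ≠ 1) (hqp : q ≠ p)
    {k : G} (hk : k ∈ qq V cf p) (hk1 : k ∉ centralizer (V : Set G)) : k * q * k⁻¹ = p * q :=
  h.move_of hp hp1 hq hq1 hqp (h.qq_le_normalizer hp hk) (h.qq_p hk) hk1

/-- two elements of `N(V) ∩ C(p)` which move `V` differ by an element of `C_G(V)` -/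
theorem coset_of (h : Fam T V z cf) (hp : p ∈ V) (hp1 : p ≠ 1) {k k' : G}
    (hkV : k ∈ normalizer (V : Set G)) (hkp : k * p = p * k) (hk1 : k ∉ centralizer (V : Set G))
    (hkV' : k' ∈ normalizer (V : Set G)) (hkp' : k' * p = p * k') (hk1' : k' ∉ centralizer (V : Set G)) :
    k' * k⁻¹ ∈ centralizer (V : Set G) := by
  obtain ⟨q, hq, hq1, hqp⟩ := h.exists_q hp hp1
  refine h.mem_centralizer_of hp hp1 (mul_mem hp hq) (h.mul_ne_one hq (Ne.symm hqp)) ?_ ?_ ?_
  · intro e'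
    exact hq1 (by simpa using e')
  · exact mul_comm_of hkp' (inv_comm_of hkp)
  · refine comm_of_conj_eq ?_
    have e1 := h.move_of hp hp1 hq hq1 hqp hkV hkp hk1
    have e2 := h.move_of hp hp1 hq hq1 hqp hkV' hkp' hk1'
    calc k' * k⁻¹ * (p * q) * (k' * k⁻¹)⁻¹ = k' * (k⁻¹ * (p * q) * k) * k'⁻¹ := by group
      _ = k' * (k⁻¹ * (k * q * k⁻¹) * k) * k'⁻¹ := by rw [e1]
      _ = k' * q * k'⁻¹ := by group
      _ = p * q := e2

/-- `N(V) ∩ C(p) = C_G(V) Q_p` -/
theorem norm_eq (h : Fam T V z cf) (hp : p ∈ V) (hp1 : p ≠ 1) {c : G} (hc : c ∈ normalizer (V : Set G))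
    (hcp : c * p = p * c) : ∃ d ∈ centralizer (V : Set G), ∃ k ∈ qq V cf p, c = d * k := by
  by_cases hcV : c ∈ centralizer (V : Set G)
  · exact ⟨c, hcV, 1, one_mem _, by simp⟩
  obtain ⟨k, hk, hk1⟩ := h.exists_mover hp hp1
  exact ⟨c * k⁻¹, h.coset_of hp hp1 (h.qq_le_normalizer hp hk) (h.qq_p hk) hk1 hc hcp hcV, k, hk,
    by group⟩

end points

/-! ### `I = jj V cf` -/

theorem jj_le {p : G} (hp : p ∈ V) (hp1 : p ≠ 1) : jj V cf ≤ ww V cf p := fun _ hu => hu p hp hp1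

theorem normalizer_le_normalizer_jj (h : Fam T V z cf) :
    normalizer (V : Set G) ≤ normalizer ((jj V cf : Subgroup G) : Set G) := by
  refine le_normalizer_of_forall fun g hg u hu => ?_
  intro p hp hp1
  have := h.conj_ww hg (h.conj_pt' hg hp) (conj_ne' hp1) (hu _ (h.conj_pt' hg hp) (conj_ne' hp1))
  have e : g * (g⁻¹ * p * g) * g⁻¹ = p := by group
  rwa [e] at this

theorem V_le_jj (h : Fam T V z cf) : V ≤ jj V cf := fun _ hv _ _ _ => h.V_le hv

theorem jj_le_cent (h : Fam T V z cf) : jj V cf ≤ centralizer (V : Set G) :=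
  (jj_le h.ln.z_mem h.ln.z_ne).trans (h.ww_le_cent h.ln.z_mem h.ln.z_ne)

/-- `I` is the intersection of any two of the `W_p`. -/
theorem mem_jj (h : Fam T V z cf) {p q u : G} (hp : p ∈ V) (hp1 : p ≠ 1) (hq : q ∈ V) (hq1 : q ≠ 1)
    (hqp : q ≠ p) (h1 : u ∈ ww V cf p) (h2 : u ∈ ww V cf q) : u ∈ jj V cf := by
  intro r hr hr1
  rcases h.ln.four hp hq hp1 hq1 (Ne.symm hqp) hr with e | e | e | e
  · exact absurd e hr1
  · rw [e]; exact h1
  · rw [e]; exact h2
  · obtain ⟨k, hk, hk1⟩ := h.exists_mover hp hp1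
    have e1 := h.move hp hp1 hq hq1 hqp hk hk1
    have h3 := h.conj_ww (h.qq_le_normalizer hp hk) hq hq1 h2
    rw [e1, ← e] at h3
    rcases h.qq_cases hp hk h1 with e2 | e2
    · rwa [e2] at h3
    · rw [e2] at h3
      have h4 := mul_mem (h.V_le hp) h3
      rwa [← mul_assoc, h.ln.sq p hp, one_mul] at h4

theorem comm_mem_jj (h : Fam T V z cf) {p q a b : G} (hp : p ∈ V) (hp1 : p ≠ 1) (hq : q ∈ V) (hq1 : q ≠ 1)
    (hqp : q ≠ p) (ha : a ∈ ww V cf p) (hb : b ∈ ww V cf q) : a * b * a⁻¹ * b⁻¹ ∈ jj V cf :=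
  h.mem_jj hp hp1 hq hq1 hqp (h.comm_mem hp hp1 hq hq1 ha hb).1 (h.comm_mem hp hp1 hq hq1 ha hb).2

/-- `W_p^q = W_{pq}` modulo `Q_p`: the images of `W_q` and of `W_{pq}` in `C_p/Q_p` are the same -/
theorem ww_mod (h : Fam T V z cf) {p q b : G} (hp : p ∈ V) (hp1 : p ≠ 1) (hq : q ∈ V) (hq1 : q ≠ 1)
    (hqp : q ≠ p) (hb : b ∈ ww V cf q) : ∃ b' ∈ ww V cf (p * q), ∃ k ∈ qq V cf p, b = b' * k := by
  obtain ⟨k, hk, hk1⟩ := h.exists_mover hp hp1
  have e1 := h.move hp hp1 hq hq1 hqp hk hk1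
  have h3 := h.conj_ww (h.qq_le_normalizer hp hk) hq hq1 hb
  rw [e1] at h3
  have hbc := h.ww_le_cf' hq hq1 hp hp1 hb
  refine ⟨_, h3, (k * b * k⁻¹)⁻¹ * b, ?_, by group⟩
  have e2 : (k * b * k⁻¹)⁻¹ * b = k * (b⁻¹ * k⁻¹ * b) := by group
  rw [e2]
  exact mul_mem hk (conj_mem_of_normalizer' (h.cf_norm_qq hp hp1) hbc (inv_mem hk))

/-- `W_x ∩ Q_y = W_x ∩ Q_{xy}` -/
theorem w1_le (h : Fam T V z cf) {p q b : G} (hp : p ∈ V) (hp1 : p ≠ 1) (hq : q ∈ V) (hq1 : q ≠ 1)
    (hqp : q ≠ p) (hb : b ∈ ww V cf p) (hb1 : b ∈ qq V cf q) : b ∈ qq V cf (p * q) := by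
  obtain ⟨k, hk, hk1⟩ := h.exists_mover hp hp1
  have e1 := h.move hp hp1 hq hq1 hqp hk hk1
  have h3 := h.conj_qq (h.qq_le_normalizer hp hk) hq hq1 hb1
  rw [e1] at h3
  have hs1 : p * q ≠ 1 := h.mul_ne_one hq (Ne.symm hqp)
  have hs : p * q ∈ V := mul_mem hp hq
  rcases h.qq_cases hp hk hb with e2 | e2
  · rwa [e2] at h3
  · rw [e2] at h3
    have h4 := mul_mem (h.kk_le_qq hs hs1 (h.V_le_kk hs hs1 hp)) h3
    rwa [← mul_assoc, h.ln.sq p hp, one_mul] at h4

/-- `[W_x ∩ Q_y, W_y ∩ Q_x] = 1` -/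
theorem w1_comm (h : Fam T V z cf) {p q a b : G} (hp : p ∈ V) (hq : q ∈ V)
    (hqp : q ≠ p) (ha : a ∈ ww V cf p) (ha1 : a ∈ qq V cf q) (hb : b ∈ ww V cf q) (hb1 : b ∈ qq V cf p) :
    a * b = b * a := by
  rcases h.qq_cases hq ha1 hb with e | e
  · exact comm_of_conj_eq e
  rcases h.qq_cases hp hb1 ha with e' | e'
  · exact (comm_of_conj_eq e').symm
  exfalso
  -- `[a, b] = q` and `[b, a] = p`
  have e1 : a * b * a⁻¹ * b⁻¹ = q := by rw [e, mul_assoc, mul_inv_cancel, mul_one]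
  have e2 : b * a * b⁻¹ * a⁻¹ = p := by rw [e', mul_assoc, mul_inv_cancel, mul_one]
  have e3 : q⁻¹ = p := by rw [← e1, ← e2]; group
  rw [h.ln.inv_eq hq] at e3
  exact hqp e3

end Fam

end Cfsg.Agent.Omega.NO3S.Fit

end

section


/-!
# NO-3S, `q = 2`, `n = 1` (helper311's text #13963): sections 0 and 1 (LEMMA FIX)

* `Fam.T_max` : `T` is a Sylow 2-subgroup of `G`;
* `Fam.nl` (NL) : no 2-group `≠ 1` is normalized by `N_G(V)` and `cf z`;
* `Fam.soc0` (0.4) : `Ω₁ Z(C_T(V)) = V`;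
* `Fam.exists_norm` : `N_{N_G(V)}(C_T(V))` is transitive on the ordered pairs of points;
* `Fam.fix` : LEMMA FIX;
* `Fam.four_of` (1.2), `Fam.no_fix` (1.3).
-/

set_option autoImplicit false
set_option linter.unusedSectionVars false

namespace Cfsg.Agent.Omega.NO3S.Fit

open Subgroup Cfsg Cfsg.Agent.ZN Cfsg.Agent.MinSimple.Geo Cfsg.Agent.Omega.CaseL
open Cfsg.Agent.ZN.Block (conj_mem_of_normalizer conj_mem_of_normalizer' le_normalizer_of_forall
  mem_normalizer_of)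

universe u

variable {G : Type u} [Group G]

namespace Fam

variable {T V : Subgroup G} {z : G} {cf : G → Subgroup G}

/-- two points can be moved to any two points -/
theorem trans2 (h : Fam T V z cf) {p q p' q' : G} (hp : p ∈ V) (hp1 : p ≠ 1) (hq : q ∈ V) (hq1 : q ≠ 1)
    (hqp : q ≠ p) (hp' : p' ∈ V) (hp1' : p' ≠ 1) (hq' : q' ∈ V) (hq1' : q' ≠ 1)
    (hqp' : q' ≠ p') : ∃ g ∈ normalizer (V : Set G), g * p * g⁻¹ = p' ∧ g * q * g⁻¹ = q' := by
  obtain ⟨a, ha, ha1, -⟩ := h.point hp hp1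
  obtain ⟨b, hb, hb1, -⟩ := h.point hp' hp1'
  set g := b * a⁻¹ with hg
  have hgV : g ∈ normalizer (V : Set G) := mul_mem hb (inv_mem ha)
  have hgp : g * p * g⁻¹ = p' := by
    rw [hg, ← ha1, ← hb1]; group
  have hgq := h.conj_pt hgV hq
  have hgq1 : g * q * g⁻¹ ≠ 1 := conj_ne hq1
  have hgqp : g * q * g⁻¹ ≠ p' := by
    intro e
    rw [← hgp] at e
    exact hqp (by simpa using e)
  rcases h.ln.four hp' hq' hp1' hq1' (Ne.symm hqp') hgq with e | e | e | e
  · exact absurd e hgq1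
  · exact absurd e hgqp
  · exact ⟨g, hgV, hgp, e⟩
  · obtain ⟨k, hk, hk1⟩ := h.exists_mover hp' hp1'
    have e1 := h.move hp' hp1' hq' hq1' hqp' hk hk1
    have hkp := conj_eq_of_comm (h.qq_p hk)
    refine ⟨k * g, mul_mem (h.qq_le_normalizer hp' hk) hgV, ?_, ?_⟩
    · calc k * g * p * (k * g)⁻¹ = k * (g * p * g⁻¹) * k⁻¹ := by group
        _ = p' := by rw [hgp, hkp]
    · calc k * g * q * (k * g)⁻¹ = k * (g * q * g⁻¹) * k⁻¹ := by group
        _ = (k * p' * k⁻¹) * (k * q' * k⁻¹) := by rw [e]; group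
        _ = p' * p' * q' := by rw [hkp, e1]; group
        _ = q' := by rw [h.ln.sq p' hp', one_mul]

/-- `[W_p, W_q] ≠ 1` for all pairs of points -/
theorem nc' (h : Fam T V z cf) {p q : G} (hp : p ∈ V) (hp1 : p ≠ 1) (hq : q ∈ V) (hq1 : q ≠ 1)
    (hqp : q ≠ p) : ∃ a ∈ ww V cf p, ∃ b ∈ ww V cf q, a * b ≠ b * a := by
  obtain ⟨y, hy, hy1, hyz, a, ha, b, hb, hab⟩ := h.nc
  obtain ⟨g, hg, rfl, rfl⟩ := h.trans2 h.ln.z_mem h.ln.z_ne hy hy1 hyz hp hp1 hq hq1 hqp
  refine ⟨_, h.conj_ww hg h.ln.z_mem h.ln.z_ne ha, _, h.conj_ww hg hy hy1 hb, fun e => hab ?_⟩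
  calc a * b = g⁻¹ * ((g * a * g⁻¹) * (g * b * g⁻¹)) * g := by group
    _ = g⁻¹ * ((g * b * g⁻¹) * (g * a * g⁻¹)) * g := by rw [e]
    _ = b * a := by group

section fin

variable [Finite G]

/-- a 2-group containing `T` is `T` -/
theorem T_max (h : Fam T V z cf) {P : Subgroup G} (hP : IsPGroup 2 P) (hT : T ≤ P) : P ≤ T := by
  have : Fact (Nat.Prime 2) := ⟨Nat.prime_two⟩
  by_contra hne
  -- `N_P(T) > T`
  have hlt : T.subgroupOf P < ⊤ := by
    refine lt_of_le_of_ne le_top fun e => hne ?_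
    exact subgroupOf_eq_top.mp e
  have : Group.IsNilpotent P := hP.isNilpotent
  have h1 := Group.normalizerCondition_of_isNilpotent (G := P) _ hlt
  obtain ⟨x, hx, hxT⟩ := SetLike.exists_of_lt h1
  have hxn : (x : G) ∈ normalizer (T : Set G) := by
    rw [mem_normalizer_iff] at hx ⊢
    intro t
    constructor
    · intro ht
      have := (hx ⟨t, hT ht⟩).mp (mem_subgroupOf.mpr ht)
      exact mem_subgroupOf.mp this
    · intro ht
      have h2 : (x : G) * t * (x : G)⁻¹ ∈ P := hT ht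
      have h3 : t ∈ P := by
        have := mul_mem (mul_mem (inv_mem x.2) h2) x.2
        have e : (x : G)⁻¹ * (x * t * (x : G)⁻¹) * x = t := by group
        rwa [e] at this
      have := (hx ⟨t, h3⟩).mpr (mem_subgroupOf.mpr ht)
      exact mem_subgroupOf.mp this
  -- `x` centralizes `z`
  have hxz : (x : G) * z = z * x := by
    have hzT : z ∈ T := h.ln.V_le h.ln.z_mem
    have h2 : (x : G) * z * (x : G)⁻¹ ∈ T := (mem_normalizer_iff.mp hxn z).mp hzT
    have h3 : (x : G) * z * (x : G)⁻¹ * (x * z * (x : G)⁻¹) = 1 := by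
      calc (x : G) * z * (x : G)⁻¹ * (x * z * (x : G)⁻¹) = x * (z * z) * (x : G)⁻¹ := by group
        _ = 1 := by rw [h.ln.zz]; group
    rcases h.ln.soc _ h2 h3 (fun s hs => by
      have hs' : (x : G)⁻¹ * s * x ∈ T := (mem_normalizer_iff''.mp hxn s).mp hs
      have := h.ln.z_comm (h.ln.T_le hs')
      calc s * (x * z * (x : G)⁻¹) = x * ((x : G)⁻¹ * s * x * z) * (x : G)⁻¹ := by group
        _ = x * (z * ((x : G)⁻¹ * s * x)) * (x : G)⁻¹ := by rw [this]
        _ = x * z * (x : G)⁻¹ * s := by group) with e | e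
    · exact absurd e (conj_ne h.ln.z_ne)
    · exact comm_of_conj_eq e
  have hxC : (x : G) ∈ centralizer ({z} : Set G) := mem_centralizer_singleton_iff.mpr hxz
  -- `⟨T, x⟩` is a 2-subgroup of `C_G(z)`
  have hle : T ⊔ zpowers (x : G) ≤ P := sup_le hT ((zpowers_le).mpr x.2)
  have hle' : T ⊔ zpowers (x : G) ≤ centralizer ({z} : Set G) := sup_le h.ln.T_le ((zpowers_le).mpr hxC)
  obtain ⟨c, hc, hcT⟩ := exists_cj_le_of_sylow h.ln.T_le h.ln.two h.ln.T_syl hle' (hP.to_le hle)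
  have h4 : Nat.card ↥(T ⊔ zpowers (x : G)) ≤ Nat.card T := by
    rw [← card_cj c]; exact card_le_of_le hcT
  have h5 : T = T ⊔ zpowers (x : G) := eq_of_le_of_card_ge le_sup_left h4
  apply hxT
  rw [mem_subgroupOf, h5]
  exact mem_sup_right (mem_zpowers _)

/-- a 2-subgroup normalized by `T` is in `T` -/
theorem le_T (h : Fam T V z cf) {R : Subgroup G} (hR : IsPGroup 2 R) (hn : T ≤ normalizer (R : Set G)) :
    R ≤ T := by
  have h1 : IsPGroup 2 ↥(R ⊔ T) := hR.to_sup_of_normal_left' h.ln.two hn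
  exact le_sup_left.trans (h.T_max h1 le_sup_right)

theorem two_ww (h : Fam T V z cf) {p : G} (hp : p ∈ V) (hp1 : p ≠ 1) : IsPGroup 2 (ww V cf p) := by
  intro a
  refine ⟨1, Subtype.ext ?_⟩
  have := h.sq hp hp1 a a.2
  simpa [pow_two] using this

theorem ww_le_T (h : Fam T V z cf) : ww V cf z ≤ T :=
  h.le_T (h.two_ww h.ln.z_mem h.ln.z_ne) (h.T_le_cf.trans h.cf_norm)

/-- (NL) -/
theorem nl (h : Fam T V z cf) {R : Subgroup G} (hR : IsPGroup 2 R) (h1 : normalizer (V : Set G) ≤ normalizer (R : Set G))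
    (h2 : cf z ≤ normalizer (R : Set G)) : R = ⊥ := by
  by_contra hne
  set L := normalizer (R : Set G) with hL
  have hTL : T ≤ L := h.ln.T_norm.trans h1
  have hloc : IsTwoLocal L := ⟨R, hR, hne, rfl⟩
  have ho2 : IsPGroup 2 (o2 L) := isPGroup_o2 L
  have hoT : o2 L ≤ T := h.le_T ho2 (hTL.trans (le_normalizer_o2 L))
  have hzo : z ∈ o2 L := by
    refine inf_centralizer_o2_le h.ln.charTwo hloc ⟨hTL (h.ln.V_le h.ln.z_mem), ?_⟩
    exact mem_centralizer_iff.mpr fun t ht => h.ln.z_comm (h.ln.T_le (hoT ht))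
  -- `U = Z(O₂(L))` contains all `L`-conjugates of `z`
  let U : Subgroup G := o2 L ⊓ centralizer ((o2 L : Subgroup G) : Set G)
  have hUn : L ≤ normalizer (U : Set G) := by
    refine le_normalizer_of_forall fun g hg u hu => ?_
    exact ⟨conj_mem_of_normalizer (le_normalizer_o2 L) hg hu.1,
      conj_mem_of_normalizer ((le_normalizer_o2 L).trans (normalizer_le_normalizer_centralizer _)) hg hu.2⟩
  have hzU : z ∈ U := by
    refine ⟨hzo, ?_⟩
    exact mem_centralizer_iff.mpr fun t ht => h.ln.z_comm (h.ln.T_le (hoT ht))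
  have hVU : V ≤ U := by
    intro v hv
    by_cases hv1 : v = 1
    · rw [hv1]; exact one_mem _
    obtain ⟨g, hg, rfl⟩ := h.ln.trans v hv hv1
    exact conj_mem_of_normalizer hUn (h1 hg) hzU
  have hWU : ww V cf z ≤ U := by
    refine wf_le fun c hc x hx => ?_
    rw [mem_cj] at hx
    have := conj_mem_of_normalizer hUn (h2 hc) (hVU hx)
    have e : c * (c⁻¹ * x * c) * c⁻¹ = x := by group
    rwa [e] at this
  obtain ⟨y, hy, hy1, hyz, a, ha, b, hb, hab⟩ := h.nc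
  obtain ⟨g, hg, hgy⟩ := h.ln.trans y hy hy1
  have hbU : b ∈ U := by
    rw [← hgy, ← h.cj_ww hg h.ln.z_mem h.ln.z_ne, mem_cj] at hb
    have := conj_mem_of_normalizer hUn (h1 hg) (hWU hb)
    have e : g * (g⁻¹ * b * g) * g⁻¹ = b := by group
    rwa [e] at this
  exact hab ((mem_centralizer_iff.mp hbU.2 a (hWU ha).1))

/-- the elements of `T` which centralize `V` form a subgroup of index 2, a mover in `T` squares into it -/
theorem exists_mover_T (h : Fam T V z cf) : ∃ q ∈ T, q ∈ qq V cf z ∧ q ∉ centralizer (V : Set G) ∧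
    ∀ t ∈ T, t ∉ centralizer (V : Set G) → t * q⁻¹ ∈ centralizer (V : Set G) := by
  obtain ⟨q, hq, hq1, hq2⟩ := h.f1
  refine ⟨q, hq, hq1, hq2, fun t ht ht1 => ?_⟩
  exact h.coset_of h.ln.z_mem h.ln.z_ne (h.ln.T_norm hq) (h.ln.z_comm (h.ln.T_le hq)) hq2 (h.ln.T_norm ht)
    (h.ln.z_comm (h.ln.T_le ht)) ht1

/-- (0.4): `Ω₁ Z(C_T(V)) = V` -/
theorem soc0 (h : Fam T V z cf) {f : G} (hf : f ∈ T) (hfV : f ∈ centralizer (V : Set G)) (hf2 : f * f = 1)
    (hc : ∀ t ∈ T, t ∈ centralizer (V : Set G) → t * f = f * t) : f ∈ V := by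
  obtain ⟨q, hq, hq1, hq2, hq3⟩ := h.exists_mover_T
  have hz := h.ln.z_mem
  have hz1 := h.ln.z_ne
  -- `f f^q` is fixed by `T`
  have hcoset : ∀ t ∈ T, t ∉ centralizer (V : Set G) → t * f * t⁻¹ = q * f * q⁻¹ := by
    intro t ht ht1
    have h1 := hq3 t ht ht1
    have h2 := hc _ (mul_mem ht (inv_mem hq)) h1
    -- `t = d q`
    have hqf : q * f * q⁻¹ ∈ T := mul_mem (mul_mem hq hf) (inv_mem hq)
    have h3 : ∀ d ∈ T, d ∈ centralizer (V : Set G) → d * (q * f * q⁻¹) = (q * f * q⁻¹) * d := by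
      intro d hd hd1
      have hd' : q⁻¹ * d * q ∈ T := mul_mem (mul_mem (inv_mem hq) hd) hq
      have hd1' : q⁻¹ * d * q ∈ centralizer (V : Set G) :=
        conj_mem_of_normalizer' (normalizer_le_normalizer_centralizer V) (h.ln.T_norm hq) hd1
      have := hc _ hd' hd1'
      calc d * (q * f * q⁻¹) = q * (q⁻¹ * d * q * f) * q⁻¹ := by group
        _ = q * (f * (q⁻¹ * d * q)) * q⁻¹ := by rw [this]
        _ = (q * f * q⁻¹) * d := by group
    have h4 := h3 _ (mul_mem ht (inv_mem hq)) h1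
    calc t * f * t⁻¹ = (t * q⁻¹) * (q * f * q⁻¹) * (t * q⁻¹)⁻¹ := by group
      _ = q * f * q⁻¹ := by rw [h4]; group
  have hfq : q * f * q⁻¹ * f = f * (q * f * q⁻¹) := by
    refine hc _ (mul_mem (mul_mem hq hf) (inv_mem hq)) ?_
    exact conj_mem_of_normalizer (normalizer_le_normalizer_centralizer V) (h.ln.T_norm hq) hfV
  have hqq : q * (q * f * q⁻¹) * q⁻¹ = f := by
    have h5 : q * q ∈ centralizer (V : Set G) := by
      have := h.coset_of hz hz1 (inv_mem (h.ln.T_norm hq)) (inv_comm_of (h.ln.z_comm (h.ln.T_le hq)))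
        (fun e => hq2 (by simpa using inv_mem e)) (h.ln.T_norm hq)
        (h.ln.z_comm (h.ln.T_le hq)) hq2
      rwa [inv_inv] at this
    have h6 := hc _ (mul_mem hq hq) h5
    calc q * (q * f * q⁻¹) * q⁻¹ = (q * q) * f * (q * q)⁻¹ := by group
      _ = f := by rw [h6]; group
  have key : ∀ g : G, g ∈ T → g ∈ centralizer (V : Set G) → g * g = 1 →
      (∀ t ∈ T, t ∈ centralizer (V : Set G) → t * g = g * t) →
      q * g * q⁻¹ = g → g = 1 ∨ g = z := by
    intro g hg hgV hg2 hgc hgq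
    refine h.ln.soc g hg hg2 fun t ht => ?_
    by_cases ht1 : t ∈ centralizer (V : Set G)
    · exact hgc t ht ht1
    · have h7 := hgc _ (mul_mem ht (inv_mem hq)) (hq3 t ht ht1)
      have h8 := mul_comm_of h7 (comm_of_conj_eq hgq)
      simpa using h8
  -- `g := f f^q`
  have hgf := key (f * (q * f * q⁻¹)) (mul_mem hf (mul_mem (mul_mem hq hf) (inv_mem hq)))
    (mul_mem hfV (conj_mem_of_normalizer (normalizer_le_normalizer_centralizer V) (h.ln.T_norm hq) hfV))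
    (by
      calc f * (q * f * q⁻¹) * (f * (q * f * q⁻¹)) = f * (q * f * q⁻¹ * f) * (q * f * q⁻¹) := by group
        _ = f * (f * (q * f * q⁻¹)) * (q * f * q⁻¹) := by rw [hfq]
        _ = (f * f) * (q * (f * f) * q⁻¹) := by group
        _ = 1 := by rw [hf2]; group)
    (fun t ht ht1 => comm_mul_of (hc t ht ht1) (by
      have hd' : q⁻¹ * t * q ∈ T := mul_mem (mul_mem (inv_mem hq) ht) hq
      have hd1' : q⁻¹ * t * q ∈ centralizer (V : Set G) :=
        conj_mem_of_normalizer' (normalizer_le_normalizer_centralizer V) (h.ln.T_norm hq) ht1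
      have := hc _ hd' hd1'
      calc t * (q * f * q⁻¹) = q * (q⁻¹ * t * q * f) * q⁻¹ := by group
        _ = q * (f * (q⁻¹ * t * q)) * q⁻¹ := by rw [this]
        _ = (q * f * q⁻¹) * t := by group))
    (by
      calc q * (f * (q * f * q⁻¹)) * q⁻¹ = (q * f * q⁻¹) * (q * (q * f * q⁻¹) * q⁻¹) := by group
        _ = f * (q * f * q⁻¹) := by rw [hqq, hfq])
  rcases hgf with e | e
  · -- `f^q = f`
    have h9 : q * f * q⁻¹ = f := by
      have : q * f * q⁻¹ = f⁻¹ := (inv_eq_of_mul_eq_one_right e).symm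
      rw [this, inv_eq_self hf2]
    rcases key f hf hfV hf2 hc h9 with e1 | e1
    · rw [e1]; exact one_mem _
    · rw [e1]; exact hz
  · obtain ⟨y, hy, hy1, hyz⟩ := h.ln.exists_y
    have e1 := h.move hz hz1 hy hy1 hyz hq1 hq2
    have hfy : f * y = y * f := (h.V_comm hy hfV).symm
    have hyT := h.ln.V_le hy
    have h10 : q * (f * y) * q⁻¹ = f * y := by
      have e2 : q * f * q⁻¹ = f * z := by
        calc q * f * q⁻¹ = (f * f) * (q * f * q⁻¹) := by rw [hf2, one_mul]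
          _ = f * (f * (q * f * q⁻¹)) := by group
          _ = f * z := by rw [e]
      calc q * (f * y) * q⁻¹ = (q * f * q⁻¹) * (q * y * q⁻¹) := by group
        _ = f * (z * z) * y := by rw [e1, e2]; group
        _ = f * y := by rw [h.ln.zz, mul_one]
    have hyV := h.V_le_centralizer hy
    rcases key (f * y) (mul_mem hf hyT) (mul_mem hfV hyV)
      (by
        calc f * y * (f * y) = f * (y * f) * y := by group
          _ = (f * f) * (y * y) := by rw [← hfy]; group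
          _ = 1 := by rw [hf2, h.ln.sq y hy, one_mul])
      (fun t ht ht1 => comm_mul_of (hc t ht ht1) (h.V_comm hy ht1).symm) h10 with e1 | e1
    · have : f = y⁻¹ := mul_eq_one_iff_eq_inv.mp e1
      rw [this]; exact inv_mem hy
    · have : f = z * y⁻¹ := by rw [← e1]; group
      rw [this]; exact mul_mem hz (inv_mem hy)

/-- Frattini: `C_T(V)` is normalized by elements of `N_G(V)` which induce everything on `V` -/
theorem frat (h : Fam T V z cf) {g : G} (hg : g ∈ normalizer (V : Set G)) :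
    ∃ c ∈ centralizer (V : Set G), ∀ t ∈ T, t ∈ centralizer (V : Set G) →
      (c * g) * t * (c * g)⁻¹ ∈ T := by
  have : Fact (Nat.Prime 2) := ⟨Nat.prime_two⟩
  set T0 := T ⊓ centralizer (V : Set G) with hT0
  set C := centralizer (V : Set G) with hC
  have hCn : normalizer (V : Set G) ≤ normalizer (C : Set G) := normalizer_le_normalizer_centralizer V
  -- `T0` is a Sylow 2-subgroup of `C`
  have h2 : IsPGroup 2 T0 := h.ln.two.to_le inf_le_left
  obtain ⟨Q, hQ⟩ := (h2.comap_of_injective C.subtype C.subtype_injective : IsPGroup 2 (T0.subgroupOf C)).exists_le_sylow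
  have hmax : ∀ P : Subgroup G, IsPGroup 2 P → P ≤ C → Nat.card P ≤ Nat.card T0 := by
    intro P hP hPC
    -- conjugate `P` into `T` inside `N_G(V)`
    obtain ⟨c, hc, hcT⟩ := exists_cj_le_of_sylow h.ln.T_norm h.ln.two h.ln.T_syl'
      (hPC.trans (centralizer_le_normalizer _)) hP
    have h3 : cj c P ≤ T0 := by
      refine le_inf hcT ?_
      intro x hx
      rw [mem_cj] at hx
      have := conj_mem_of_normalizer hCn hc (hPC hx)
      have e : c * (c⁻¹ * x * c) * c⁻¹ = x := by group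
      rwa [e] at this
    rw [← card_cj c]
    exact card_le_of_le h3
  have hQ' : ¬ 2 ∣ T0.relIndex C := by
    -- `Q = T0`
    have h4 : Nat.card (Q : Subgroup C) ≤ Nat.card T0 := by
      have h5 := hmax ((Q : Subgroup C).map C.subtype) (Q.isPGroup'.map _) (map_subtype_le _)
      rwa [card_map_of_injective C.subtype_injective] at h5
    have h6 : Nat.card (T0.subgroupOf C) = Nat.card T0 :=
      Nat.card_congr (subgroupOfEquivOfLe (inf_le_right : T0 ≤ C)).toEquiv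
    have h7 : T0.subgroupOf C = (Q : Subgroup C) := eq_of_le_of_card_ge hQ (by rw [h6]; exact h4)
    rw [relIndex, h7]
    exact Q.not_dvd_index
  have hg0 : cj g T0 ≤ C := by
    intro x hx
    rw [mem_cj] at hx
    have := conj_mem_of_normalizer hCn hg hx.2
    have e : g * (g⁻¹ * x * g) * g⁻¹ = x := by group
    rwa [e] at this
  obtain ⟨c, hc, hcT⟩ := exists_cj_le_of_sylow (inf_le_right : T0 ≤ C) h2 hQ' hg0 (h2.map _)
  refine ⟨c, hc, fun t ht ht1 => ?_⟩
  rw [cj_cj] at hcT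
  exact (hcT (conj_mem_cj (⟨ht, ht1⟩ : t ∈ T0))).1

/-- LEMMA FIX, the part which is symmetric in the points: `F_p = {f ∈ I : [f, C_T(V)] ≤ ⟨p⟩}` does not depend on `p`. -/
theorem fix_aux (h : Fam T V z cf) {f : G} (hf : f ∈ jj V cf)
    (hT : ∀ t ∈ T, t ∈ centralizer (V : Set G) → t * f * t⁻¹ = f ∨ t * f * t⁻¹ = z * f) :
    ∀ t ∈ T, t ∈ centralizer (V : Set G) → t * f * t⁻¹ = f := by
  classical
  have hz := h.ln.z_mem
  have hz1 := h.ln.z_ne
  obtain ⟨y, hy, hy1, hyz⟩ := h.ln.exists_y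
  obtain ⟨q, hq, hq1, hq2⟩ := h.f1
  set s := z * y with hs
  have hsV : s ∈ V := mul_mem hz hy
  have hs1 : s ≠ 1 := h.mul_ne_one hy (Ne.symm hyz)
  have hys : y ≠ s := fun e => hz1 (by rw [hs] at e; simpa using e.symm)
  have hsz : s ≠ z := fun e => hy1 (by rw [hs] at e; simpa using e)
  -- `F p`
  let F : G → Set G := fun p => {f | f ∈ jj V cf ∧
    ∀ t ∈ T, t ∈ centralizer (V : Set G) → t * f * t⁻¹ = f ∨ t * f * t⁻¹ = p * f}
  -- conjugation by an element normalizing `C_T(V)`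
  have hconj : ∀ g ∈ normalizer (V : Set G), (∀ t ∈ T, t ∈ centralizer (V : Set G) → g * t * g⁻¹ ∈ T) →
      ∀ p f, f ∈ F p → g * f * g⁻¹ ∈ F (g * p * g⁻¹) := by
    intro g hg hgT p f hf
    refine ⟨conj_mem_of_normalizer h.normalizer_le_normalizer_jj hg hf.1, fun t ht ht1 => ?_⟩
    -- `g⁻¹ t g ∈ C_T(V)` (finiteness)
    have hfin : ∀ t ∈ T, t ∈ centralizer (V : Set G) → g⁻¹ * t * g ∈ T ∧ g⁻¹ * t * g ∈ centralizer (V : Set G) := by
      have hle : cj g (T ⊓ centralizer (V : Set G)) ≤ T ⊓ centralizer (V : Set G) := by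
        intro x hx
        rw [mem_cj] at hx
        have h1 := hgT _ hx.1 hx.2
        have h2 := conj_mem_of_normalizer (normalizer_le_normalizer_centralizer V) hg hx.2
        have e : g * (g⁻¹ * x * g) * g⁻¹ = x := by group
        rw [e] at h1 h2
        exact ⟨h1, h2⟩
      have heq : cj g (T ⊓ centralizer (V : Set G)) = T ⊓ centralizer (V : Set G) :=
        eq_of_le_of_card_ge hle (by rw [card_cj])
      intro t ht ht1
      have : t ∈ cj g (T ⊓ centralizer (V : Set G)) := by rw [heq]; exact ⟨ht, ht1⟩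
      exact mem_cj.mp this
    obtain ⟨h1, h2⟩ := hfin t ht ht1
    rcases hf.2 _ h1 h2 with e | e
    · left
      calc t * (g * f * g⁻¹) * t⁻¹ = g * ((g⁻¹ * t * g) * f * (g⁻¹ * t * g)⁻¹) * g⁻¹ := by group
        _ = g * f * g⁻¹ := by rw [e]
    · right
      calc t * (g * f * g⁻¹) * t⁻¹ = g * ((g⁻¹ * t * g) * f * (g⁻¹ * t * g)⁻¹) * g⁻¹ := by group
        _ = g * p * g⁻¹ * (g * f * g⁻¹) := by rw [e]; group
  -- `F p` contains `V` and is closed under multiplication by `V`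
  have hmulV : ∀ p v f, v ∈ V → f ∈ F p → v * f ∈ F p := by
    intro p v f hv hf
    refine ⟨mul_mem (h.V_le_jj hv) hf.1, fun t ht ht1 => ?_⟩
    have hvt := h.V_comm hv ht1
    have hvt' : t * v * t⁻¹ = v := conj_eq_of_comm hvt.symm
    rcases hf.2 t ht ht1 with e | e
    · left
      calc t * (v * f) * t⁻¹ = (t * v * t⁻¹) * (t * f * t⁻¹) := by group
        _ = v * f := by rw [hvt', e]
    · right
      have h1 : t * f * t⁻¹ ∈ jj V cf := by
        have := conj_mem_of_normalizer h.normalizer_le_normalizer_jj (h.ln.T_norm ht) hf.1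
        exact this
      have hpv : v * p = p * v := by
        have hpj : p ∈ jj V cf := by
          have h3 : p = (t * f * t⁻¹) * f⁻¹ := by rw [e]; group
          rw [h3]; exact mul_mem h1 (inv_mem hf.1)
        exact mem_centralizer_iff.mp (h.jj_le_cent hpj) v hv
      calc t * (v * f) * t⁻¹ = (t * v * t⁻¹) * (t * f * t⁻¹) := by group
        _ = v * p * f := by rw [hvt', e]; group
        _ = p * (v * f) := by rw [hpv]; group
  -- `F y = F s`
  have hqT : ∀ t ∈ T, t ∈ centralizer (V : Set G) → q * t * q⁻¹ ∈ T := fun t ht _ =>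
    mul_mem (mul_mem hq ht) (inv_mem hq)
  have hqV := h.ln.T_norm hq
  have hqf : ∀ p p', p ∈ V → p ≠ 1 → p ≠ z → p' = z * p → ∀ f ∈ F p, f ∈ F p' := by
    intro p p' hp hp1 hpz e f hf
    have h1 := hconj q hqV hqT p f hf
    rw [h.move hz hz1 hp hp1 hpz hq1 hq2, ← e] at h1
    rcases h.qq_cases hz hq1 (jj_le hz hz1 hf.1) with e1 | e1
    · rwa [e1] at h1
    · rw [e1] at h1
      have h2 := hmulV p' z _ hz h1
      rwa [← mul_assoc, h.ln.zz, one_mul] at h2
  have hFys : ∀ f, f ∈ F y ↔ f ∈ F s := fun f =>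
    ⟨hqf y s hy hy1 hyz hs f, hqf s y hsV hs1 hsz (by
      rw [hs, ← mul_assoc, h.ln.zz, one_mul]) f⟩
  -- rotate
  obtain ⟨g, hg, hg1, hg2⟩ := h.trans2 hz hz1 hy hy1 hyz hy hy1 hsV hs1 (Ne.symm hys)
  obtain ⟨c, hc, hcT⟩ := h.frat hg
  set r := c * g with hr
  have hrV : r ∈ normalizer (V : Set G) := mul_mem (centralizer_le_normalizer _ hc) hg
  have hrz : r * z * r⁻¹ = y := by
    calc r * z * r⁻¹ = c * (g * z * g⁻¹) * c⁻¹ := by rw [hr]; group
      _ = y := by rw [hg1]; exact conj_eq_of_comm (h.V_comm hy hc).symm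
  have hry : r * y * r⁻¹ = s := by
    calc r * y * r⁻¹ = c * (g * y * g⁻¹) * c⁻¹ := by rw [hr]; group
      _ = s := by rw [hg2]; exact conj_eq_of_comm (h.V_comm hsV hc).symm
  -- `F z ⊆ F y`
  have hzy : ∀ f ∈ F z, f ∈ F y := by
    intro f hf
    have h1 := hconj r hrV hcT z f hf
    rw [hrz] at h1
    -- `r f r⁻¹ ∈ F y = F s`; pull back by `r`: need `F s = r F y r⁻¹`, cardinality
    have h2 : (fun f => r * f * r⁻¹) '' F y ⊆ F s := by
      rintro _ ⟨f, hf, rfl⟩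
      have := hconj r hrV hcT y f hf
      rwa [hry] at this
    have h3 : F s = F y := by ext f; exact (hFys f).symm
    have h4 : (fun f => r * f * r⁻¹) '' F y = F s := by
      refine Set.eq_of_subset_of_ncard_le h2 ?_ (Set.toFinite _)
      rw [Set.ncard_image_of_injective _ (fun a b e => by simpa using e), h3]
    have h5 : r * f * r⁻¹ ∈ F s := (hFys _).mp h1
    rw [← h4] at h5
    obtain ⟨f', hf', e⟩ := h5
    have : f' = f := by simpa using e
    rw [← this]; exact hf'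
  intro t ht ht1
  have hfz : f ∈ F z := ⟨hf, hT⟩
  rcases (hzy f hfz).2 t ht ht1 with e | e
  · exact e
  rcases hT t ht ht1 with e' | e'
  · exact e'
  exfalso
  rw [e] at e'
  exact hyz (mul_right_cancel e')

/-- **LEMMA FIX** (1): `f ∈ I`, `[f, C_T(V)] ≤ ⟨z⟩` implies `f ∈ V`. -/
theorem fix (h : Fam T V z cf) {f : G} (hf : f ∈ jj V cf)
    (hT : ∀ t ∈ T, t ∈ centralizer (V : Set G) → t * f * t⁻¹ = f ∨ t * f * t⁻¹ = z * f) : f ∈ V := by
  have hz := h.ln.z_mem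
  have hz1 := h.ln.z_ne
  refine h.soc0 (h.ww_le_T (jj_le hz hz1 hf)) (h.jj_le_cent hf) (h.sqz f (jj_le hz hz1 hf)) ?_
  intro t ht ht1
  exact comm_of_conj_eq (h.fix_aux hf hT t ht ht1)

/-- (1.2): if `V < U ≤ I`, `|U / V| = 2`, `U` normal in `N_G(V)`, then for `u ∈ U - V` and `v ∈ V` some element of `C_G(V)`
moves `u` to `v u`. -/
theorem four_of (h : Fam T V z cf) {U : Subgroup G} (hU : U ≤ jj V cf)
    (hn : normalizer (V : Set G) ≤ normalizer (U : Set G)) {u : G} (hu : u ∈ U) (huV : u ∉ V)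
    (hc : ∀ w ∈ U, w ∈ V ∨ w * u⁻¹ ∈ V) {v : G} (hv : v ∈ V) :
    ∃ c ∈ centralizer (V : Set G), c * u * c⁻¹ = v * u := by
  have hz := h.ln.z_mem
  have hz1 := h.ln.z_ne
  by_cases hv1 : v = 1
  · exact ⟨1, one_mem _, by rw [hv1]; group⟩
  -- some element of `C_T(V)` moves `u`
  have huj := hU hu
  obtain ⟨t, htV, ht⟩ : ∃ t ∈ centralizer (V : Set G), t * u * t⁻¹ ≠ u := by
    by_contra hcon
    push Not at hcon
    exact huV (h.soc0 (h.ww_le_T (jj_le hz hz1 huj)) (h.jj_le_cent huj) (h.sqz u (jj_le hz hz1 huj))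
      fun t _ ht1 => comm_of_conj_eq (hcon t ht1))
  have hnV : ∀ g ∈ normalizer (V : Set G), g * u * g⁻¹ ∉ V := by
    intro g hg e
    apply huV
    have := h.conj_pt' hg e
    have e' : g⁻¹ * (g * u * g⁻¹) * g = u := by group
    rwa [e'] at this
  set w := t * u * t⁻¹ * u⁻¹ with hw
  have hwV : w ∈ V := by
    have h1 := conj_mem_of_normalizer hn (centralizer_le_normalizer _ htV) hu
    rcases hc _ h1 with e | e
    · exact absurd e (hnV t (centralizer_le_normalizer _ htV))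
    · exact e
  have hw1 : w ≠ 1 := fun e => ht (by rw [hw] at e; exact mul_inv_eq_one.mp e)
  -- move `w` to `v`
  obtain ⟨a, ha, ha1, -⟩ := h.point hwV hw1
  obtain ⟨b, hb, hb1, -⟩ := h.point hv hv1
  set g := b * a⁻¹ with hg
  have hgV : g ∈ normalizer (V : Set G) := mul_mem hb (inv_mem ha)
  have hgw : g * w * g⁻¹ = v := by
    rw [hg, ← ha1, ← hb1]; group
  refine ⟨g * t * g⁻¹, conj_mem_of_normalizer (normalizer_le_normalizer_centralizer V) hgV htV, ?_⟩
  -- `g⁻¹ u g = v' u`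
  have h2 : g⁻¹ * u * g ∈ U := conj_mem_of_normalizer' hn hgV hu
  have h3 : g⁻¹ * u * g * u⁻¹ ∈ V := by
    rcases hc _ h2 with e | e
    · exfalso
      apply huV
      have := h.conj_pt hgV e
      have e' : g * (g⁻¹ * u * g) * g⁻¹ = u := by group
      rwa [e'] at this
    · exact e
  set v' := g⁻¹ * u * g * u⁻¹ with hv'
  have e1 : g⁻¹ * u * g = v' * u := by rw [hv']; group
  have e2 : t * u * t⁻¹ = w * u := by rw [hw]; group
  have e3 : t * v' * t⁻¹ = v' := conj_eq_of_comm (h.V_comm h3 htV).symm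
  have e4 : v' * w = w * v' := h.ln.comm h3 hwV
  calc g * t * g⁻¹ * u * (g * t * g⁻¹)⁻¹ = g * (t * (g⁻¹ * u * g) * t⁻¹) * g⁻¹ := by group
    _ = g * ((t * v' * t⁻¹) * (t * u * t⁻¹)) * g⁻¹ := by rw [e1]; group
    _ = g * (v' * w * u) * g⁻¹ := by rw [e3, e2]; group
    _ = g * (w * (v' * u)) * g⁻¹ := by rw [e4]; group
    _ = (g * w * g⁻¹) * (g * (v' * u) * g⁻¹) := by group
    _ = v * u := by rw [hgw, ← e1]; group

/-- (1.3), for involutions -/
theorem no_fix (h : Fam T V z cf) {f : G} (hf2 : f * f = 1) (hf : ∀ g ∈ normalizer (V : Set G), g * f = f * g) :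
    f = 1 := by
  by_contra hf1
  have h1 : IsPGroup 2 (zpowers f) := isPGroup_zpowers hf2
  have h2 : zpowers f ≤ T := by
    refine h.le_T h1 ?_
    refine le_normalizer_of_forall fun t ht x hx => ?_
    obtain ⟨n, rfl⟩ := mem_zpowers_iff.mp hx
    have : Commute t (f ^ n) := (show Commute t f from hf t (h.ln.T_norm ht)).zpow_right n
    rw [this.eq, mul_inv_cancel_right]
    exact zpow_mem (mem_zpowers _) n
  rcases h.ln.soc f (h2 (mem_zpowers f)) hf2 (fun s hs => hf s (h.ln.T_norm hs)) with e | e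
  · exact hf1 e
  · obtain ⟨y, hy, hy1, hyz⟩ := h.ln.exists_y
    obtain ⟨g, hg, hgy⟩ := h.ln.trans y hy hy1
    apply hyz
    rw [← hgy, ← e]
    exact conj_eq_of_comm (hf g hg)

end fin

end Fam

end Cfsg.Agent.Omega.NO3S.Fit

end

section


/-!
# NO-3S, `q = 2`, `n = 1` (helper311's text #13963): the module `M = W_z / ⟨z⟩` for `H = C_z / Q_z`

`MRep V cf z M H` : `pi : G → M`, `phi : G → H` (used on `W_z`, `cf z`) identify `M` with `W_z/⟨z⟩` and `H` with
`cf z / Q_z`; `Fam.exists_mrep` : it exists, with a faithful action.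
-/

set_option autoImplicit false
set_option linter.unusedSectionVars false

namespace Cfsg.Agent.Omega.NO3S.Fit

open Subgroup Cfsg Cfsg.Agent.ZN Cfsg.Agent.MinSimple.Geo Cfsg.Agent.Omega.CaseL
open Cfsg.Agent.ZN.Block (conj_mem_of_normalizer conj_mem_of_normalizer' le_normalizer_of_forall
  mem_normalizer_of)

universe u

variable {G : Type u} [Group G]

/-- `M = W_z/⟨z⟩`, `H = cf z / Q_z` -/
structure MRep (V : Subgroup G) (cf : G → Subgroup G) (z : G) (M H : Type u) [AddCommGroup M] [Group H]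
    [DistribMulAction H M] where
  pi : G → M
  phi : G → H
  pi_mul : ∀ a ∈ ww V cf z, ∀ b ∈ ww V cf z, pi (a * b) = pi a + pi b
  pi_surj : ∀ m, ∃ w ∈ ww V cf z, pi w = m
  pi_ker : ∀ w ∈ ww V cf z, pi w = 0 ↔ w = 1 ∨ w = z
  phi_mul : ∀ c ∈ cf z, ∀ d ∈ cf z, phi (c * d) = phi c * phi d
  phi_surj : ∀ x, ∃ c ∈ cf z, phi c = x
  phi_ker : ∀ c ∈ cf z, phi c = 1 ↔ c ∈ qq V cf z
  act : ∀ c ∈ cf z, ∀ w ∈ ww V cf z, phi c • pi w = pi (c * w * c⁻¹)

section build

variable (W X C : Subgroup G)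

/-- conjugation by `c` on `W` -/
def cjW (hW : C ≤ normalizer (W : Set G)) (c : C) : W →* W where
  toFun w := ⟨c * w * (c : G)⁻¹, conj_mem_of_normalizer hW c.2 w.2⟩
  map_one' := by ext; simp
  map_mul' a b := by
    ext
    change (c : G) * (a * b) * (c : G)⁻¹ = (c * a * (c : G)⁻¹) * (c * b * (c : G)⁻¹)
    group

/-- the action of `C` on `W / X` -/
def quoHom (hW : C ≤ normalizer (W : Set G)) (hX : C ≤ normalizer (X : Set G))
    [(X.subgroupOf W).Normal] : C →* MulAut (W ⧸ X.subgroupOf W) :=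
  let f : C → (W ⧸ X.subgroupOf W →* W ⧸ X.subgroupOf W) := fun c =>
    QuotientGroup.map _ _ (cjW W C hW c) (by
      intro w hw
      rw [mem_comap, mem_subgroupOf]
      exact conj_mem_of_normalizer hX c.2 (mem_subgroupOf.mp hw))
  have f1 : ∀ c d x, f (c * d) x = f c (f d x) := by
    intro c d x
    induction x using QuotientGroup.induction_on with
    | H w =>
      change (QuotientGroup.mk _ : W ⧸ X.subgroupOf W) = QuotientGroup.mk _
      congr 1
      ext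
      change ((c * d : C) : G) * w * ((c * d : C) : G)⁻¹ = c * (d * w * (d : G)⁻¹) * (c : G)⁻¹
      push_cast
      group
  have f2 : ∀ x, f 1 x = x := by
    intro x
    induction x using QuotientGroup.induction_on with
    | H w =>
      change (QuotientGroup.mk _ : W ⧸ X.subgroupOf W) = QuotientGroup.mk _
      congr 1
      ext
      change ((1 : C) : G) * w * ((1 : C) : G)⁻¹ = w
      simp
  { toFun := fun c =>
      { toFun := f c
        invFun := f c⁻¹
        left_inv := fun x => by rw [← f1, inv_mul_cancel, f2]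
        right_inv := fun x => by rw [← f1, mul_inv_cancel, f2]
        map_mul' := map_mul _ }
    map_one' := by
      ext x
      exact f2 x
    map_mul' := fun c d => by
      ext x
      exact f1 c d x }

theorem quoHom_apply (hW : C ≤ normalizer (W : Set G)) (hX : C ≤ normalizer (X : Set G))
    [(X.subgroupOf W).Normal] (c : C) (w : W) :
    quoHom W X C hW hX c (QuotientGroup.mk w : W ⧸ X.subgroupOf W) =
      (QuotientGroup.mk (⟨c * w * (c : G)⁻¹, conj_mem_of_normalizer hW c.2 w.2⟩ : W) : W ⧸ X.subgroupOf W) := rfl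

end build

namespace Fam

variable {T V : Subgroup G} {z : G} {cf : G → Subgroup G}

theorem z_mem_ww (h : Fam T V z cf) : z ∈ ww V cf z := h.V_le h.ln.z_mem

theorem exists_mrep [Finite G] (h : Fam T V z cf) : ∃ (M H : Type u) (_ : AddCommGroup M) (_ : Finite M) (_ : Group H)
    (_ : Finite H) (_ : DistribMulAction H M) (_ : FaithfulSMul H M), Nonempty (MRep V cf z M H) := by
  classical
  set W := ww V cf z with hWd
  set X := zpowers z with hXd
  have hz := h.ln.z_mem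
  have hz1 := h.ln.z_ne
  have hW : cf z ≤ normalizer (W : Set G) := h.cf_norm
  have hX : cf z ≤ normalizer (X : Set G) := by
    refine le_normalizer_of_forall fun c hc x hx => ?_
    obtain ⟨n, rfl⟩ := mem_zpowers_iff.mp hx
    have : Commute c (z ^ n) := (show Commute c z from h.cf_comm hz hz1 hc).zpow_right n
    rw [this.eq, mul_inv_cancel_right]
    exact zpow_mem (mem_zpowers _) n
  have hWC : W ≤ cf z := h.ww_le_cf hz hz1
  have hn : (X.subgroupOf W).Normal := normal_subgroupOf_of_le_normalizer (hWC.trans hX)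
  let Q := W ⧸ X.subgroupOf W
  let M := Additive Q
  have hcomm : ∀ a b : Q, a * b = b * a := by
    intro a b
    induction a using QuotientGroup.induction_on with
    | H a =>
      induction b using QuotientGroup.induction_on with
      | H b =>
        change (QuotientGroup.mk (a * b) : Q) = QuotientGroup.mk (b * a)
        congr 1
        ext
        exact h.ab a a.2 b b.2
  let iQ : CommGroup Q := { (inferInstance : Group Q) with mul_comm := hcomm }
  let iM : AddCommGroup M := Additive.addCommGroup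
  obtain ⟨Φ, hΦ⟩ : ∃ Φ : cf z →* MulAut Q, ∀ (c : cf z) (w : W), Φ c (QuotientGroup.mk w : Q) =
      QuotientGroup.mk (⟨c * w * (c : G)⁻¹, conj_mem_of_normalizer hW c.2 w.2⟩ : W) :=
    ⟨quoHom W X (cf z) hW hX, fun c w => rfl⟩
  obtain ⟨H, hH⟩ : ∃ H : Subgroup (MulAut Q), H = Φ.range := ⟨_, rfl⟩
  have hX1 : ∀ x, x ∈ X ↔ x = 1 ∨ x = z := fun x => mem_zpowers_iff_of_mul_self h.ln.zz
  have hfin : Finite M := inferInstanceAs (Finite (W ⧸ X.subgroupOf W))
  have hfinA : Finite (MulAut Q) := Finite.of_injective (fun f : MulAut Q => (f : Q → Q)) DFunLike.coe_injective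
  let iA : DistribMulAction H M :=
    { smul := fun x m => Additive.ofMul ((x : MulAut Q) m.toMul)
      one_smul := fun m => rfl
      mul_smul := fun x y m => rfl
      smul_zero := fun x => congrArg Additive.ofMul (map_one (x : MulAut Q))
      smul_add := fun x m n => congrArg Additive.ofMul (map_mul (x : MulAut Q) m.toMul n.toMul) }
  have hmemH : ∀ c, Φ c ∈ H := fun c => by rw [hH]; exact MonoidHom.mem_range.mpr ⟨c, rfl⟩
  let piF : G → M := fun g => if hg : g ∈ W then Additive.ofMul (QuotientGroup.mk ⟨g, hg⟩) else 0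
  let phiF : G → H := fun g => if hg : g ∈ cf z then ⟨Φ ⟨g, hg⟩, hmemH _⟩ else 1
  have piE : ∀ g (hg : g ∈ W), piF g = Additive.ofMul (QuotientGroup.mk ⟨g, hg⟩) := fun g hg => dif_pos hg
  have phiE : ∀ g (hg : g ∈ cf z), phiF g = ⟨Φ ⟨g, hg⟩, hmemH _⟩ := fun g hg => dif_pos hg
  have key : ∀ c (hc : c ∈ cf z) w (hw : w ∈ W), Φ ⟨c, hc⟩ (QuotientGroup.mk ⟨w, hw⟩ : Q) =
      QuotientGroup.mk ⟨w, hw⟩ ↔ c * w * c⁻¹ * w⁻¹ ∈ X := by
    intro c hc w hw
    rw [hΦ, eq_comm, QuotientGroup.eq, mem_subgroupOf]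
    change w⁻¹ * (c * w * c⁻¹) ∈ X ↔ _
    have hcw : c * w * c⁻¹ ∈ W := conj_mem_of_normalizer hW hc hw
    rw [h.ab w⁻¹ (inv_mem hw) _ hcw]
  refine ⟨M, H, iM, hfin, inferInstance, inferInstance, iA, ?_, ⟨?_⟩⟩
  · refine ⟨fun {a b} hab => Subtype.ext ?_⟩
    ext m
    exact congrArg Additive.toMul (hab (Additive.ofMul m))
  · refine ⟨piF, phiF, ?_, ?_, ?_, ?_, ?_, ?_, ?_⟩
    · intro a ha b hb
      rw [piE a ha, piE b hb, piE _ (mul_mem ha hb)]
      rfl
    · intro m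
      obtain ⟨w, hw⟩ := QuotientGroup.mk_surjective m.toMul
      refine ⟨w, w.2, ?_⟩
      rw [piE w w.2]
      exact congrArg Additive.ofMul hw
    · intro w hw
      rw [piE w hw]
      change (QuotientGroup.mk (⟨w, hw⟩ : W) : Q) = 1 ↔ _
      rw [QuotientGroup.eq_one_iff, mem_subgroupOf, hX1]
    · intro c hc d hd
      rw [phiE c hc, phiE d hd, phiE _ (mul_mem hc hd)]
      apply Subtype.ext
      rw [Subgroup.coe_mul, ← map_mul]
      rfl
    · rintro ⟨x, hx⟩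
      obtain ⟨c, rfl⟩ := MonoidHom.mem_range.mp (hH ▸ hx)
      exact ⟨c, c.2, phiE c c.2⟩
    · intro c hc
      rw [phiE c hc]
      constructor
      · intro e
        have e' : Φ ⟨c, hc⟩ = 1 := congrArg Subtype.val e
        refine ⟨hc, h.cf_comm hz hz1 hc, fun w hw => (key c hc w hw).mp ?_⟩
        rw [e']; rfl
      · intro hq
        apply Subtype.ext
        change Φ ⟨c, hc⟩ = 1
        ext m
        obtain ⟨w, hw⟩ := QuotientGroup.mk_surjective m
        have hm : m = QuotientGroup.mk ⟨(w : G), w.2⟩ := hw.symm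
        rw [hm]
        exact (key c hc w w.2).mpr (hq.2.2 w w.2)
    · intro c hc w hw
      rw [phiE c hc, piE w hw, piE _ (conj_mem_of_normalizer hW hc hw)]
      exact congrArg Additive.ofMul (hΦ ⟨c, hc⟩ ⟨w, hw⟩)

end Fam

namespace MRep

variable {T V : Subgroup G} {z : G} {cf : G → Subgroup G} {M H : Type u} [AddCommGroup M] [Group H]
  [DistribMulAction H M]

theorem pi_one (R : MRep V cf z M H) (_ : Fam T V z cf) : R.pi 1 = 0 :=
  (R.pi_ker 1 (one_mem _)).mpr (Or.inl rfl)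

theorem pi_z (R : MRep V cf z M H) (h : Fam T V z cf) : R.pi z = 0 :=
  (R.pi_ker z h.z_mem_ww).mpr (Or.inr rfl)

theorem pi_inv (R : MRep V cf z M H) (h : Fam T V z cf) {w : G} (hw : w ∈ ww V cf z) : R.pi w⁻¹ = - R.pi w := by
  have := R.pi_mul w hw w⁻¹ (inv_mem hw)
  rw [mul_inv_cancel, R.pi_one h] at this
  exact (neg_eq_of_add_eq_zero_right this.symm).symm

theorem pi_eq (R : MRep V cf z M H) (h : Fam T V z cf) {a b : G} (ha : a ∈ ww V cf z) (hb : b ∈ ww V cf z) :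
    R.pi a = R.pi b ↔ a = b ∨ a = z * b := by
  have e : R.pi (a * b⁻¹) = R.pi a - R.pi b := by
    rw [R.pi_mul a ha _ (inv_mem hb), R.pi_inv h hb, sub_eq_add_neg]
  rw [← sub_eq_zero, ← e, R.pi_ker _ (mul_mem ha (inv_mem hb)), mul_inv_eq_one, mul_inv_eq_iff_eq_mul]

theorem phi_one' (R : MRep V cf z M H) : R.phi 1 = 1 := by
  have := R.phi_mul 1 (one_mem _) 1 (one_mem _)
  rw [mul_one] at this
  exact (mul_eq_left.mp this.symm)

theorem phi_inv (R : MRep V cf z M H) {c : G} (hc : c ∈ cf z) : R.phi c⁻¹ = (R.phi c)⁻¹ := by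
  have := R.phi_mul c hc c⁻¹ (inv_mem hc)
  rw [mul_inv_cancel, R.phi_one'] at this
  exact (inv_eq_of_mul_eq_one_right this.symm).symm

theorem phi_eq (R : MRep V cf z M H) {c d : G} (hc : c ∈ cf z) (hd : d ∈ cf z) :
    R.phi c = R.phi d ↔ c * d⁻¹ ∈ qq V cf z := by
  rw [← R.phi_ker _ (mul_mem hc (inv_mem hd)), R.phi_mul c hc _ (inv_mem hd), R.phi_inv hd, mul_inv_eq_one]

theorem two (R : MRep V cf z M H) (h : Fam T V z cf) (m : M) : m + m = 0 := by
  obtain ⟨w, hw, rfl⟩ := R.pi_surj m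
  rw [← R.pi_mul w hw w hw, h.sqz w hw, R.pi_one h]

end MRep

end Cfsg.Agent.Omega.NO3S.Fit

end

section


/-!
# NO-3S, `q = 2`, `n = 1` (helper311's text #13963): facts about `M = W_z/⟨z⟩` as an `H`-module

For `R : MRep V cf z M H` and a point `y ≠ z` of `V`, `v0 = R.pi y`:
* `R.hom`, `R.img K` (image in `H` of `K ≤ cf z`), `R.pre K` (preimage in `cf z` of `K ≤ H`);
* `R.smul_v0_iff`, `R.stab` : the stabilizer of `v0` is the image of `C_G(V)`;
* `R.span` : `M` is spanned by the orbit of `v0`;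
* `R.img_T_two`, `R.img_T_index`, `R.img_T_fix` : the image of `T` is a Sylow 2-subgroup fixing `v0`;
* `R.fixI` : LEMMA FIX;
* `R.quad`, `R.inv_A`, `R.cen_A` : the image `A` of `W_y`;
* `Fam.o2h` (0.1) : `O₂(C_z / Q_z) = 1`.
-/

set_option autoImplicit false
set_option linter.unusedSectionVars false

namespace Cfsg.Agent.Omega.NO3S.Fit

open Subgroup Cfsg Cfsg.Agent.ZN Cfsg.Agent.MinSimple.Geo Cfsg.Agent.Omega.CaseL
open Cfsg.Agent.ZN.Block (conj_mem_of_normalizer conj_mem_of_normalizer' le_normalizer_of_forall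
  mem_normalizer_of)

universe u

variable {G : Type u} [Group G]

theorem Fam.T_index {T V : Subgroup G} {z : G} {cf : G → Subgroup G} (h : Fam T V z cf) :
    ¬ 2 ∣ T.relIndex (cf z) := by
  intro hd
  apply h.ln.T_syl
  have h1 : T.relIndex (cf z) * (cf z).relIndex (centralizer ({z} : Set G)) =
      T.relIndex (centralizer ({z} : Set G)) := relIndex_mul_relIndex _ _ _ h.T_le_cf
        (h.le z h.ln.z_mem h.ln.z_ne)
  rw [← h1]
  exact hd.mul_right _

namespace MRep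

variable {T V : Subgroup G} {z : G} {cf : G → Subgroup G} {M H : Type u} [AddCommGroup M] [Group H]
  [DistribMulAction H M]

/-- `phi` as a homomorphism -/
def hom (R : MRep V cf z M H) : cf z →* H where
  toFun c := R.phi c
  map_one' := R.phi_one'
  map_mul' c d := R.phi_mul c c.2 d d.2

/-- the image of `K ≤ cf z` in `H` -/
def img (R : MRep V cf z M H) (K : Subgroup G) : Subgroup H := (K.subgroupOf (cf z)).map R.hom

theorem mem_img (R : MRep V cf z M H) {K : Subgroup G} (hK : K ≤ cf z) {x : H} :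
    x ∈ R.img K ↔ ∃ k ∈ K, R.phi k = x := by
  constructor
  · rintro ⟨k, hk, rfl⟩
    exact ⟨k, mem_subgroupOf.mp hk, rfl⟩
  · rintro ⟨k, hk, rfl⟩
    exact ⟨⟨k, hK hk⟩, mem_subgroupOf.mpr hk, rfl⟩

/-- the preimage of `K ≤ H` in `cf z` -/
def pre (R : MRep V cf z M H) (K : Subgroup H) : Subgroup G := (K.comap R.hom).map (cf z).subtype

theorem mem_pre (R : MRep V cf z M H) {K : Subgroup H} {c : G} : c ∈ R.pre K ↔ c ∈ cf z ∧ R.phi c ∈ K := by
  constructor
  · rintro ⟨c, hc, rfl⟩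
    exact ⟨c.2, hc⟩
  · rintro ⟨hc, hc'⟩
    exact ⟨⟨c, hc⟩, hc', rfl⟩

theorem pre_le (R : MRep V cf z M H) (K : Subgroup H) : R.pre K ≤ cf z := fun _ hc => (R.mem_pre.mp hc).1

section pt

variable (R : MRep V cf z M H) (h : Fam T V z cf) {y : G} (hy : y ∈ V) (hy1 : y ≠ 1) (hyz : y ≠ z)
include h hy hy1 hyz

omit hy1 hyz in
theorem y_mem : y ∈ ww V cf z := h.V_le hy

theorem v0_ne : R.pi y ≠ 0 := by
  intro e
  rcases (R.pi_ker y (h.V_le hy)).mp e with e | e
  · exact hy1 e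
  · exact hyz e

/-- an element of `C_G(z)` which maps `y` to `y` or `z y` normalizes `V` -/
theorem mem_normalizer_of_conj [Finite G] {c : G} (hcz : c * z = z * c) (hc : c * y * c⁻¹ ∈ V) :
    c ∈ normalizer (V : Set G) := by
  rw [mem_normalizer_iff_cj]
  refine eq_of_le_of_card_ge ?_ (by rw [card_cj])
  intro v hv
  rw [mem_cj] at hv
  have hcz' : c * z * c⁻¹ = z := conj_eq_of_comm hcz
  have e : v = c * (c⁻¹ * v * c) * c⁻¹ := by group
  rcases h.ln.four h.ln.z_mem hy h.ln.z_ne hy1 (Ne.symm hyz) hv with e1 | e1 | e1 | e1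
  · rw [e, e1]; simp
  · rw [e, e1, hcz']; exact h.ln.z_mem
  · rw [e, e1]; exact hc
  · rw [e, e1]
    have : c * (z * y) * c⁻¹ = (c * z * c⁻¹) * (c * y * c⁻¹) := by group
    rw [this, hcz']
    exact mul_mem h.ln.z_mem hc

/-- `Stab_H(v0)` is the image of `N_G(V) ∩ cf z` -/
theorem smul_v0_iff [Finite G] {c : G} (hc : c ∈ cf z) :
    R.phi c • R.pi y = R.pi y ↔ c ∈ normalizer (V : Set G) := by
  have hz := h.ln.z_mem
  have hz1 := h.ln.z_ne
  have hyW : y ∈ ww V cf z := h.V_le hy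
  have hcz := h.cf_comm hz hz1 hc
  rw [R.act c hc y hyW, R.pi_eq h (conj_mem_wf hc hyW) hyW]
  constructor
  · rintro (e | e)
    · exact mem_normalizer_of_conj h hy hy1 hyz hcz (by rw [e]; exact hy)
    · exact mem_normalizer_of_conj h hy hy1 hyz hcz (by rw [e]; exact mul_mem hz hy)
  · intro hn
    exact h.ln.conj_cases hz hy hz1 hcz hn

/-- the stabilizer of `v0` is the image of `C_G(V)` -/
theorem stab [Finite G] {x : H} (hx : x • R.pi y = R.pi y) : ∃ d ∈ centralizer (V : Set G), R.phi d = x := by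
  have hz := h.ln.z_mem
  have hz1 := h.ln.z_ne
  obtain ⟨c, hc, rfl⟩ := R.phi_surj x
  have hn := (smul_v0_iff R h hy hy1 hyz hc).mp hx
  obtain ⟨d, hd, k, hk, e⟩ := h.norm_eq hz hz1 hn (h.cf_comm hz hz1 hc)
  refine ⟨d, hd, ?_⟩
  rw [e, R.phi_mul d (h.cent_le_cf hz hz1 hd) k hk.1, (R.phi_ker k hk.1).mpr hk, mul_one]

omit hy1 hyz in
/-- `C_G(V)` fixes `v0` -/
theorem cent_v0 {d : G} (hd : d ∈ centralizer (V : Set G)) : R.phi d • R.pi y = R.pi y := by
  rw [R.act d (h.cent_le_cf h.ln.z_mem h.ln.z_ne hd) y (h.V_le hy), conj_eq_of_comm (h.V_comm hy hd).symm]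

/-- `M` is spanned by the orbit of `v0` -/
theorem span : AddSubgroup.closure (Set.range fun x : H => x • R.pi y) = ⊤ := by
  have hz := h.ln.z_mem
  have hz1 := h.ln.z_ne
  rw [eq_top_iff]
  rintro m -
  obtain ⟨w, hw, rfl⟩ := R.pi_surj m
  set D := AddSubgroup.closure (Set.range fun x : H => x • R.pi y)
  let B : Subgroup G :=
    { carrier := {w | w ∈ ww V cf z ∧ R.pi w ∈ D}
      mul_mem' := by
        rintro a b ⟨ha, ha1⟩ ⟨hb, hb1⟩
        refine ⟨mul_mem ha hb, ?_⟩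
        rw [R.pi_mul a ha b hb]
        exact add_mem ha1 hb1
      one_mem' := ⟨one_mem _, by rw [R.pi_one h]; exact zero_mem _⟩
      inv_mem' := by
        rintro a ⟨ha, ha1⟩
        refine ⟨inv_mem ha, ?_⟩
        rw [R.pi_inv h ha]
        exact neg_mem ha1 }
  have : ww V cf z ≤ B := by
    refine wf_le fun c hc x hx => ?_
    refine ⟨cj_le_wf hc hx, ?_⟩
    rw [mem_cj] at hx
    have hxw : c⁻¹ * x * c ∈ ww V cf z := h.V_le hx
    have e : x = c * (c⁻¹ * x * c) * c⁻¹ := by group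
    rw [e, ← R.act c hc _ hxw]
    have hy0 : R.phi c • R.pi y ∈ D := AddSubgroup.subset_closure ⟨_, rfl⟩
    rcases h.ln.four hz hy hz1 hy1 (Ne.symm hyz) hx with e1 | e1 | e1 | e1
    · rw [e1, R.pi_one h, smul_zero]; exact zero_mem _
    · rw [e1, R.pi_z h, smul_zero]; exact zero_mem _
    · rw [e1]; exact hy0
    · rw [e1, R.pi_mul z h.z_mem_ww y (h.V_le hy), R.pi_z h, zero_add]; exact hy0
  exact (this hw).2

omit hy hy1 hyz in
theorem img_T_two : IsPGroup 2 (R.img T) := by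
  have : IsPGroup 2 (T.subgroupOf (cf z)) := h.ln.two.comap_of_injective _ (cf z).subtype_injective
  exact this.map _

omit hy hy1 hyz in
theorem hom_surj : Function.Surjective R.hom := by
  intro x
  obtain ⟨c, hc, rfl⟩ := R.phi_surj x
  exact ⟨⟨c, hc⟩, rfl⟩

omit hy hy1 hyz in
theorem img_T_index : ¬ 2 ∣ (R.img T).index := by
  intro hd
  apply h.T_index
  have h1 : (R.img T).index ∣ (T.subgroupOf (cf z)).index :=
    index_map_dvd _ (R.hom_surj (T := T) h)
  exact hd.trans h1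

theorem img_T_fix {x : H} (hx : x ∈ R.img T) : x • R.pi y = R.pi y := by
  obtain ⟨t, ht, rfl⟩ := (R.mem_img h.T_le_cf).mp hx
  rw [R.act t (h.T_le_cf ht) y (h.V_le hy),
    R.pi_eq h (conj_mem_wf (h.T_le_cf ht) (h.V_le hy)) (h.V_le hy)]
  exact h.ln.conj_cases h.ln.z_mem hy h.ln.z_ne (h.ln.z_comm (h.ln.T_le ht)) (h.ln.T_norm ht)

/-- LEMMA FIX in `M` -/
theorem fixI [Finite G] {f : G} (hf : f ∈ jj V cf) (hT : ∀ x ∈ R.img T, x • R.pi f = R.pi f) :
    R.pi f = 0 ∨ R.pi f = R.pi y := by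
  have hz := h.ln.z_mem
  have hz1 := h.ln.z_ne
  have hfW := Fam.jj_le hz hz1 hf
  have hfV : f ∈ V := by
    refine h.fix hf fun t ht _ => ?_
    have h1 := hT _ ((R.mem_img h.T_le_cf).mpr ⟨t, ht, rfl⟩)
    rw [R.act t (h.T_le_cf ht) f hfW, R.pi_eq h (conj_mem_wf (h.T_le_cf ht) hfW) hfW] at h1
    exact h1
  rcases h.ln.four hz hy hz1 hy1 (Ne.symm hyz) hfV with e | e | e | e
  · left; rw [e, R.pi_one h]
  · left; rw [e, R.pi_z h]
  · right; rw [e]
  · right; rw [e, R.pi_mul z h.z_mem_ww y (h.V_le hy), R.pi_z h, zero_add]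

end pt

/-! ### the image `A` of `W_p`, `p ∈ V`, `p ≠ 1` -/

section A

variable (R : MRep V cf z M H) (h : Fam T V z cf) {y p : G} (hy : y ∈ V) (hy1 : y ≠ 1) (hyz : y ≠ z)
  (hp : p ∈ V) (hp1 : p ≠ 1)
include h

/-- `[m, a] = pi [a, w]` -/
theorem comm_eq {c w : G} (hc : c ∈ cf z) (hw : w ∈ ww V cf z) :
    R.phi c • R.pi w - R.pi w = R.pi (c * w * c⁻¹ * w⁻¹) := by
  rw [R.act c hc w hw, R.pi_mul _ (conj_mem_wf hc hw) _ (inv_mem hw), R.pi_inv h hw, sub_eq_add_neg]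

include hp hp1

theorem sq_A {w : G} (hw : w ∈ ww V cf p) : R.phi w * R.phi w = 1 := by
  have hwc := h.ww_le_cf' hp hp1 h.ln.z_mem h.ln.z_ne hw
  rw [← R.phi_mul w hwc w hwc, h.sq hp hp1 w hw, R.phi_one']

theorem comm_A {w w' : G} (hw : w ∈ ww V cf p) (hw' : w' ∈ ww V cf p) :
    R.phi w * R.phi w' = R.phi w' * R.phi w := by
  have hwc := h.ww_le_cf' hp hp1 h.ln.z_mem h.ln.z_ne hw
  have hwc' := h.ww_le_cf' hp hp1 h.ln.z_mem h.ln.z_ne hw'
  rw [← R.phi_mul w hwc w' hwc', h.comm hp hp1 w hw w' hw', R.phi_mul w' hwc' w hwc]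

theorem A_v0 (hy : y ∈ V) {w : G} (hw : w ∈ ww V cf p) : R.phi w • R.pi y = R.pi y :=
  R.cent_v0 h hy (h.ww_le_cent hp hp1 hw)

/-- `A` is quadratic on `M` -/
theorem quad (hpz : p ≠ z) {a b w : G} (ha : a ∈ ww V cf p) (hb : b ∈ ww V cf p) (hw : w ∈ ww V cf z) :
    R.phi a • (R.phi b • R.pi w - R.pi w) = R.phi b • R.pi w - R.pi w := by
  have hz := h.ln.z_mem
  have hz1 := h.ln.z_ne
  have hac := h.ww_le_cf' hp hp1 hz hz1 ha
  have hbc := h.ww_le_cf' hp hp1 hz hz1 hb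
  rw [R.comm_eq h hbc hw]
  have hj := h.comm_mem_jj hp hp1 hz hz1 (Ne.symm hpz) hb hw
  have h1 : b * w * b⁻¹ * w⁻¹ ∈ ww V cf z := Fam.jj_le hz hz1 hj
  rw [R.act a hac _ h1, conj_eq_of_comm (h.comm hp hp1 a ha _ (Fam.jj_le hp hp1 hj))]

/-- `A` is normalized by the stabilizer of `v0` -/
theorem norm_A (hy : y ∈ V) (hy1 : y ≠ 1) (hyz : y ≠ z) [Finite G] {x : H} (hx : x • R.pi y = R.pi y) {w : G}
    (hw : w ∈ ww V cf p) : ∃ w' ∈ ww V cf p, x * R.phi w * x⁻¹ = R.phi w' ∧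
      ∃ d ∈ centralizer (V : Set G), R.phi d = x ∧ w' = d * w * d⁻¹ := by
  have hz := h.ln.z_mem
  have hz1 := h.ln.z_ne
  obtain ⟨d, hd, rfl⟩ := R.stab h hy hy1 hyz hx
  have hdc := h.cent_le_cf hz hz1 hd
  have hwc := h.ww_le_cf' hp hp1 hz hz1 hw
  refine ⟨d * w * d⁻¹, conj_mem_of_normalizer (h.cent_norm hp hp1) hd hw, ?_, d, hd, rfl, rfl⟩
  rw [R.phi_mul _ (mul_mem hdc hwc) _ (inv_mem hdc), R.phi_mul d hdc w hwc, R.phi_inv hdc]

/-- the nonzero `T`-fixed vectors of `[M, a]`, `a ∈ A`, are `v0` -/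
theorem fix_A (hpz : p ≠ z) (hy : y ∈ V) (hy1 : y ≠ 1) (hyz : y ≠ z) [Finite G] {a : G} (ha : a ∈ ww V cf p)
    {m : M} (hT : ∀ x ∈ R.img T, x • (R.phi a • m - m) = R.phi a • m - m) :
    R.phi a • m - m = 0 ∨ R.phi a • m - m = R.pi y := by
  have hz := h.ln.z_mem
  have hz1 := h.ln.z_ne
  obtain ⟨w, hw, rfl⟩ := R.pi_surj m
  have hac := h.ww_le_cf' hp hp1 hz hz1 ha
  rw [R.comm_eq h hac hw] at hT ⊢
  exact R.fixI h hy hy1 hyz (h.comm_mem_jj hp hp1 hz hz1 (Ne.symm hpz) ha hw) hT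

end A

/-! ### the order of `[M, a]` for `k = 1` -/

end MRep

namespace Fam

variable {T V : Subgroup G} {z : G} {cf : G → Subgroup G}

/-- `k = 1`: the image of `W_p` in `C_q/Q_q` has order 2. -/
def One1 (V : Subgroup G) (cf : G → Subgroup G) : Prop :=
  ∀ p ∈ V, p ≠ 1 → ∀ q ∈ V, q ≠ 1 → q ≠ p → ∀ w ∈ ww V cf p, ∀ w' ∈ ww V cf p, w ∉ qq V cf q →
    w' ∉ qq V cf q → w * w' ∈ qq V cf q

/-- it is enough for one pair of points -/
theorem one1_of [Finite G] (h : Fam T V z cf) {p q : G} (hp : p ∈ V) (hp1 : p ≠ 1) (hq : q ∈ V) (hq1 : q ≠ 1)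
    (hqp : q ≠ p) (hk : ∀ w ∈ ww V cf p, ∀ w' ∈ ww V cf p, w ∉ qq V cf q → w' ∉ qq V cf q → w * w' ∈ qq V cf q) :
    One1 V cf := by
  intro p' hp' hp1' q' hq' hq1' hqp' w hw w' hw' hwq hwq'
  obtain ⟨g, hg, e1, e2⟩ := h.trans2 hp' hp1' hq' hq1' hqp' hp hp1 hq hq1 hqp
  have h1 := h.conj_ww hg hp' hp1' hw
  have h2 := h.conj_ww hg hp' hp1' hw'
  rw [e1] at h1 h2
  have hback : ∀ x, g * x * g⁻¹ ∈ qq V cf q → x ∈ qq V cf q' := by
    intro x hx
    have := h.conj_qq (inv_mem hg) hq hq1 hx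
    have e3 : g⁻¹ * q * g⁻¹⁻¹ = q' := by rw [← e2]; group
    have e4 : g⁻¹ * (g * x * g⁻¹) * g⁻¹⁻¹ = x := by group
    rwa [e3, e4] at this
  apply hback
  have h3 := hk _ h1 _ h2 (fun e => hwq (hback _ e)) (fun e => hwq' (hback _ e))
  have e : g * w * g⁻¹ * (g * w' * g⁻¹) = g * (w * w') * g⁻¹ := by group
  rwa [e] at h3

/-- some element of `W_p` is not in `Q_q` -/
theorem exists_not_qq [Finite G] (h : Fam T V z cf) {p q : G} (hp : p ∈ V) (hp1 : p ≠ 1) (hq : q ∈ V) (hq1 : q ≠ 1)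
    (hqp : q ≠ p) : ∃ w ∈ ww V cf p, w ∉ qq V cf q := by
  by_contra hcon
  push Not at hcon
  have h1 : ∀ w ∈ ww V cf q, w ∈ qq V cf p := by
    intro w hw
    obtain ⟨g, hg, e1, e2⟩ := h.trans2 hp hp1 hq hq1 hqp hq hq1 hp hp1 (Ne.symm hqp)
    have h2 := h.conj_ww (inv_mem hg) hq hq1 hw
    have e3 : g⁻¹ * q * g⁻¹⁻¹ = p := by rw [← e1]; group
    rw [e3] at h2
    have h3 := h.conj_qq hg hq hq1 (hcon _ h2)
    have e4 : g * (g⁻¹ * w * g⁻¹⁻¹) * g⁻¹ = w := by group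
    rwa [e2, e4] at h3
  obtain ⟨a, ha, b, hb, hab⟩ := h.nc' hp hp1 hq hq1 hqp
  exact hab (h.w1_comm hp hq hqp ha (hcon a ha) hb (h1 b hb))

/-- (0.1): `O₂(C_z / Q_z) = 1` -/
theorem o2h [Finite G] (h : Fam T V z cf) {N : Subgroup G} (hN : N ≤ cf z)
    (hn : cf z ≤ normalizer (N : Set G)) (h2 : ∀ n ∈ N, ∃ k : ℕ, n ^ 2 ^ k ∈ qq V cf z) : N ≤ qq V cf z := by
  obtain ⟨M, H, _, _, _, _, _, _, ⟨R⟩⟩ := h.exists_mrep
  obtain ⟨y, hy, hy1, hyz⟩ := h.ln.exists_y
  have hfact : Fact (Nat.Prime 2) := ⟨Nat.prime_two⟩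
  have hpow : ∀ c ∈ cf z, ∀ k : ℕ, R.phi (c ^ k) = R.phi c ^ k := by
    intro c hc k
    exact map_pow R.hom ⟨c, hc⟩ k
  have hp2 : IsPGroup 2 (R.img N) := by
    rintro ⟨x, hx⟩
    obtain ⟨n, hn', rfl⟩ := (R.mem_img hN).mp hx
    obtain ⟨k, hk⟩ := h2 n hn'
    refine ⟨k, Subtype.ext ?_⟩
    change R.phi n ^ 2 ^ k = 1
    rw [← hpow n (hN hn'), (R.phi_ker _ (pow_mem (hN hn') _)).mpr hk]
  have hnorm : (R.img N).Normal := by
    refine ⟨fun x hx g => ?_⟩
    obtain ⟨n, hn', rfl⟩ := (R.mem_img hN).mp hx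
    obtain ⟨c, hc, rfl⟩ := R.phi_surj g
    refine (R.mem_img hN).mpr ⟨c * n * c⁻¹, conj_mem_of_normalizer hn hc hn', ?_⟩
    rw [R.phi_mul _ (mul_mem hc (hN hn')) _ (inv_mem hc), R.phi_mul c hc n (hN hn'), R.phi_inv hc]
  let S : Sylow 2 H := (R.img_T_two h).toSylow (R.img_T_index h)
  have hle : R.img N ≤ R.img T := IsPGroup.le_sylow_of_normal hp2 S
  intro n hn'
  rw [← R.phi_ker n (hN hn')]
  -- it fixes all `x • v0`
  have hfix : ∀ x : H, R.phi n • x • R.pi y = x • R.pi y := by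
    intro x
    have h3 : x⁻¹ * R.phi n * x ∈ R.img N := by
      have := hnorm.conj_mem _ ((R.mem_img hN).mpr ⟨n, hn', rfl⟩) x⁻¹
      rwa [inv_inv] at this
    have h4 := R.img_T_fix h hy hy1 hyz (hle h3)
    calc R.phi n • x • R.pi y = x • ((x⁻¹ * R.phi n * x) • R.pi y) := by
          rw [← mul_smul, ← mul_smul]; congr 1; group
      _ = x • R.pi y := by rw [h4]
  refine FaithfulSMul.eq_of_smul_eq_smul (M := H) (α := M) fun m => ?_
  rw [one_smul]
  have hm : m ∈ AddSubgroup.closure (Set.range fun x : H => x • R.pi y) := by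
    rw [R.span h hy hy1 hyz]; trivial
  induction hm using AddSubgroup.closure_induction with
  | mem m hm =>
    obtain ⟨x, rfl⟩ := hm
    exact hfix x
  | zero => exact smul_zero _
  | add a b _ _ ha hb => rw [smul_add, ha, hb]
  | neg a _ ha => rw [smul_neg, ha]

end Fam

end Cfsg.Agent.Omega.NO3S.Fit

end

section


/-!
# NO-3S, `q = 2`, `n = 1` (helper311's text #13963): from nilpotent normal subgroups of `H` to normal `p`-subgroups

`Fam.exists_pgroup_of_not_cen` : `N` a nilpotent normal subgroup of `H` which is not centralized by the image `A` of `W_y`: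
`A` does not centralize some normal `p`-subgroup of `H`, `p ≠ 2`.
-/

set_option autoImplicit false
set_option linter.unusedSectionVars false

namespace Cfsg.Agent.Omega.NO3S.Fit

open Subgroup Cfsg Cfsg.Agent.ZN Cfsg.Agent.MinSimple.Geo Cfsg.Agent.Omega.CaseL
open Cfsg.Agent.ZN.Block (conj_mem_of_normalizer conj_mem_of_normalizer' le_normalizer_of_forall
  mem_normalizer_of)

universe u

variable {G : Type u} [Group G]

namespace Fam

variable {T V : Subgroup G} {z : G} {cf : G → Subgroup G} {M H : Type u} [AddCommGroup M] [Group H]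
  [DistribMulAction H M]

/-- a normal 2-subgroup of `H` is trivial -/
theorem eq_bot_of_two [Finite G] (h : Fam T V z cf) (R : MRep V cf z M H) {F : Subgroup H} (hF : F.Normal)
    (h2 : IsPGroup 2 F) : F = ⊥ := by
  have hpow : ∀ c ∈ cf z, ∀ k : ℕ, R.phi (c ^ k) = R.phi c ^ k := by
    intro c hc k
    exact map_pow R.hom ⟨c, hc⟩ k
  have hle : R.pre F ≤ qq V cf z := by
    refine h.o2h (R.pre_le F) ?_ ?_
    · refine le_normalizer_of_forall fun c hc n hn => ?_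
      obtain ⟨h1, h3⟩ := R.mem_pre.mp hn
      refine R.mem_pre.mpr ⟨mul_mem (mul_mem hc h1) (inv_mem hc), ?_⟩
      rw [R.phi_mul _ (mul_mem hc h1) _ (inv_mem hc), R.phi_mul c hc n h1, R.phi_inv hc]
      exact hF.conj_mem _ h3 _
    · intro n hn
      obtain ⟨h1, h3⟩ := R.mem_pre.mp hn
      obtain ⟨k, hk⟩ := h2 ⟨_, h3⟩
      refine ⟨k, ?_⟩
      rw [← R.phi_ker _ (pow_mem h1 _), hpow n h1]
      exact congrArg Subtype.val hk
  rw [eq_bot_iff]
  intro f hf
  obtain ⟨c, hc, rfl⟩ := R.phi_surj f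
  rw [mem_bot]
  exact (R.phi_ker c hc).mpr (hle (R.mem_pre.mpr ⟨hc, hf⟩))

/-- **(d)** -/
theorem exists_pgroup_of_not_cen [Finite G] (h : Fam T V z cf) (R : MRep V cf z M H) {y : G} {N : Subgroup H}
    (hN : N.Normal) (hnil : Group.IsNilpotent N)
    (hne : ∃ w ∈ ww V cf y, ∃ n ∈ N, R.phi w * n ≠ n * R.phi w) :
    ∃ p, p.Prime ∧ p ≠ 2 ∧ ∃ F : Subgroup H, F.Normal ∧ IsPGroup p F ∧
      ∃ w ∈ ww V cf y, ∃ f ∈ F, R.phi w * f ≠ f * R.phi w := by
  classical
  have hfinH : Finite H := by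
    have : Function.Surjective R.hom := R.hom_surj h
    exact Finite.of_surjective _ this
  obtain ⟨w, hw, n, hn, hne⟩ := hne
  set a := R.phi w with ha
  let K : Subgroup N := (centralizer ({a} : Set H)).subgroupOf N
  have hK : ∀ x : N, x ∈ K ↔ a * x = x * a := by
    intro x
    rw [mem_subgroupOf, mem_centralizer_singleton_iff]
    exact ⟨fun e => e.symm, fun e => e.symm⟩
  obtain ⟨p, hp, hpK⟩ : ∃ p, p.Prime ∧ p ∣ K.index := by
    by_contra hcon
    push Not at hcon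
    have h1 : K.index = 1 := by
      by_contra h2
      obtain ⟨p, hp, hd⟩ := Nat.exists_prime_and_dvd h2
      exact hcon p hp hd
    have h2 : (⟨n, hn⟩ : N) ∈ K := by
      rw [index_eq_one.mp h1]; exact mem_top _
    exact hne ((hK _).mp h2)
  have : Fact p.Prime := ⟨hp⟩
  obtain ⟨P⟩ : Nonempty (Sylow p N) := inferInstance
  have hPn : (P : Subgroup N).Normal := by
    have := (Group.isNilpotent_of_finite_tfae (G := N)).out 0 3
    exact (this.mp hnil) p ⟨hp⟩ P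
  have hPK : ¬ (P : Subgroup N) ≤ K := by
    intro hle
    exact P.not_dvd_index (hpK.trans (index_dvd_of_le hle))
  have hPc : (P : Subgroup N).Characteristic := P.characteristic_of_normal hPn
  set F : Subgroup H := (P : Subgroup N).map N.subtype with hF
  have hFn : F.Normal := ConjAct.normal_of_characteristic_of_normal
  have hFp : IsPGroup p F := P.isPGroup'.map _
  obtain ⟨x, hx, hxK⟩ := SetLike.not_le_iff_exists.mp hPK
  have hxF : (x : H) ∈ F := ⟨x, hx, rfl⟩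
  have hxa : a * (x : H) ≠ x * a := fun e => hxK ((hK x).mpr e)
  refine ⟨p, hp, ?_, F, hFn, hFp, w, hw, x, hxF, hxa⟩
  rintro rfl
  have h1 := h.eq_bot_of_two R hFn hFp
  rw [h1, mem_bot] at hxF
  rw [hxF, mul_one, one_mul] at hxa
  exact hxa rfl

end Fam

end Cfsg.Agent.Omega.NO3S.Fit

end
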