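import Cfsg.Agent.Mrg.Omega.CaseL.Base
import Cfsg.Agent.Co2Type.Quad
import Cfsg.Agent.J2.ExtQuot
import Cfsg.Agent.Transfer.Extraspecial
import Cfsg.Agent.Mrg.Omega.FrameI
import Cfsg.Agent.Mrg.Omega.Mix.Entry

section


/-!
# Two types of lines with `W₁`, `W₂` abelian: the extraspecial group

For a `Pair T V W z` (two types of lines, `ws V z`, `ws W z` abelian and not commuting):
* `Pair.o2_eq`: `O₂(C_G(z)) = ws V z ws W z`;
* `Pair.large`: this group is extraspecial with centre `⟨z⟩` (`Co2Type.Quad.Large`);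
* `Pair.extra`, `Pair.not_irr`: the same in the terms of `Omega.Exits`: `Extra z n`, `¬ Irr z`;
* `Pair.known`: the conclusion (from S1759 and S1761).
-/

set_option autoImplicit false
set_option linter.style.haveILetI false
set_option linter.unusedSectionVars false

namespace Cfsg.Agent.Omega.CaseL

open Subgroup Cfsg Cfsg.Agent.ZN Cfsg.Agent.MinSimple.Geo Cfsg.Agent.Co2Type.Quad
open Cfsg.Agent.ZN.Block (conj_mem_of_normalizer conj_mem_of_normalizer' le_normalizer_of_forall
  mem_normalizer_of)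

universe u

variable {G : Type u} [Group G]

namespace Pair

variable {T V W : Subgroup G} {z : G} [Finite G]

theorem comm_ab (h : Pair T V W z) {a b : G} (ha : a ∈ ws V z) (hb : b ∈ ws W z) :
    b * a = a * b ∨ b * a = z * (a * b) := h.w.comm_cases hb (h.v.ws_le_o2 ha)

theorem z_commV (h : Pair T V W z) {a : G} (ha : a ∈ ws V z) : a * z = z * a :=
  mem_centralizer_singleton_iff.mp (h.v.ws_le_centralizer ha)

theorem z_commW (h : Pair T V W z) {a : G} (ha : a ∈ ws W z) : a * z = z * a :=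
  mem_centralizer_singleton_iff.mp (h.w.ws_le_centralizer ha)

/-- the product of `ws V z` and `ws W z` -/
def ee (h : Pair T V W z) : Subgroup G where
  carrier := {x | ∃ a ∈ ws V z, ∃ b ∈ ws W z, x = a * b}
  mul_mem' := by
    rintro _ _ ⟨a, ha, b, hb, rfl⟩ ⟨c, hc, d, hd, rfl⟩
    rcases h.comm_ab hc hb with e | e
    · refine ⟨a * c, mul_mem ha hc, b * d, mul_mem hb hd, ?_⟩
      calc a * b * (c * d) = a * (b * c) * d := by group
        _ = a * (c * b) * d := by rw [e]
        _ = a * c * (b * d) := by group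
    · refine ⟨a * z * c, mul_mem (mul_mem ha h.z_memV) hc, b * d, mul_mem hb hd, ?_⟩
      calc a * b * (c * d) = a * (b * c) * d := by group
        _ = a * (z * (c * b)) * d := by rw [e]
        _ = a * z * c * (b * d) := by group
  one_mem' := ⟨1, one_mem _, 1, one_mem _, (mul_one 1).symm⟩
  inv_mem' := by
    rintro _ ⟨a, ha, b, hb, rfl⟩
    have ha' := h.sqV a ha
    have hb' := h.sqW b hb
    have e0 : (a * b)⁻¹ = b * a := by
      rw [mul_inv_rev, inv_eq_self ha', inv_eq_self hb']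
    rcases h.comm_ab ha hb with e | e
    · exact ⟨a, ha, b, hb, by rw [e0, e]⟩
    · exact ⟨z * a, mul_mem h.z_memV ha, b, hb, by rw [e0, e, mul_assoc]⟩

theorem mem_ee (h : Pair T V W z) {x : G} : x ∈ h.ee ↔ ∃ a ∈ ws V z, ∃ b ∈ ws W z, x = a * b := Iff.rfl

theorem V_le_ee (h : Pair T V W z) : ws V z ≤ h.ee := fun a ha => ⟨a, ha, 1, one_mem _, (mul_one a).symm⟩

theorem W_le_ee (h : Pair T V W z) : ws W z ≤ h.ee := fun a ha => ⟨1, one_mem _, a, ha, (one_mul a).symm⟩

theorem ee_eq (h : Pair T V W z) : h.ee = ws V z ⊔ ws W z := by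
  refine le_antisymm ?_ (sup_le h.V_le_ee h.W_le_ee)
  rintro _ ⟨a, ha, b, hb, rfl⟩
  exact mul_mem (mem_sup_left ha) (mem_sup_right hb)

theorem ee_le_o2 (h : Pair T V W z) : h.ee ≤ o2 (centralizer ({z} : Set G)) := by
  rw [h.ee_eq]
  exact sup_le h.v.ws_le_o2 h.w.ws_le_o2

theorem o2_z (_ : Pair T V W z) {x : G} (hx : x ∈ o2 (centralizer ({z} : Set G))) : x * z = z * x :=
  mem_centralizer_singleton_iff.mp (Block.o2_le _ hx)

/-- `[E, O₂(C_G(z))] ≤ ⟨z⟩` -/
theorem comm_ee (h : Pair T V W z) {x q : G} (hx : x ∈ h.ee) (hq : q ∈ o2 (centralizer ({z} : Set G))) :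
    x * q = q * x ∨ x * q = q * x * z := by
  obtain ⟨a, ha, b, hb, rfl⟩ := hx
  have hqz := h.o2_z hq
  have haz := h.z_commV ha
  have hbz := h.z_commW hb
  have hzz := h.v.zz
  rcases h.v.comm_cases ha hq with e1 | e1 <;> rcases h.w.comm_cases hb hq with e2 | e2
  · left
    rw [mul_assoc, e2, ← mul_assoc, e1, mul_assoc]
  · right
    calc a * b * q = a * (b * q) := by group
      _ = (a * z) * (q * b) := by rw [e2]; group
      _ = z * (a * q) * b := by rw [haz]; group
      _ = (z * q) * (a * b) := by rw [e1]; group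
      _ = q * (z * a) * b := by rw [← hqz]; group
      _ = q * a * (z * b) := by rw [← haz]; group
      _ = q * (a * b) * z := by rw [← hbz]; group
  · right
    calc a * b * q = a * (b * q) := by group
      _ = (a * q) * b := by rw [e2]; group
      _ = (z * q) * (a * b) := by rw [e1]; group
      _ = q * (z * a) * b := by rw [← hqz]; group
      _ = q * a * (z * b) := by rw [← haz]; group
      _ = q * (a * b) * z := by rw [← hbz]; group
  · left
    calc a * b * q = a * (b * q) := by group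
      _ = (a * z) * (q * b) := by rw [e2]; group
      _ = z * (a * q) * b := by rw [haz]; group
      _ = (z * z) * q * (a * b) := by rw [e1]; group
      _ = q * (a * b) := by rw [hzz, one_mul]

/-- an element commuting with `E` is in `⟨z⟩` -/
theorem cent_ee (h : Pair T V W z) {c : G} (hc : ∀ x ∈ h.ee, c * x = x * c) : c = 1 ∨ c = z := by
  obtain ⟨h1, h2⟩ := h.cent_ab (fun a ha => hc a (h.V_le_ee ha)) (fun a ha => hc a (h.W_le_ee ha))
  exact h.f_eq h1 h2

theorem large_ee (h : Pair T V W z) : Large h.ee z where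
  z_mem := h.V_le_ee h.z_memV
  z_ne := h.v.z_ne
  z_sq := h.v.zz
  comm_z := fun x hx => h.o2_z (h.ee_le_o2 hx)
  conj_mem := by
    rintro g hg _ ⟨a, ha, b, hb, rfl⟩
    have hgC : g ∈ centralizer ({z} : Set G) := mem_centralizer_singleton_iff.mpr hg
    refine ⟨g * a * g⁻¹, conj_mem_of_normalizer (centralizer_le_normalizer_ws V z) hgC ha,
      g * b * g⁻¹, conj_mem_of_normalizer (centralizer_le_normalizer_ws W z) hgC hb, ?_⟩
    group
  sq := by
    rintro _ ⟨a, ha, b, hb, rfl⟩
    have ha' := h.sqV a ha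
    have hb' := h.sqW b hb
    rcases h.comm_ab ha hb with e | e
    · left
      calc a * b * (a * b) = a * (b * a) * b := by group
        _ = (a * a) * (b * b) := by rw [e]; group
        _ = 1 := by rw [ha', hb', mul_one]
    · right
      calc a * b * (a * b) = a * (b * a) * b := by group
        _ = (a * z) * a * (b * b) := by rw [e]; group
        _ = z * (a * a) * (b * b) := by rw [h.z_commV ha]; group
        _ = z := by rw [ha', hb', mul_one, mul_one]
  comm := fun x hx y hy => h.comm_ee hx (h.ee_le_o2 hy)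
  cent := fun x _ hc => h.cent_ee hc
  self := by
    intro g _ hc
    rcases h.cent_ee hc with e | e
    · rw [e]; exact one_mem _
    · rw [e]; exact h.V_le_ee h.z_memV

/-- `O₂(C_G(z)) = ws V z ws W z` -/
theorem o2_eq_ee (h : Pair T V W z) : o2 (centralizer ({z} : Set G)) = h.ee := by
  refine le_antisymm ?_ h.ee_le_o2
  intro q hq
  have L := h.large_ee
  refine L.mem_of_act ⟨q, Block.o2_le _ hq⟩ ?_
  ext v
  obtain ⟨x, rfl⟩ := L.pr_surjective v
  rw [L.act_pr]
  change L.pr (L.conjQ _ x) = L.pr x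
  rw [L.pr_eq_pr, Large.conjQ_coe]
  rcases h.comm_ee x.2 hq with e | e
  · left
    change q * (x : G) * q⁻¹ = x
    rw [← e]; group
  · right
    change q * (x : G) * q⁻¹ = x * z
    have hqz := h.o2_z hq
    have hzz := h.v.zz
    have hqz' : q⁻¹ * z = z * q⁻¹ := inv_comm_of hqz
    have e1 : q * (x : G) = x * q * z := by
      calc q * (x : G) = q * x * (z * z) := by rw [hzz, mul_one]
        _ = (q * x * z) * z := by group
        _ = x * q * z := by rw [← e]
    rw [e1, mul_assoc, ← hqz', ← mul_assoc, mul_inv_cancel_right]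

theorem o2_eq (h : Pair T V W z) : o2 (centralizer ({z} : Set G)) = ws V z ⊔ ws W z := by
  rw [h.o2_eq_ee, h.ee_eq]

/-- **`O₂(C_G(z))` is a large extraspecial subgroup** -/
theorem large (h : Pair T V W z) : Large (o2 (centralizer ({z} : Set G))) z := by
  rw [h.o2_eq_ee]; exact h.large_ee

end Pair

/-! ### the exits -/

/-- `T` is a Sylow 2-subgroup of `G`. -/
theorem Ln.not_dvd_index [Finite G] {T V : Subgroup G} {z : G} (h : Ln T V z) : ¬ 2 ∣ T.index := by
  haveI : Fact (Nat.Prime 2) := ⟨Nat.prime_two⟩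
  obtain ⟨P, hTP⟩ := h.two.exists_le_sylow
  have hPT : (P : Subgroup G) ≤ T := by
    by_contra hlt
    have hne : T.subgroupOf (P : Subgroup G) ≠ ⊤ := fun e => hlt (subgroupOf_eq_top.mp e)
    haveI : Group.IsNilpotent (P : Subgroup G) := P.2.isNilpotent
    have hnc := Group.normalizerCondition_of_isNilpotent (G := (P : Subgroup G))
      (T.subgroupOf (P : Subgroup G)) (lt_top_iff_ne_top.mpr hne)
    obtain ⟨g, hg, hgT⟩ := SetLike.exists_of_lt hnc
    have hgT' : (g : G) ∉ T := fun e => hgT (mem_subgroupOf.mpr e)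
    have hgn : ∀ t ∈ T, (g : G) * t * (g : G)⁻¹ ∈ T := by
      intro t ht
      have h1 := (mem_normalizer_iff.mp hg ⟨t, hTP ht⟩).mp (mem_subgroupOf.mpr ht)
      exact mem_subgroupOf.mp h1
    have hgn' : ∀ t ∈ T, (g : G)⁻¹ * t * (g : G) ∈ T := by
      intro t ht
      have h1 := (mem_normalizer_iff''.mp hg ⟨t, hTP ht⟩).mp (mem_subgroupOf.mpr ht)
      exact mem_subgroupOf.mp h1
    have hgz : (g : G) * z * (g : G)⁻¹ = z := by
      have hzT : z ∈ T := h.V_le h.z_mem
      rcases h.soc _ (hgn z hzT) (by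
        calc (g : G) * z * (g : G)⁻¹ * ((g : G) * z * (g : G)⁻¹) = g * (z * z) * (g : G)⁻¹ := by group
          _ = 1 := by rw [h.zz]; group) (fun s hs => by
        have h1 := h.z_comm (h.T_le (hgn' s hs))
        calc s * ((g : G) * z * (g : G)⁻¹) = g * (((g : G)⁻¹ * s * g) * z) * (g : G)⁻¹ := by group
          _ = g * (z * ((g : G)⁻¹ * s * g)) * (g : G)⁻¹ := by rw [h1]
          _ = (g : G) * z * (g : G)⁻¹ * s := by group) with e | e
      · exfalso
        apply h.z_ne
        calc z = (g : G)⁻¹ * ((g : G) * z * (g : G)⁻¹) * g := by group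
          _ = 1 := by rw [e]; group
      · exact e
    have hgC : (g : G) ∈ centralizer ({z} : Set G) :=
      mem_centralizer_singleton_iff.mpr (comm_of_conj_eq hgz)
    set K := T ⊔ zpowers (g : G) with hK
    have hKC : K ≤ centralizer ({z} : Set G) := sup_le h.T_le (by simpa using hgC)
    have hKP : K ≤ (P : Subgroup G) := sup_le hTP (by simp)
    have hK2 : IsPGroup 2 K := P.2.to_le hKP
    have h1 := relIndex_mul_relIndex T K (centralizer ({z} : Set G)) le_sup_left hKC
    have h2 : ¬ 2 ∣ T.relIndex K := fun e => h.T_syl (h1 ▸ e.mul_right _)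
    have h3 : T.relIndex K = 1 := by
      obtain ⟨n, hn⟩ := IsPGroup.iff_card.mp hK2
      have h4 : T.relIndex K ∣ 2 ^ n := by
        rw [← hn]
        exact Dvd.intro_left _ (Block.card_mul_relIndex' (le_sup_left : T ≤ K))
      obtain ⟨m, -, hm⟩ := (Nat.dvd_prime_pow Nat.prime_two).mp h4
      rcases Nat.eq_zero_or_pos m with e | e
      · rw [hm, e, pow_zero]
      · exact absurd (hm ▸ dvd_pow_self 2 (by omega)) h2
    exact hgT' (relIndex_eq_one.mp h3 (mem_sup_right (mem_zpowers _)))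
  have : T = P := le_antisymm hTP hPT
  rw [this]
  exact P.not_dvd_index

namespace Pair

open Cfsg.Agent.Omega.Exits

variable {T V W : Subgroup G} {z : G} [Finite G]

theorem orderOf_z (h : Pair T V W z) : orderOf z = 2 :=
  orderOf_eq_prime (by rw [pow_two]; exact h.v.zz) h.v.z_ne

/-- an isomorphism of `O₂(C_G(z))` as subgroup of `G` with the subgroup of `C_G(z)` -/
noncomputable def o2Equiv (z : G) :
    ↥(o2 (centralizer ({z} : Set G))) ≃* ↥(pCore 2 ↥(centralizer ({z} : Set G))) :=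
  ((pCore 2 ↥(centralizer ({z} : Set G))).equivMapOfInjective _
    (centralizer ({z} : Set G)).subtype_injective).symm

theorem isExtraspecial (h : Pair T V W z) : IsExtraspecial 2 ↥(o2 (centralizer ({z} : Set G))) := by
  have L := h.large
  refine Cfsg.Agent.J2.ExtQuot.isExtraspecial_two (Block.o2_isPGroup _) L.card_center ?_ ?_
  · intro x
    rw [L.mem_center]
    rcases L.sq x x.2 with e | e
    · left; simpa [pow_two] using e
    · right; simpa [pow_two] using e
  · obtain ⟨a, ha, b, hb, hab⟩ := h.nc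
    exact ⟨⟨a, h.v.ws_le_o2 ha⟩, ⟨b, h.w.ws_le_o2 hb⟩, fun e => hab (congrArg Subtype.val e)⟩

/-- **`O₂(C_G(z))` is extraspecial**, in the form of `Omega.Exits`. -/
theorem extra (h : Pair T V W z) : ∃ n, 1 ≤ n ∧ Extra z n ∧
    Nat.card ↥(o2 (centralizer ({z} : Set G))) = 2 ^ (2 * n + 1) := by
  have hE := h.isExtraspecial
  obtain ⟨n, hn, hc⟩ := Transfer.Extraspecial.exists_card_eq Nat.prime_two hE
  refine ⟨n, hn, ⟨h.orderOf_z, Cfsg.Agent.J2.ExtQuot.isExtraspecial_of_equiv (o2Equiv z) hE, ?_⟩, hc⟩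
  rw [← hc]
  exact (Nat.card_congr (o2Equiv z).toEquiv).symm

/-- `C_G(z)` is reducible on `O₂(C_G(z))/⟨z⟩`. -/
theorem not_irr (h : Pair T V W z) : ¬ Irr z := by
  intro hi
  set C := centralizer ({z} : Set G) with hC
  have hAC : ws V z ≤ C := h.v.ws_le_centralizer
  have hn : ((ws V z).subgroupOf C).Normal :=
    normal_subgroupOf_of_le_normalizer (centralizer_le_normalizer_ws V z)
  have h1 : zpowers (⟨z, mem_centralizer_singleton_iff.mpr rfl⟩ : ↥C) ≤ (ws V z).subgroupOf C := by
    rw [zpowers_le, mem_subgroupOf]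
    exact h.z_memV
  have h2 : (ws V z).subgroupOf C ≤ pCore 2 ↥C := by
    intro x hx
    obtain ⟨y, hy, hyx⟩ := h.v.ws_le_o2 (mem_subgroupOf.mp hx)
    have : y = x := Subtype.ext hyx
    rw [← this]; exact hy
  rcases hi _ hn h1 h2 with e | e
  · obtain ⟨y, hy, hy1, hyz⟩ := h.v.exists_y
    have hyA := h.v.V_le_ws hy
    have h3 : (⟨y, hAC hyA⟩ : ↥C) ∈ (ws V z).subgroupOf C := mem_subgroupOf.mpr hyA
    rw [e, mem_zpowers_iff] at h3
    obtain ⟨k, hk⟩ := h3
    have h4 : z ^ k = y := congrArg Subtype.val hk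
    rcases (mem_zpowers_iff_of_mul_self h.v.zz).mp (mem_zpowers_iff.mpr ⟨k, h4⟩) with h5 | h5
    · exact hy1 h5
    · exact hyz h5
  · obtain ⟨a, ha, b, hb, hab⟩ := h.nc
    obtain ⟨y, hy, hyb⟩ := h.w.ws_le_o2 hb
    rw [SetLike.mem_coe, ← e, mem_subgroupOf] at hy
    have : b ∈ ws V z := by rw [← hyb]; exact hy
    exact hab (h.abV a ha b this)

/-- if `|O₂(C_G(z))| = 8` then `T` has order 8 -/
theorem card_T (h : Pair T V W z) (h8 : Nat.card ↥(o2 (centralizer ({z} : Set G))) = 8) :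
    Nat.card T ∣ 8 := by
  have hcard := Block.card_sup_mul_card_inf (H := ws W z) (N := ws V z)
    (h.w.ws_le_centralizer.trans (centralizer_le_normalizer_ws V z))
  have hinf : ws W z ⊓ ws V z = zpowers z := by
    apply le_antisymm
    · rintro x ⟨hx1, hx2⟩
      rw [mem_zpowers_iff_of_mul_self h.v.zz]
      exact h.f_eq hx2 hx1
    · rw [zpowers_le]
      exact ⟨h.z_memW, h.z_memV⟩
  have hV4 : 4 ∣ Nat.card (ws V z) := by rw [← h.v.card_V]; exact card_dvd_of_le h.v.V_le_ws
  have hW4 : 4 ∣ Nat.card (ws W z) := by rw [← h.w.card_V]; exact card_dvd_of_le h.w.V_le_ws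
  rw [sup_comm, ← h.o2_eq, h8, hinf, Nat.card_zpowers, h.orderOf_z] at hcard
  have hVpos : 0 < Nat.card (ws V z) := Nat.card_pos
  have hWpos : 0 < Nat.card (ws W z) := Nat.card_pos
  have hA4 : Nat.card (ws V z) = 4 ∧ Nat.card (ws W z) = 4 := by
    have h1 := Nat.le_of_dvd hVpos hV4
    have h2 := Nat.le_of_dvd hWpos hW4
    constructor <;> nlinarith
  have hAV : V = ws V z := eq_of_le_of_card_ge h.v.V_le_ws (by rw [hA4.1, h.v.card_V])
  have hBW : W = ws W z := eq_of_le_of_card_ge h.w.V_le_ws (by rw [hA4.2, h.w.card_V])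
  have L := h.large
  have hle : T ≤ o2 (centralizer ({z} : Set G)) := by
    intro t ht
    refine L.mem_of_act ⟨t, h.v.T_le ht⟩ ?_
    ext v
    obtain ⟨x, rfl⟩ := L.pr_surjective v
    rw [L.act_pr]
    change L.pr (L.conjQ _ x) = L.pr x
    rw [L.pr_eq_pr, Large.conjQ_coe]
    obtain ⟨a, ha, b, hb, hx⟩ := h.o2_eq_ee.le x.2
    rw [← hAV] at ha
    rw [← hBW] at hb
    change t * (x : G) * t⁻¹ = x ∨ t * (x : G) * t⁻¹ = x * z
    have htz := h.v.z_comm (h.v.T_le ht)
    have hxz : (x : G) * z = z * x := L.comm_z x x.2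
    have hzz := h.v.zz
    have haz := h.v.comm ha h.v.z_mem
    have hbz := h.w.comm hb h.w.z_mem
    have e0 : t * (x : G) * t⁻¹ = (t * a * t⁻¹) * (t * b * t⁻¹) := by rw [hx]; group
    rcases h.v.conj_cases h.v.z_mem ha h.v.z_ne htz (h.v.T_norm ht) with e1 | e1 <;>
      rcases h.w.conj_cases h.w.z_mem hb h.w.z_ne htz (h.w.T_norm ht) with e2 | e2
    · left; rw [e0, e1, e2, hx]
    · right
      rw [e0, e1, e2, hx]
      calc a * (z * b) = a * (b * z) := by rw [hbz]
        _ = a * b * z := by group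
    · right
      rw [e0, e1, e2, hx]
      calc z * a * b = a * (z * b) := by rw [← haz]; group
        _ = a * (b * z) := by rw [hbz]
        _ = a * b * z := by group
    · left
      rw [e0, e1, e2, hx]
      calc z * a * (z * b) = z * (a * z) * b := by group
        _ = (z * z) * (a * b) := by rw [haz]; group
        _ = a * b := by rw [hzz, one_mul]
  rw [← h8]
  exact card_dvd_of_le hle

/-- **CASE L, q = 2**: two types of lines with `ws V z`, `ws W z` abelian and not commuting, `G` simple of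
sectional 2-rank at least 5: `G` is known (`L_n(2)`, `M₂₄`, `He`; S1759 for `n = 2`). -/
theorem known (h : Pair T V W z) [IsSimpleGroup G] (hna : ¬ IsMulCommutative G)
    (h59 : St1759.{u}) (h61 : St1761.{u}) (hs : ¬ SectionalPRankLE 2 4 G) : IsKnownSimple' G := by
  obtain ⟨n, hn, hE, hc⟩ := h.extra
  have hct := h.v.charTwo
  rcases (by omega : n = 1 ∨ n = 2 ∨ 3 ≤ n) with e | e | e
  · exfalso
    subst e
    have h8 := h.card_T (by rw [hc]; norm_num)
    have h32 := dvd_card hs
    have h1 := T.card_mul_index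
    have h2 : ¬ 2 ∣ T.index := h.v.not_dvd_index
    rw [← h1] at h32
    have h3 : Nat.Coprime 32 T.index := by
      rw [show (32 : ℕ) = 2 ^ 5 by norm_num]
      exact Nat.Coprime.pow_left _ ((Nat.Prime.coprime_iff_not_dvd Nat.prime_two).mpr h2)
    have h4 := Nat.Coprime.dvd_of_dvd_mul_right h3 h32
    have h5 := Nat.le_of_dvd (by norm_num) (h4.trans h8)
    omega
  · subst e
    exact hE.known_two hct hna h59
  · rcases hE.known_or_irr hct h61 e with h1 | h1
    · exact h1
    · exact absurd h1 h.not_irr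

end Pair

end Cfsg.Agent.Omega.CaseL

end

section


/-!
# A mixed pair with `q = 2` is a pair of `Omega/CaseL`

* `MixedN.exists_pair` : `MixedN M₁ M₂ R`, `|F₁| = 2` gives `CaseL.Pair S V₁ V₂ z`, `R = {1, z}`.
-/

set_option autoImplicit false
set_option linter.unusedSectionVars false

namespace Cfsg.Agent.Omega.Mix

open Subgroup Cfsg.Agent.Omega.BTwo
open Cfsg.Agent.Omega.NatPair (ap exists_ap)
open Cfsg.Agent.MinSimple.Geo (lines ws ws_le le_ws)

universe u

variable {G : Type u} [Group G] [Finite G]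

theorem two_cases {F : Type*} [Field F] [Finite F] (h2 : Nat.card F = 2) (c : F) : c = 0 ∨ c = 1 := by
  by_contra hcon
  push Not at hcon
  have h1 : Function.Injective (fun i : Fin 3 => if i = 0 then (0 : F) else if i = 1 then 1 else c) := by
    intro i j h
    have := hcon.1
    have := hcon.2
    fin_cases i <;> fin_cases j <;> simp_all
  have h3 := Nat.card_le_card_of_injective _ h1
  simp at h3
  omega

variable {F : Type*} [Field F] [Finite F] {V N : Subgroup G} (M : RMod F V N)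

theorem mem_line_two (h2 : Nat.card F = 2) {w : Fin 2 → F} {x : G} : x ∈ M.line w ↔ x = 1 ∨ x = M.e w := by
  rw [M.mem_line]
  constructor
  · rintro ⟨c, rfl⟩
    rcases two_cases h2 c with rfl | rfl
    · left; rw [zero_smul, M.e_zero]
    · right; rw [one_smul]
  · rintro (rfl | rfl)
    · exact ⟨0, by rw [zero_smul, M.e_zero]⟩
    · exact ⟨1, by rw [one_smul]⟩

theorem not_dvd_relIndex (S : Sylow 2 G) {K : Subgroup G} (h : (S : Subgroup G) ≤ K) :
    ¬ 2 ∣ (S : Subgroup G).relIndex K := by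
  have : Fact (Nat.Prime 2) := ⟨Nat.prime_two⟩
  intro h2
  exact S.not_dvd_index ((h2.trans (Dvd.intro _ (relIndex_mul_index h))))

theorem ln_of [CharP F 2] (h2 : Nat.card F = 2) {w : Fin 2 → F} (hw : w ≠ 0) (S : Sylow 2 G)
    (hSN : (S : Subgroup G) ≤ N) (hSR : (S : Subgroup G) ≤ normalizer (M.line w : Set G))
    (hZ : ∀ z ∈ S, z * z = 1 → (∀ s ∈ S, s * z = z * s) → z ∈ M.line w)
    (hch : IsCharacteristicTwoType G) : CaseL.Ln (S : Subgroup G) V (M.e w) := by
  have : Fact (Nat.Prime 2) := ⟨Nat.prime_two⟩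
  have hz1 : M.e w ≠ 1 := fun h => hw (M.e_eq_one.1 h)
  have hzR : M.e w ∈ M.line w := (mem_line_two M h2).2 (Or.inr rfl)
  have hT : (S : Subgroup G) ≤ centralizer ({M.e w} : Set G) := by
    intro s hs
    rw [mem_centralizer_singleton_iff]
    have h1 := (mem_normalizer_iff.1 (hSR hs) (M.e w)).1 hzR
    rcases (mem_line_two M h2).1 h1 with h | h
    · exact absurd (conj_eq_one_iff.1 h) hz1
    · rw [← mul_inv_eq_iff_eq_mul]
      exact h
  exact
    { charTwo := hch
      two := S.isPGroup'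
      T_le := hT
      T_syl := not_dvd_relIndex S hT
      V_le := by
        have h1 : IsPGroup 2 V := by
          intro x
          exact ⟨1, by rw [pow_one, pow_two]; exact Subtype.ext (M.sq x.2)⟩
        have h3 : IsPGroup 2 ((S : Subgroup G) ⊔ V : Subgroup G) :=
          S.isPGroup'.to_sup_of_normal_right' h1 (hSN.trans M.le)
        have h4 := S.is_maximal' h3 le_sup_left
        exact le_sup_right.trans_eq h4
      T_norm := hSN.trans M.le
      T_syl' := not_dvd_relIndex S (hSN.trans M.le)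
      card_V := by rw [M.card_V, h2]; norm_num
      sq := fun v hv => M.sq hv
      z_mem := M.e_mem w
      z_ne := hz1
      trans := by
        intro v hv hv1
        obtain ⟨x, rfl⟩ := (M.mem_iff v).1 hv
        have hx : x ≠ 0 := fun h => hv1 (M.e_eq_one.2 h)
        obtain ⟨A, hA⟩ := exists_ap hw hx
        obtain ⟨g, hg, h⟩ := M.lift' A
        exact ⟨g, M.le hg, by rw [h, hA]⟩
      soc := fun t ht htt hts => (mem_line_two M h2).1 (hZ t ht htt hts) }

/-- the two forms of `⟨V^g : z ∈ V^g⟩` -/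
theorem ws_le_LL (h2 : Nat.card F = 2) {w : Fin 2 → F} (hw : w ≠ 0) {R : Subgroup G} (hR : R = M.line w) :
    ws V (M.e w) ≤ LL V R R := by
  refine ws_le ?_
  rintro L ⟨⟨g, rfl⟩, hz⟩
  have h1 : g⁻¹ * M.e w * g ∈ V := (mem_cj (g := g) (H := V)).1 hz
  obtain ⟨x, hx⟩ := (M.mem_iff _).1 h1
  have hx0 : x ≠ 0 := by
    rintro rfl
    apply hw
    rw [← M.e_eq_one]
    rw [M.e_zero] at hx
    calc M.e w = g * (g⁻¹ * M.e w * g) * g⁻¹ := by group
      _ = 1 := by rw [← hx]; group
  obtain ⟨A, hA⟩ := exists_ap hw hx0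
  obtain ⟨n, hn, h⟩ := M.lift' A
  have h3 : n * M.e w * n⁻¹ = g⁻¹ * M.e w * g := by rw [h, hA, hx]
  have h4 : cj (g * n) R = R := by
    have key : g * n * M.e w * (g * n)⁻¹ = M.e w := by
      calc g * n * M.e w * (g * n)⁻¹ = g * (n * M.e w * n⁻¹) * g⁻¹ := by group
        _ = M.e w := by rw [h3]; group
    rw [hR]
    ext y
    rw [mem_cj, mem_line_two M h2, mem_line_two M h2]
    constructor
    · rintro (h5 | h5)
      · left
        calc y = (g * n) * ((g * n)⁻¹ * y * (g * n)) * (g * n)⁻¹ := by group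
          _ = 1 := by rw [h5]; group
      · right
        calc y = (g * n) * ((g * n)⁻¹ * y * (g * n)) * (g * n)⁻¹ := by group
          _ = M.e w := by rw [h5, key]
    · rintro (rfl | rfl)
      · left; group
      · right
        calc (g * n)⁻¹ * M.e w * (g * n) = (g * n)⁻¹ * (g * n * M.e w * (g * n)⁻¹) * (g * n) := by rw [key]
          _ = M.e w := by group
  have h5 := cj_le_LL (V := V) h4
  rwa [cj_mul, cj_eq_self_iff.2 (M.le hn)] at h5

theorem LL_le_ws {w : Fin 2 → F} {R : Subgroup G} (hR : R = M.line w) :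
    LL V R R ≤ ws V (M.e w) := by
  refine LL_le fun g hg => ?_
  refine le_ws ⟨⟨g, rfl⟩, ?_⟩
  have hzR : M.e w ∈ M.line w := ⟨1, by rw [one_smul]⟩
  rw [← hR, ← hg] at hzR
  have h1 := cj_mono (g := g) (hR.le.trans (M.line_le w)) hzR
  exact h1

namespace MixedN

variable {F₁ F₂ : Type*} [Field F₁] [Field F₂] {V₁ V₂ N₁ N₂ : Subgroup G} {M₁ : RMod F₁ V₁ N₁} {M₂ : RMod F₂ V₂ N₂}
  {R : Subgroup G} (m : MixedN M₁ M₂ R) [Finite F₁] [Finite F₂] [CharP F₁ 2] [CharP F₂ 2]
include m

/-- **`q = 2`** -/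
theorem exists_pair (hch : IsCharacteristicTwoType G) (h1 : Nat.card F₁ = 2) (h2 : Nat.card F₂ = 2) :
    ∃ (S : Sylow 2 G) (z : G), CaseL.Pair (S : Subgroup G) V₁ V₂ z := by
  obtain ⟨S, hS1, hS2, hS3, hZ⟩ := m.sylow
  obtain ⟨w₁, hw₁, hR₁⟩ := m.line₁
  obtain ⟨w₂, hw₂, hR₂⟩ := m.line₂
  have hz : M₁.e w₁ = M₂.e w₂ := by
    have h3 : M₁.e w₁ ∈ M₁.line w₁ := (mem_line_two M₁ h1).2 (Or.inr rfl)
    rw [← hR₁, hR₂] at h3
    rcases (mem_line_two M₂ h2).1 h3 with h | h
    · exact absurd (M₁.e_eq_one.1 h) hw₁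
    · exact h
  have e1 : ws V₁ (M₁.e w₁) = LL V₁ R R := le_antisymm (ws_le_LL M₁ h1 hw₁ hR₁) (LL_le_ws M₁ hR₁)
  have e2 : ws V₂ (M₁.e w₁) = LL V₂ R R := by
    rw [hz]
    exact le_antisymm (ws_le_LL M₂ h2 hw₂ hR₂) (LL_le_ws M₂ hR₂)
  refine ⟨S, M₁.e w₁, ?_⟩
  exact
    { v := ln_of M₁ h1 hw₁ S hS1 (hR₁ ▸ hS3) (hR₁ ▸ hZ) hch
      w := by
        rw [hz]
        exact ln_of M₂ h2 hw₂ S hS2 (hR₂ ▸ hS3) (hR₂ ▸ hZ) hch
      abV := by rw [e1]; exact m.comm₁
      abW := by rw [e2]; exact m.comm₂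
      nc := by rw [e1, e2]; exact m.ne }

end MixedN

end Cfsg.Agent.Omega.Mix

end
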